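import Groth.Agent.ShStab.K848.Hartogs
import Groth.Agent.SDiv.K476.HomSh4
import Groth.Agent.CycA.IntLocal
import Groth.Agent.Ega3B.Devissage
import Groth.Prelude.Def_ShStab

/-!
# Reflexive modules: Hartogs, purity, and isomorphisms in codimension one
-/

set_option autoImplicit false
universe u
open CategoryTheory CategoryTheory.Limits AlgebraicGeometry Opposite TopologicalSpace

namespace K849.Reflex

open Groth.Agent.CycB.StalkExact Groth.Agent.VarietyB.ExactLoc
open Groth.Agent.Divis.StalkMod Groth.Agent.Divis.ReflexAlg Groth.Agent.Divis.ExtendStalk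
open Groth.Agent.Divis.ReflexSheaf Groth.Agent.Divis.DepthTwo K848.Hartogs

variable {X : Scheme.{u}}

/-- Hartogs for reflexive modules. -/
theorem isIso_unit [IsIntegral X] [IsLocallyNoetherian X]
    (hn : ∀ x : X, IsIntegrallyClosed (X.presheaf.stalk x)) {U : X.Opens} (hU : Big U) {G : X.Modules}
    (hG : Coh.IsCoh G) (hr : RefHull.IsReflexive G) :
    IsIso ((Scheme.Modules.restrictAdjunction U.ι).unit.app G) := by
  rw [isIso_unit_iff]
  refine bijective_of_stalk hG U fun x hx => ?_
  have := hn x
  obtain ⟨a, ha, b, hb, hab⟩ := exists_regPair_of_isIntegrallyClosed (hU x hx)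
  have h1 : Module.IsReflexive (X.presheaf.stalk x) (G.presheaf.stalk x) :=
    (K476.HomSh4.isReflexive_iff_isReflexiveAt hG).1 hr x
  exact ⟨a, ha, b, hb, regPair_of_isReflexive hab⟩

/-- A morphism of coherent reflexive modules which is an isomorphism on a big open is an isomorphism. -/
theorem isIso_of_big [IsIntegral X] [IsLocallyNoetherian X]
    (hn : ∀ x : X, IsIntegrallyClosed (X.presheaf.stalk x)) {U : X.Opens} (hU : Big U) {F G : X.Modules}
    (hF : Coh.IsCoh F) (hFr : RefHull.IsReflexive F) (hG : Coh.IsCoh G) (hGr : RefHull.IsReflexive G)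
    (φ : F ⟶ G) (hφ : ∀ x ∈ U, Function.Bijective (stalkLin φ x)) : IsIso φ := by
  have hFu := isIso_unit hn hU hF hFr
  have hGu := isIso_unit hn hU hG hGr
  have hiso := isIso_restrict_of_stalk φ hφ
  obtain ⟨ψ, hψ⟩ := exists_map_eq_of_unit (Scheme.Modules.restrictAdjunction U.ι)
    (inv ((Scheme.Modules.restrictFunctor U.ι).map φ))
  refine ⟨ψ, ?_, ?_⟩
  · apply map_injective_of_unit (Scheme.Modules.restrictAdjunction U.ι)
    rw [Functor.map_comp, hψ, IsIso.hom_inv_id, CategoryTheory.Functor.map_id]
  · apply map_injective_of_unit (Scheme.Modules.restrictAdjunction U.ι)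
    rw [Functor.map_comp, hψ, IsIso.inv_hom_id, CategoryTheory.Functor.map_id]

/-- Reflexive coherent modules are torsion free. -/
theorem isTorsionFree_of_reflexive [IsIntegral X] [IsLocallyNoetherian X] {F : X.Modules}
    (hF : Coh.IsCoh F) (hFr : RefHull.IsReflexive F) : TorSh.IsTorsionFree F := by
  intro x
  have h1 : Module.IsReflexive (X.presheaf.stalk x) (F.presheaf.stalk x) :=
    (K476.HomSh4.isReflexive_iff_isReflexiveAt hF).1 hFr x
  have h2 := dual_isTorsionFree (R := X.presheaf.stalk x) (Module.Dual (X.presheaf.stalk x) (F.presheaf.stalk x))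
  exact (Module.bijective_dual_eval (X.presheaf.stalk x) (F.presheaf.stalk x)).injective.moduleIsTorsionFree
    _ (fun a m => map_smul _ a m)

/-- Torsion free modules on an integral scheme of dimension `n` are pure of dimension `n`. -/
theorem isPure_of_torsionFree [IsIntegral X] {F : X.Modules} (htf : TorSh.IsTorsionFree F) {n : ℕ}
    (hX : topologicalKrullDim X = (n : WithBot ℕ∞)) : ShStab.IsPure X F n := by
  intro G ι _ hG hG0
  have h1 := K848.TF.isTorsionFree_of_mono ι htf
  have h2 : genericPoint X ∈ CohB1.support G := by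
    by_contra hne
    exact hG0 (K848.TF.isZero_of_generic hG.1 h1 hne)
  have h3 : CohB1.support G = Set.univ := by
    have hcl : IsClosed (CohB1.support G) := Groth.Agent.Ega3B.Devissage.isClosed_support hG
    rw [Set.eq_univ_iff_forall]
    intro x
    exact hcl.closure_subset_iff.2 (Set.singleton_subset_iff.2 h2) (by
      rw [genericPoint_closure]
      trivial)
  rw [h3, ← hX]
  exact (Homeomorph.Set.univ X).isHomeomorph.topologicalKrullDim_eq

end K849.Reflex
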