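import Groth.Agent.ShStab.K848.TF
import Groth.Agent.ShStab.K848.Hull
import Groth.Agent.Fdesc.Skyscraper
import Groth.Agent.Ega1.QCohLoc
import Groth.Agent.Fga.QT2

/-!
# The constant module attached to a vector space over the function field

`X` integral, `η` the generic point, `W` a vector space over the function field `O_{X, η}`.
* `cst W`: the constant module; `homEquiv : (M ⟶ cst W) ≃ (M_η →ₗ W)`; `st W y : (cst W)_y ≃+ W`; `isQCoh_cst`.
* `exists_factor`: factorization of a map through a monomorphism, by stalks.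
* `exists_hom`: a linear map on generic stalks preserving all stalks comes from a morphism.
* `genSub G W`: the submodule of the sections of `G` with generic germ in `W`.
-/

set_option autoImplicit false
universe u
open CategoryTheory CategoryTheory.Limits AlgebraicGeometry Opposite TopologicalSpace

namespace K849.Cst

open Groth.Agent Groth.Agent.Fdesc.Skyscraper Groth.Agent.VarietyB.ExactLoc
open Groth.Agent.CycB.StalkExact hiding germ_smul
open K848.TF

variable {X : Scheme.{u}} [IsIntegral X]

section cst

variable (W : Type u) [AddCommGroup W] [Module (X.presheaf.stalk (genericPoint X)) W]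

/-- The constant module. -/
noncomputable abbrev cst : X.Modules := sky (genericPoint X) W

omit [IsIntegral X] in
theorem ofSky_comp {x : X} {Q : Type u} [AddCommGroup Q] [Module (X.presheaf.stalk x) Q] {M N : X.Modules}
    (φ : M ⟶ N) (g : N ⟶ sky x Q) : ofSky (φ ≫ g) = (ofSky g).comp (stalkLin φ x) := by
  ext m
  obtain ⟨U, hU, s, rfl⟩ := M.presheaf.exists_germ_eq m
  rw [LinearMap.comp_apply, stalkLin_germ, ofSky_germ, ofSky_germ]
  rfl

theorem gen_mem {U : X.Opens} {y : X} (hy : y ∈ U) : genericPoint X ∈ U := (gen y).mem_open U.isOpen hy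

omit [IsIntegral X] in
theorem germ_spec (M : X.Modules) {x y : X} (h : x ⤳ y) {U : X.Opens} (hy : y ∈ U) (s : Γ(M, U)) :
    M.presheaf.stalkSpecializes h (M.presheaf.germ U y hy s) = M.presheaf.germ U x (h.mem_open U.isOpen hy) s :=
  TopCat.Presheaf.germ_stalkSpecializes_apply M.presheaf hy h s

omit [IsIntegral X] in
theorem germ_spec_O {x y : X} (h : x ⤳ y) {U : X.Opens} (hy : y ∈ U) (s : Γ(X, U)) :
    X.presheaf.stalkSpecializes h (X.presheaf.germ U y hy s) = X.presheaf.germ U x (h.mem_open U.isOpen hy) s :=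
  TopCat.Presheaf.germ_stalkSpecializes_apply X.presheaf hy h s

omit [IsIntegral X] in
/-- Specialization of stalks is semilinear. -/
theorem spec_smul (M : X.Modules) {x y : X} (h : x ⤳ y) (r : X.presheaf.stalk y) (m : M.presheaf.stalk y) :
    M.presheaf.stalkSpecializes h (r • m) =
      X.presheaf.stalkSpecializes h r • M.presheaf.stalkSpecializes h m := by
  obtain ⟨U, hU, r, rfl⟩ := X.presheaf.exists_germ_eq r
  obtain ⟨V, hV, m, rfl⟩ := M.presheaf.exists_germ_eq m
  have hUV : y ∈ U ⊓ V := ⟨hU, hV⟩
  have h1 : X.presheaf.germ (U ⊓ V) y hUV (X.presheaf.map (homOfLE inf_le_left).op r) =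
      X.presheaf.germ U y hU r := TopCat.Presheaf.germ_res_apply X.presheaf _ y hUV r
  have h2 : M.presheaf.germ (U ⊓ V) y hUV (M.presheaf.map (homOfLE inf_le_right).op m) =
      M.presheaf.germ V y hV m := TopCat.Presheaf.germ_res_apply M.presheaf _ y hUV m
  rw [← h1, ← h2, ← germ_smul, germ_spec, germ_spec, germ_spec_O, germ_smul]

/-- The stalk of the constant module. -/
noncomputable def stHom (y : X) : (cst W : X.Modules).presheaf.stalk y →+ W :=
  (ofSky (𝟙 (cst W : X.Modules))).toAddMonoidHom.comp ((cst W : X.Modules).presheaf.stalkSpecializes (gen y)).hom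

theorem stHom_germ (y : X) {U : X.Opens} (hy : y ∈ U) (s : Γ((cst W : X.Modules), U)) :
    stHom W y ((cst W : X.Modules).presheaf.germ U y hy s) = (s : Sec (genericPoint X) W U) ⟨gen_mem hy⟩ := by
  change ofSky (𝟙 (cst W : X.Modules)) ((cst W : X.Modules).presheaf.stalkSpecializes (gen y) _) = _
  rw [germ_spec, ofSky_germ]
  rfl

theorem stHom_bijective (y : X) : Function.Bijective (stHom W y) := by
  constructor
  · rw [injective_iff_map_eq_zero]
    intro m hm
    obtain ⟨U, hU, s, rfl⟩ := (cst W : X.Modules).presheaf.exists_germ_eq m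
    rw [stHom_germ] at hm
    have : s = 0 := by
      refine (funext fun h => ?_ : (s : Sec (genericPoint X) W U) = 0)
      exact hm
    rw [this, map_zero]
  · intro w
    have hy : y ∈ (⊤ : X.Opens) := trivial
    exact ⟨(cst W : X.Modules).presheaf.germ ⊤ y hy
      (show Γ((cst W : X.Modules), ⊤) from (fun _ => w : Sec (genericPoint X) W ⊤)), stHom_germ W y hy _⟩

theorem stHom_smul (y : X) (r : X.presheaf.stalk y) (m : (cst W : X.Modules).presheaf.stalk y) :
    stHom W y (r • m) = X.presheaf.stalkSpecializes (gen y) r • stHom W y m := by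
  change ofSky (𝟙 (cst W : X.Modules)) ((cst W : X.Modules).presheaf.stalkSpecializes (gen y) _) = _
  rw [spec_smul, map_smul]
  rfl

variable {W}

/-- The map on stalks of a morphism to the constant module. -/
theorem stHom_stalkLin {G : X.Modules} (φ : G ⟶ cst W) (y : X) (m : G.presheaf.stalk y) :
    stHom W y (stalkLin φ y m) = ofSky φ (G.presheaf.stalkSpecializes (gen y) m) := by
  obtain ⟨U, hU, s, rfl⟩ := G.presheaf.exists_germ_eq m
  rw [stalkLin_germ, stHom_germ, germ_spec, ofSky_germ]

variable (W) in
theorem isQCoh_cst : Coh.IsQCoh (cst W : X.Modules) := by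
  refine Ega1.QCohLoc.isQCoh_of_isLocOnAffines _ fun U hU f => ⟨fun s => ?_, fun t ht => ?_⟩
  · by_cases h : genericPoint X ∈ X.basicOpen f
    · refine ⟨0, (show Γ((cst W : X.Modules), U) from
        (fun _ => (s : Sec (genericPoint X) W (X.basicOpen f)) ⟨h⟩ : Sec (genericPoint X) W U)), ?_⟩
      rw [pow_zero, one_smul]
      rfl
    · refine ⟨0, 0, ?_⟩
      rw [pow_zero, one_smul, map_zero]
      refine (funext fun h' => absurd h'.down h : (0 : Sec (genericPoint X) W (X.basicOpen f)) = s)
  · by_cases h : genericPoint X ∈ X.basicOpen f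
    · refine ⟨0, ?_⟩
      rw [pow_zero, one_smul]
      refine (funext fun h' => ?_ : (t : Sec (genericPoint X) W U) = 0)
      exact congrFun (ht : (_ : Sec (genericPoint X) W (X.basicOpen f)) = 0) ⟨h⟩
    · refine ⟨1, ?_⟩
      rw [pow_one]
      refine (funext fun h' => ?_ : (f • (t : Sec (genericPoint X) W U)) = 0)
      change X.presheaf.germ U (genericPoint X) h'.down f • (t : Sec (genericPoint X) W U) h' = 0
      have h1 : X.presheaf.germ U (genericPoint X) h'.down f = 0 := by
        by_contra h2
        apply h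
        rw [Scheme.mem_basicOpen _ _ _ h'.down]
        exact isUnit_iff_ne_zero.2 h2
      rw [h1, zero_smul]

end cst

section factor

omit [IsIntegral X] in
/-- Factorization through a monomorphism, by stalks. -/
theorem exists_factor {M N C : X.Modules} (f : M ⟶ C) (i : N ⟶ C) [Mono i]
    (h : ∀ y (m : M.presheaf.stalk y), stalkLin f y m ∈ LinearMap.range (stalkLin i y)) :
    ∃ g : M ⟶ N, g ≫ i = f := by
  have h1 : f ≫ cokernel.π i = 0 := by
    ext U s
    change (f ≫ cokernel.π i).app U s = 0
    refine eq_zero_of_germ _ fun x hx => ?_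
    rw [← stalkLin_germ, stalkLin_comp, LinearMap.comp_apply]
    obtain ⟨n, hn⟩ := h x (M.presheaf.germ U x hx s)
    rw [← hn, ← LinearMap.comp_apply, ← stalkLin_comp, cokernel.condition]
    obtain ⟨V, hV, n, rfl⟩ := N.presheaf.exists_germ_eq n
    rw [stalkLin_germ]
    exact map_zero _
  have hK := Abelian.monoIsKernelOfCokernel _ (colimit.isColimit (parallelPair i 0))
  let l := KernelFork.IsLimit.lift' hK f h1
  exact ⟨l.1, l.2⟩

/-- **Morphisms from generic linear maps.**  A linear map of generic stalks preserving all the stalks comes from a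
morphism. -/
theorem exists_hom {M N : X.Modules} (hN : Coh.IsQCoh N) (hNt : TorSh.IsTorsionFree N)
    (θ : M.presheaf.stalk (genericPoint X) →ₗ[X.presheaf.stalk (genericPoint X)] N.presheaf.stalk (genericPoint X))
    (h : ∀ y (m : M.presheaf.stalk y), ∃ n : N.presheaf.stalk y,
      N.presheaf.stalkSpecializes (gen y) n = θ (M.presheaf.stalkSpecializes (gen y) m)) :
    ∃ φ : M ⟶ N, stalkLin φ (genericPoint X) = θ := by
  let i : N ⟶ cst (N.presheaf.stalk (genericPoint X)) := toSky LinearMap.id
  have hi : ∀ y (n : N.presheaf.stalk y), stHom _ y (stalkLin i y n) = N.presheaf.stalkSpecializes (gen y) n := by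
    intro y n
    rw [stHom_stalkLin, ofSky_toSky]
    rfl
  have hmono : Mono i := mono_of_stalk i fun y => by
    intro n n' hnn
    apply spec_injective hN hNt y
    rw [← hi, ← hi, hnn]
  obtain ⟨g, hg⟩ := exists_factor (toSky (x := genericPoint X) θ) i (fun y m => by
    obtain ⟨n, hn⟩ := h y m
    refine ⟨n, (stHom_bijective _ y).1 ?_⟩
    rw [hi, hn, stHom_stalkLin, ofSky_toSky])
  refine ⟨g, ?_⟩
  have h1 := ofSky_comp g i
  rw [hg, ofSky_toSky, ofSky_toSky] at h1
  exact h1.symm

end factor

section genSub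

open Groth.Agent.Ega1.SubSheaf Groth.Agent.Ega1.LocMod Groth.Agent.Ega1.QCohOfLoc Groth.Agent.Ega1.SubExt

variable (G : X.Modules) (W : Submodule (X.presheaf.stalk (genericPoint X)) (G.presheaf.stalk (genericPoint X)))

/-- The sections of `G` with generic germ in `W`. -/
noncomputable def genSub : Sub G where
  obj U :=
    { carrier := {s | ∀ h : genericPoint X ∈ U, G.presheaf.germ U _ h s ∈ W}
      add_mem' := fun {a b} ha hb h => by rw [map_add]; exact W.add_mem (ha h) (hb h)
      zero_mem' := fun h => by rw [map_zero]; exact W.zero_mem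
      smul_mem' := fun r s hs h => by
        rw [germ_smul]
        exact W.smul_mem _ (hs h) }
  map_mem {U V} h s hs := fun hV => by
    have h1 := TopCat.Presheaf.germ_res_apply G.presheaf (homOfLE h) (genericPoint X) hV s
    rw [h1]
    exact hs (h hV)
  local_mem {U} s hs := fun hU => by
    obtain ⟨V, hV, hηV, h1⟩ := hs _ hU
    have h2 := TopCat.Presheaf.germ_res_apply G.presheaf (homOfLE hV) (genericPoint X) hηV s
    rw [← h2]
    exact h1 hηV

theorem mem_genSub {U : X.Opens} (s : Γ(G, U)) : s ∈ (genSub G W).obj U ↔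
    ∀ h : genericPoint X ∈ U, G.presheaf.germ U _ h s ∈ W := Iff.rfl

theorem isQCoh_genSub (hG : Coh.IsQCoh G) : Coh.IsQCoh (genSub G W).toModules := by
  refine Groth.Agent.Fga.QT2.isQCoh_of_qc hG _ fun x => ?_
  obtain ⟨_, ⟨U, hU, rfl⟩, hxU, -⟩ := X.isBasis_affineOpens.exists_subset_of_mem_open
    (Set.mem_univ x) isOpen_univ
  refine ⟨U, hxU, hU, fun f s hs => ?_⟩
  by_cases h : genericPoint X ∈ X.basicOpen f
  · refine ⟨0, fun hU => ?_⟩
    rw [pow_zero, one_smul]
    have h2 := TopCat.Presheaf.germ_res_apply G.presheaf (homOfLE (X.basicOpen_le f)) (genericPoint X) h s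
    rw [← h2]
    exact hs h
  · refine ⟨1, fun h' => ?_⟩
    have h1 : X.presheaf.germ U (genericPoint X) h' f = 0 := by
      by_contra h2
      apply h
      rw [Scheme.mem_basicOpen _ _ _ h']
      exact isUnit_iff_ne_zero.2 h2
    rw [pow_one, germ_smul, h1, zero_smul]
    exact W.zero_mem

/-- The stalks of `genSub`. -/
theorem range_stalk_genSub (y : X) (m : G.presheaf.stalk y) :
    m ∈ LinearMap.range (stalkLin (genSub G W).ι y) ↔ G.presheaf.stalkSpecializes (gen y) m ∈ W := by
  constructor
  · rintro ⟨n, rfl⟩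
    obtain ⟨U, hU, n, rfl⟩ := (genSub G W).toModules.presheaf.exists_germ_eq n
    rw [stalkLin_germ, germ_spec]
    exact (genSub G W).ι_app_mem n (gen_mem hU)
  · intro h
    obtain ⟨U, hU, s, rfl⟩ := G.presheaf.exists_germ_eq m
    rw [germ_spec] at h
    refine ⟨(genSub G W).toModules.presheaf.germ U y hU ((genSub G W).sec s fun _ => h), ?_⟩
    rw [stalkLin_germ]
    rfl

instance : Mono (genSub G W).ι := mono_of_stalk _ fun y => by
  rw [injective_iff_map_eq_zero]
  intro n hn
  obtain ⟨U, hU, n, rfl⟩ := (genSub G W).toModules.presheaf.exists_germ_eq n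
  rw [stalkLin_germ] at hn
  obtain ⟨V, hV, i, i', h1⟩ := G.presheaf.germ_eq y hU hU _ 0 (by rw [hn, map_zero])
  rw [map_zero] at h1
  have h2 : (genSub G W).toModules.presheaf.map i.op n = 0 := by
    apply (genSub G W).ι_app_injective
    have h3 : (genSub G W).ι.app V ((genSub G W).toModules.presheaf.map i.op n) =
        G.presheaf.map i.op ((genSub G W).ι.app U n) := by
      exact congr($((genSub G W).ι.mapPresheaf.naturality i.op) n)
    rw [h3, map_zero]
    exact h1
  have h3 := TopCat.Presheaf.germ_res_apply (genSub G W).toModules.presheaf i y hV n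
  rw [← h3, h2, map_zero]

end genSub

end K849.Cst
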