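import Groth.Agent.ASBun.K792.HomBC
import Groth.Agent.ASBun.K791.Tens
import Groth.Agent.Ega3B.AcyclicBC
import Groth.Agent.Ega3B.TensorAUnit
import Groth.Agent.Flat2E.FormalLift418
import Groth.Agent.Dcoh.Restrict
import Groth.Agent.Flat2G.AcyclicRing

/-!
# Base change of `Hom(E, F)`, `E` a finite sum of invertible modules, `F` flat and acyclic after twisting

`X` over `Spec A`, `X'` over `Spec B`, `sq : IsPullback π (X' ↘ Spec B) (X ↘ Spec A) (Spec A → B)`.
* `K849.HomBCF.isBaseChange_sec`: `Γ(X, G) ⊗ B = Γ(X', π^* G)` for `G` flat quasi-coherent and acyclic;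
* `K849.HomBCF.isB_of_invertible`: `Hom(N, F) ⊗ B = Hom(π^* N, π^* F)` if `N ⊗ P ≅ O` and `F ⊗ P` is acyclic.
-/

set_option autoImplicit false
set_option backward.isDefEq.respectTransparency false
universe u v
open CategoryTheory CategoryTheory.Limits AlgebraicGeometry Opposite TopologicalSpace
open scoped TensorProduct

namespace K849.HomBCF

open Groth.Agent K792.SecBC K792.HomBC

attribute [local instance] Groth.Agent.CurvesC.LinMod.linearModules

variable {A B : Type u} [CommRing A] [CommRing B] [Algebra A B] {X X' : Scheme.{u}}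
  [X.Over (Spec (CommRingCat.of A))] [X'.Over (Spec (CommRingCat.of B))] (π : X' ⟶ X)
  (sq : IsPullback π (X' ↘ Spec (CommRingCat.of B)) (X ↘ Spec (CommRingCat.of A))
    (Spec.map (CommRingCat.ofHom (algebraMap A B))))

/-- `Hom(E, F) ⊗ B = Hom(π^* E, π^* F)`. -/
def IsB (E F : X.Modules) : Prop :=
  letI : Module A ((Scheme.Modules.pullback π).obj E ⟶ (Scheme.Modules.pullback π).obj F) :=
    homModA (B := B) _ _
  haveI := isScalarTower_hom (A := A) (B := B) ((Scheme.Modules.pullback π).obj E) ((Scheme.Modules.pullback π).obj F)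
  IsBaseChange B (mapL π sq E F)

section sec

open VarietyB.FlatH0 VarietyB.BCAlg VarietyB.PullSec

include sq in
theorem isBaseChange_sec [QuasiCompact (X ↘ Spec (CommRingCat.of A))] [IsSeparated (X ↘ Spec (CommRingCat.of A))]
    (M : X.Modules) (hM : Coh.IsQCoh M) (hfl : FlatMod.IsFlatOver (X ↘ Spec (CommRingCat.of A)) M)
    (hvan : ∀ p, Subsingleton (Coh.HH X M (p + 1))) :
    letI : Module A (SecM B ((Scheme.Modules.pullback π).obj M) (π ⁻¹ᵁ ⊤)) := modA _ _
    haveI := isScalarTower_modA (A := A) (B := B) ((Scheme.Modules.pullback π).obj M) (π ⁻¹ᵁ ⊤)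
    IsBaseChange B (psL π sq M ⊤) := by
  let k1 : Module A (SecM B ((Scheme.Modules.pullback π).obj M) (π ⁻¹ᵁ ⊤)) := modA _ _
  have k2 := isScalarTower_modA (A := A) (B := B) ((Scheme.Modules.pullback π).obj M) (π ⁻¹ᵁ ⊤)
  have h1 := (Ega3B.AcyclicBC.acyclicBC sq M hM hfl hvan).2.1
  let i1 : Algebra Γ(Spec (CommRingCat.of A), ⊤) Γ(Spec (CommRingCat.of B), ⊤) :=
    algOver (Spec.map (CommRingCat.ofHom (algebraMap A B))) le_top
  let i3 : Module Γ(Spec (CommRingCat.of A), ⊤) (SecM A M ⊤) :=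
    modOver (X ↘ Spec (CommRingCat.of A)) M le_top
  let i4 : Module Γ(Spec (CommRingCat.of B), ⊤) (SecM B ((Scheme.Modules.pullback π).obj M) (π ⁻¹ᵁ ⊤)) :=
    modOver (X' ↘ Spec (CommRingCat.of B)) ((Scheme.Modules.pullback π).obj M) le_top
  let i5 : Algebra A Γ(Spec (CommRingCat.of A), ⊤) := (Scheme.ΓSpecIso (CommRingCat.of A)).inv.hom.toAlgebra
  let i6 : Algebra B Γ(Spec (CommRingCat.of B), ⊤) := (Scheme.ΓSpecIso (CommRingCat.of B)).inv.hom.toAlgebra
  let i7 : Algebra A Γ(Spec (CommRingCat.of B), ⊤) :=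
    (CommRingCat.ofHom (algebraMap A B) ≫ (Scheme.ΓSpecIso (CommRingCat.of B)).inv).hom.toAlgebra
  have happ : ∀ {Z W : Scheme.{u}} (h : Z ⟶ W), h.appLE ⊤ ⊤ le_top = h.appTop := by
    intro Z W h
    rw [Scheme.Hom.appLE, Scheme.Hom.appTop]
    exact (congrArg _ (Z.presheaf.map_id _)).trans (Category.comp_id _)
  have i8 : IsScalarTower A B Γ(Spec (CommRingCat.of B), ⊤) := IsScalarTower.of_algebraMap_eq (fun _ => rfl)
  have i9 : IsScalarTower A Γ(Spec (CommRingCat.of A), ⊤) Γ(Spec (CommRingCat.of B), ⊤) :=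
    IsScalarTower.of_algebraMap_eq (fun a => by
    change (CommRingCat.ofHom (algebraMap A B) ≫ (Scheme.ΓSpecIso (CommRingCat.of B)).inv) a =
      (Spec.map (CommRingCat.ofHom (algebraMap A B))).appLE ⊤ ⊤ le_top ((Scheme.ΓSpecIso (CommRingCat.of A)).inv a)
    rw [happ, ← CommRingCat.comp_apply, Scheme.ΓSpecIso_inv_naturality])
  have hsq : IsPushout (CommRingCat.ofHom (algebraMap A B)) (CommRingCat.ofHom (algebraMap A Γ(Spec (CommRingCat.of A), ⊤)))
      (CommRingCat.ofHom (algebraMap B Γ(Spec (CommRingCat.of B), ⊤)))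
      (CommRingCat.ofHom (algebraMap Γ(Spec (CommRingCat.of A), ⊤) Γ(Spec (CommRingCat.of B), ⊤))) := by
    have k1 : IsIso (CommRingCat.ofHom (algebraMap A Γ(Spec (CommRingCat.of A), ⊤))) :=
      inferInstanceAs (IsIso (Scheme.ΓSpecIso (CommRingCat.of A)).inv)
    have k2 : IsIso (CommRingCat.ofHom (algebraMap B Γ(Spec (CommRingCat.of B), ⊤))) :=
      inferInstanceAs (IsIso (Scheme.ΓSpecIso (CommRingCat.of B)).inv)
    refine IsPushout.of_vert_isIso ⟨?_⟩
    ext a
    exact IsScalarTower.algebraMap_apply A Γ(Spec (CommRingCat.of A), ⊤) Γ(Spec (CommRingCat.of B), ⊤) a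
  have i10 : Algebra.IsPushout A B Γ(Spec (CommRingCat.of A), ⊤) Γ(Spec (CommRingCat.of B), ⊤) :=
    CommRingCat.isPushout_iff_isPushout.mp hsq
  have i11 : IsScalarTower A Γ(Spec (CommRingCat.of A), ⊤) (SecM A M ⊤) := ⟨fun a b c => by
    rw [Algebra.smul_def, mul_smul]
    rfl⟩
  have i12 : IsScalarTower B Γ(Spec (CommRingCat.of B), ⊤)
      (SecM B ((Scheme.Modules.pullback π).obj M) (π ⁻¹ᵁ ⊤)) := ⟨fun a b c => by
    rw [Algebra.smul_def, mul_smul]
    rfl⟩
  let s : SecM A M ⊤ →ₛₗ[algebraMap A B] SecM B ((Scheme.Modules.pullback π).obj M) (π ⁻¹ᵁ ⊤) :=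
    { toFun := psL π sq M ⊤
      map_add' := map_add (psL π sq M ⊤)
      map_smul' := fun a m => (psL π sq M ⊤).map_smul a m }
  have h2 := bc_bijective_of_isPushout (R := A) (R' := B) (A := Γ(Spec (CommRingCat.of A), ⊤))
    (C := Γ(Spec (CommRingCat.of B), ⊤)) (M := SecM A M ⊤)
    (N := SecM B ((Scheme.Modules.pullback π).obj M) (π ⁻¹ᵁ ⊤)) s
    (secS sq.w M (US := ⊤) (UT := ⊤) le_top (UX := ⊤) le_top (UY := ⊤) le_top le_top)
    (fun _ => rfl) h1
  exact IsBaseChange.of_equiv (LinearEquiv.ofBijective (bc s) h2) (fun x => by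
    refine (bc_tmul s 1 x).trans ?_
    rw [one_smul]
    rfl)

end sec

section formal

variable {π} {E E' F F' : X.Modules}

theorem isB_congr (e : E ≅ E') (f : F ≅ F') : IsB π sq E F ↔ IsB π sq E' F' := by
  let i1 : Module A ((Scheme.Modules.pullback π).obj E ⟶ (Scheme.Modules.pullback π).obj F) :=
    homModA (B := B) _ _
  have i2 := isScalarTower_hom (A := A) (B := B) ((Scheme.Modules.pullback π).obj E) ((Scheme.Modules.pullback π).obj F)
  let i3 : Module A ((Scheme.Modules.pullback π).obj E' ⟶ (Scheme.Modules.pullback π).obj F') :=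
    homModA (B := B) _ _
  have i4 := isScalarTower_hom (A := A) (B := B) ((Scheme.Modules.pullback π).obj E') ((Scheme.Modules.pullback π).obj F')
  refine IsBaseChange.iff_of_equiv_comm (Linear.homCongr A e f)
    (Linear.homCongr B ((Scheme.Modules.pullback π).mapIso e) ((Scheme.Modules.pullback π).mapIso f)) ?_
  ext φ : 1
  change (Scheme.Modules.pullback π).map ((e.inv ≫ φ) ≫ f.hom) =
    ((Scheme.Modules.pullback π).mapIso e).inv ≫ (Scheme.Modules.pullback π).map φ ≫
      ((Scheme.Modules.pullback π).mapIso f).hom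
  simp

section tens

open MonoidalCategory
open scoped Groth.Agent.Dcoh.MonCat

/-- Tensoring with an invertible module, as a linear equivalence on homs. -/
noncomputable def tensEquiv (C : Type u) [CommRing C] {Y : Scheme.{u}} [Y.Over (Spec (CommRingCat.of C))]
    {N P : Y.Modules} (e : CohB1.tensorMod N P ≅ Coh.structureModule Y) (E F : Y.Modules) :
    (E ⟶ F) ≃ₗ[C] (CohB1.tensorMod E P ⟶ CohB1.tensorMod F P) :=
  LinearEquiv.ofBijective
    { toFun := fun f => (DCoh.tensorRightMod P).map f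
      map_add' := fun _ _ => (DCoh.tensorRightMod P).map_add
      map_smul' := fun a f => by
        change (DCoh.tensorRightMod P).map (f ≫ Formal.smulMod C F a) =
          (DCoh.tensorRightMod P).map f ≫ Formal.smulMod C _ a
        rw [Functor.map_comp, Ega3B.TensorAUnit.tensorRightMod_map_smul] }
    (by
      have h1 := Flat2E.FormalLift418.full_tw e
      have h2 := Flat2E.FormalLift418.faithful_tw e
      exact ⟨fun f g h => (DCoh.tensorRightMod P).map_injective h, fun g => (DCoh.tensorRightMod P).map_surjective g⟩)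

theorem map_tens {E F P : X.Modules} (f : E ⟶ F) :
    (Scheme.Modules.pullback π).map ((DCoh.tensorRightMod P).map f) =
      (ASBun.K791.Tens.pullTens π E P).hom ≫
        (DCoh.tensorRightMod ((Scheme.Modules.pullback π).obj P)).map ((Scheme.Modules.pullback π).map f) ≫
        (ASBun.K791.Tens.pullTens π F P).inv := by
  letI := Groth.Agent.Dcoh.MonPull.monPull π
  exact Functor.Monoidal.map_whiskerRight (Scheme.Modules.pullback π) f P

theorem isB_tens {N P : X.Modules} (e : CohB1.tensorMod N P ≅ Coh.structureModule X) :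
    IsB π sq E F ↔ IsB π sq (CohB1.tensorMod E P) (CohB1.tensorMod F P) := by
  let i1 : Module A ((Scheme.Modules.pullback π).obj E ⟶ (Scheme.Modules.pullback π).obj F) :=
    homModA (B := B) _ _
  have i2 := isScalarTower_hom (A := A) (B := B) ((Scheme.Modules.pullback π).obj E) ((Scheme.Modules.pullback π).obj F)
  let i3 : Module A ((Scheme.Modules.pullback π).obj (CohB1.tensorMod E P) ⟶
      (Scheme.Modules.pullback π).obj (CohB1.tensorMod F P)) := homModA (B := B) _ _
  have i4 := isScalarTower_hom (A := A) (B := B) ((Scheme.Modules.pullback π).obj (CohB1.tensorMod E P))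
    ((Scheme.Modules.pullback π).obj (CohB1.tensorMod F P))
  let e' : CohB1.tensorMod ((Scheme.Modules.pullback π).obj N) ((Scheme.Modules.pullback π).obj P) ≅
      Coh.structureModule X' :=
    (ASBun.K791.Tens.pullTens π N P).symm ≪≫ (Scheme.Modules.pullback π).mapIso e ≪≫ ASBun.K791.Tens.pullUnit π
  refine IsBaseChange.iff_of_equiv_comm (tensEquiv A e E F)
    ((tensEquiv B e' _ _).trans (Linear.homCongr B (ASBun.K791.Tens.pullTens π E P).symm
      (ASBun.K791.Tens.pullTens π F P).symm)) ?_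
  ext φ : 1
  change (Scheme.Modules.pullback π).map ((DCoh.tensorRightMod P).map φ) =
    ((ASBun.K791.Tens.pullTens π E P).hom ≫
      (DCoh.tensorRightMod ((Scheme.Modules.pullback π).obj P)).map ((Scheme.Modules.pullback π).map φ)) ≫
        (ASBun.K791.Tens.pullTens π F P).inv
  rw [map_tens, Category.assoc]

end tens

section unit

open Dcoh.Restrict

/-- Sections as homs from the structure module, linearly. -/
noncomputable def unitL (C : Type u) [CommRing C] {Y : Scheme.{u}} [Y.Over (Spec (CommRingCat.of C))]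
    (G : Y.Modules) : (Coh.structureModule Y ⟶ G) ≃ₗ[C] SecM C G ⊤ :=
  { unitEquiv G with
    map_smul' := fun a f => by
      change (a • f).app ⊤ (one ⊤) = _
      rw [smul_app]
      rfl }

variable (π) in
omit [X.Over (Spec (CommRingCat.of A))] [X'.Over (Spec (CommRingCat.of B))] in
theorem inv_one : (Fga.UnitRestrict.pullbackUnitIso π).inv.app (π ⁻¹ᵁ ⊤) (one (π ⁻¹ᵁ ⊤)) =
    ps π (Coh.structureModule X) ⊤ (one ⊤) := by
  have h2 : ((Fga.UnitRestrict.pullbackUnitIso π).hom).app (π ⁻¹ᵁ ⊤) (ps π (Coh.structureModule X) ⊤ (one ⊤)) =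
      one (π ⁻¹ᵁ ⊤) := by
    refine (Flat2G.AcyclicRing.pullbackUnitHom_sec π (le_refl (π ⁻¹ᵁ ⊤)) (1 : Γ(X, ⊤))).trans ?_
    exact _root_.map_one (π.appLE ⊤ (π ⁻¹ᵁ ⊤) le_rfl).hom
  rw [← h2]
  exact congr($(congrArg (fun f => Scheme.Modules.Hom.app f (π ⁻¹ᵁ ⊤))
    (Fga.UnitRestrict.pullbackUnitIso π).hom_inv_id) (ps π (Coh.structureModule X) ⊤ (one ⊤)))

theorem isB_unit (G : X.Modules) : IsB π sq (Coh.structureModule X) G ↔
    (letI : Module A (SecM B ((Scheme.Modules.pullback π).obj G) (π ⁻¹ᵁ ⊤)) := modA _ _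
    haveI := isScalarTower_modA (A := A) (B := B) ((Scheme.Modules.pullback π).obj G) (π ⁻¹ᵁ ⊤)
    IsBaseChange B (psL π sq G ⊤)) := by
  let i1 : Module A ((Scheme.Modules.pullback π).obj (Coh.structureModule X) ⟶ (Scheme.Modules.pullback π).obj G) :=
    homModA (B := B) _ _
  have i2 := isScalarTower_hom (A := A) (B := B) ((Scheme.Modules.pullback π).obj (Coh.structureModule X))
    ((Scheme.Modules.pullback π).obj G)
  let k1 : Module A (SecM B ((Scheme.Modules.pullback π).obj G) (π ⁻¹ᵁ ⊤)) := modA _ _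
  have k2 := isScalarTower_modA (A := A) (B := B) ((Scheme.Modules.pullback π).obj G) (π ⁻¹ᵁ ⊤)
  refine IsBaseChange.iff_of_equiv_comm (unitL A G)
    ((Linear.homCongr B (Fga.UnitRestrict.pullbackUnitIso π) (Iso.refl _)).trans (unitL B _)) ?_
  ext φ : 1
  change ps π G ⊤ (φ.app ⊤ (one ⊤)) =
    (((Fga.UnitRestrict.pullbackUnitIso π).inv ≫ (Scheme.Modules.pullback π).map φ) ≫ 𝟙 _).app ⊤ (one ⊤)
  rw [Category.comp_id, ← map_ps, ← inv_one π]
  rfl

end unit

end formal

end K849.HomBCF
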