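import Groth.Agent.ShStab.K849.AbsHN

/-!
# Abstract stability: Hom vanishing, maximal destabilising subobject, minimal destabilising quotient
-/

set_option autoImplicit false
set_option linter.unusedSectionVars false
set_option linter.style.haveILetI false

universe v u

open CategoryTheory CategoryTheory.Limits

namespace K849.Abs

open K849.LatHN Groth.Agent.Cohder.SubobjLattice

variable {C : Type u} [Category.{v} C] [Abelian C] {V : Type*} [AddCommGroup V] [LinearOrder V]
  [IsOrderedAddMonoid V] [Module ℚ V] [PosSMulStrictMono ℚ V]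
variable {ok : C → Prop} {P : C → V} {α : V →ₗ[ℚ] ℚ}

lemma Setup.alpha_nonneg (h : Setup ok P α) {E : C} (hE : ok E) : 0 ≤ α (P E) := by
  obtain ⟨n, hn⟩ := h.nat E hE
  rw [hn]
  exact Nat.cast_nonneg n

/-- Quotients of a semistable object have slope at least that of the object. -/
lemma ASS.quot (h : Setup ok P α) {E Q : C} (hE : ok E) (hQ : ok Q) (hss : ASS ok P α E) (p : E ⟶ Q)
    [Epi p] : redle α (P E) (P Q) := by
  have hK := h.ok_ker p hE hQ
  have hP : P E = P (kernel p) + P Q := by
    rw [h.P_kernel p hE hQ]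
    abel
  by_cases h0 : IsZero (kernel p)
  · rw [h.P_zero hK h0, zero_add] at hP
    rw [hP]
    exact redle_refl _
  · have := hss (kernel p) (kernel.ι p) inferInstance hK h0
    rw [hP] at this ⊢
    rw [redle_add_right_iff] at this
    rw [redle_add_left_iff]
    exact this

/-- Conversely semistability can be tested on quotients. -/
lemma ass_of_quot (h : Setup ok P α) {E : C} (hE : ok E)
    (hq : ∀ (Q : C) (p : E ⟶ Q), Epi p → ok Q → redle α (P E) (P Q)) : ASS ok P α E := by
  intro F ι _ hF _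
  have := hq (cokernel ι) (cokernel.π ι) inferInstance (h.ok_coker ι hF hE)
  have hP : P E = P F + P (cokernel ι) := by
    rw [h.P_cokernel ι hF hE]
    abel
  rw [hP] at this ⊢
  rw [redle_add_right_iff]
  rw [redle_add_left_iff] at this
  exact this

/-- The image of a morphism between `ok` objects. -/
lemma exists_image (h : Setup ok P α) {E F : C} (hE : ok E) (hF : ok F) (φ : E ⟶ F) :
    ∃ (I : C) (p : E ⟶ I) (i : I ⟶ F), Epi p ∧ Mono i ∧ p ≫ i = φ ∧ ok I ∧ (φ ≠ 0 → ¬ IsZero I) := by
  refine ⟨Abelian.image φ, Abelian.factorThruImage φ, Abelian.image.ι φ, inferInstance, inferInstance,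
    Abelian.image.fac φ, h.ok_ker _ hF (h.ok_coker φ hE hF), fun hφ hz => hφ ?_⟩
  rw [← Abelian.image.fac φ, hz.eq_of_src (Abelian.image.ι φ) 0, comp_zero]

/-- Hom vanishing between semistable objects. -/
theorem hom_eq_zero (h : Setup ok P α) {E F : C} (hE : ok E) (hF : ok F) (hEs : ASS ok P α E)
    (hFp : APure ok P α F) (hFs : ASS ok P α F) (hlt : redlt α (P F) (P E)) (φ : E ⟶ F) : φ = 0 := by
  by_contra hφ
  obtain ⟨I, p, i, hp, hi, -, hI, hI0⟩ := exists_image h hE hF φ
  have h0 := hI0 hφ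
  have h1 := hEs.quot h hE hI p
  have h2 := hFs I i hi hI h0
  exact not_le.2 hlt (redle_trans (hFp I i hi hI h0) (h.alpha_nonneg hE) (h.alpha_nonneg hF) h1 h2)

/-- Existence of the maximal destabilising subobject. -/
theorem exists_maxDestab (h : Setup ok P α) {E : C} (hE : ok E) (hE0 : ¬ IsZero E)
    (hp : APure ok P α E) : ∃ (F : C) (ι : F ⟶ E), Mono ι ∧ ok F ∧ ¬ IsZero F ∧
      ∀ (G : C) (κ : G ⟶ E), Mono κ → ok G → ¬ IsZero G →
        redle α (P G) (P F) ∧ (redle α (P F) (P G) → ∃ φ : G ⟶ F, φ ≫ ι = κ) := by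
  letI := okLattice h hE
  haveI : WellFoundedGT (Setup.OkSub ok E) := h.noeth E hE
  have hv := isVal h hE
  let b : Setup.OkSub ok E := ⟨⊥, ok_bot h hE⟩
  let t : Setup.OkSub ok E := ⟨⊤, ok_top h hE⟩
  have h0 : Pv P E b = 0 :=
    h.P_zero (ok_bot h hE) ((isZero_zero C).of_iso Subobject.botCoeIsoZero)
  have hb : ∀ c : Setup.OkSub ok E, ¬ IsZero (c.1 : C) → b < c := by
    intro c hc
    refine lt_of_le_of_ne (bot_le (a := c.1)) (fun he => hc ?_)
    rw [← he]
    exact (isZero_zero C).of_iso Subobject.botCoeIsoZero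
  have hc0 : ∀ c : Setup.OkSub ok E, b < c → ¬ IsZero (c.1 : C) := by
    intro c hc hz
    have : c.1 = ⊥ := by
      rw [eq_bot_iff]
      exact Subobject.le_of_comm 0 (by rw [zero_comp]; exact (hz.eq_of_src _ _))
    exact hc.ne' (Subtype.ext this)
  have hpure : ∀ c : Setup.OkSub ok E, b < c → 0 < α (Pv P E c - Pv P E b) := by
    intro c hc
    rw [h0, sub_zero]
    exact hp _ c.1.arrow inferInstance c.2 (hc0 c hc)
  have hbt : b < t := hb t (fun hz => hE0 (hz.of_iso (asIso (⊤ : Subobject E).arrow).symm))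
  obtain ⟨m, hm, hm1, hm2⟩ := hv.exists_maxDestab hpure ⟨t, hbt⟩
  refine ⟨(m.1 : C), m.1.arrow, inferInstance, m.2, hc0 m hm, fun G κ hκ hG hG0 => ?_⟩
  have hGk : ok ((Subobject.mk κ : Subobject E) : C) := h.ok_iso (Subobject.underlyingIso κ).symm hG
  have hPk : P ((Subobject.mk κ : Subobject E) : C) = P G := (h.P_iso (Subobject.underlyingIso κ).symm hG).symm
  have hlt : b < ⟨Subobject.mk κ, hGk⟩ := hb _ (fun hz => hG0 (hz.of_iso (Subobject.underlyingIso κ).symm))
  have k1 := hm1 ⟨Subobject.mk κ, hGk⟩ hlt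
  have k2 := hm2 ⟨Subobject.mk κ, hGk⟩ hlt
  rw [h0, sub_zero, sub_zero] at k1 k2
  have e1 : Pv P E (⟨Subobject.mk κ, hGk⟩ : Setup.OkSub ok E) = P G := hPk
  rw [e1] at k1 k2
  refine ⟨k1, fun hr => ?_⟩
  have hle : Subobject.mk κ ≤ m.1 := k2 hr
  exact ⟨(Subobject.underlyingIso κ).inv ≫ Subobject.ofLE _ _ hle, by simp⟩

/-- Uniqueness of the minimal destabilising quotient: if `s` is an HN filtration of `E` and `q : E ⟶ G` is a
pure nonzero quotient with the rank and slope of the last factor then `ker q` is the penultimate term. -/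
theorem kernel_eq_penult (h : Setup ok P α) {E : C} (hE : ok E) (s : LTSeries (Subobject E))
    (hs : IsAHN ok P α s) {G : C} (q : E ⟶ G) [Epi q] (hG : ok G) (hG0 : ¬ IsZero G)
    (hGp : APure ok P α G)
    (hα : α (P (cokernel s.eraseLast.last.arrow)) ≤ α (P G))
    (hr : redle α (P G) (P (cokernel s.eraseLast.last.arrow))) :
    s.eraseLast.last = kernelSubobject q := by
  letI := okLattice h hE
  letI := okOrderTop h hE
  have hv := isVal h hE
  obtain ⟨hs1, hs2, hs3, hs4⟩ := hs
  have hok := ok_term h hE s hs1 (fun i => (hs3 i).1)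
  have hE0 : ¬ IsZero E := fun hz => hG0 (by
    rw [IsZero.iff_id_eq_zero, ← cancel_epi q]
    exact hz.eq_of_src _ _)
  have hlen : 0 < s.length := by
    rcases Nat.eq_zero_or_pos s.length with h0 | h0
    · exfalso
      have e : s.head = s.last := by
        change s 0 = s (Fin.last _)
        congr 1
        exact Fin.ext (by simp [h0])
      rw [hs1, hs2] at e
      apply hE0
      exact ((isZero_zero C).of_iso Subobject.botCoeIsoZero).of_iso
        ((asIso (⊤ : Subobject E).arrow).symm ≪≫ eqToIso (by rw [← e]))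
    · exact h0
  let t := liftSeries s hok
  have ht : IsHN (Pv P E) α t := by
    rw [isHN_iff h hE]
    exact ⟨fun i => (hs3 i).2, hs4⟩
  have hkok : ok ((kernelSubobject q : Subobject E) : C) :=
    h.ok_iso (kernelSubobjectIso q).symm (h.ok_ker q hE hG)
  let g : Setup.OkSub ok E := ⟨kernelSubobject q, hkok⟩
  have htlen : 0 < t.length := hlen
  have hlast : s.eraseLast.last = (t ⟨t.length - 1, by omega⟩).1 := by
    rw [RelSeries.last_eraseLast]
    rfl
  -- values
  have hPtop : Pv P E (⊤ : Setup.OkSub ok E) = P E := by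
    exact (h.P_iso (asIso (⊤ : Subobject E).arrow) (ok_top h hE))
  have hPg : Pv P E (⊤ : Setup.OkSub ok E) - Pv P E g = P G := by
    rw [hPtop]
    have e1 : Pv P E g = P (kernel q) := h.P_iso (kernelSubobjectIso q) hkok
    rw [e1, h.P_kernel q hE hG]
    abel
  have hPe : Pv P E (⊤ : Setup.OkSub ok E) - Pv P E (t ⟨t.length - 1, by omega⟩) = P (cokernel s.eraseLast.last.arrow) := by
    rw [hPtop]
    have hx : ok ((s.eraseLast.last : Subobject E) : C) := by
      rw [hlast]
      exact (t ⟨t.length - 1, by omega⟩).2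
    rw [h.P_cokernel _ hx hE]
    have : Pv P E (t ⟨t.length - 1, by omega⟩) = P ((s.eraseLast.last : Subobject E) : C) := by
      rw [hlast]
      rfl
    rw [this]
  have hpg : PureInt (Pv P E) α g ⊤ := by
    rw [pureInt_iff h hE g ⊤ le_top]
    -- `⊤ / ker q ≅ G`
    have hc : (Subobject.ofLE g.1 ⊤ le_top) ≫ ((⊤ : Subobject E).arrow ≫ q) = 0 := by
      rw [← Category.assoc, Subobject.ofLE_arrow]
      exact kernelSubobject_arrow_comp q
    let f : cokernel (Subobject.ofLE g.1 ⊤ le_top) ⟶ G := cokernel.desc _ ((⊤ : Subobject E).arrow ≫ q) hc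
    have hf : Mono f := by
      rw [Preadditive.mono_iff_cancel_zero]
      intro T y hy
      obtain ⟨T₁, π₁, hπ₁, y₁, hy₁⟩ := surjective_up_to_refinements_of_epi
        (cokernel.π (Subobject.ofLE g.1 ⊤ le_top)) y
      have h1 : (y₁ ≫ (⊤ : Subobject E).arrow) ≫ q = 0 := by
        have : (y₁ ≫ (⊤ : Subobject E).arrow) ≫ q = π₁ ≫ y ≫ f := by
          rw [← Category.assoc π₁, hy₁]
          simp [f]
        rw [this, hy, comp_zero]
      have h3 : y₁ = factorThruKernelSubobject q _ h1 ≫ Subobject.ofLE g.1 ⊤ le_top := by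
        rw [← cancel_mono (⊤ : Subobject E).arrow, Category.assoc, Subobject.ofLE_arrow]
        exact (factorThruKernelSubobject_comp_arrow q _ h1).symm
      rw [← cancel_epi π₁, hy₁, h3, Category.assoc, cokernel.condition, comp_zero, comp_zero]
    intro F ι hι hF hF0
    exact hGp F (ι ≫ f) (mono_comp _ _) hF hF0
  have := penult_eq hv (s := t) (Subtype.ext hs2) ht htlen g
    (by
      change t.head.1 ≤ g.1
      have : t.head.1 = ⊥ := hs1
      rw [this]
      exact bot_le) hpg (by rw [hPg, hPe]; exact hα) (by rw [hPg, hPe]; exact hr)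
  rw [hlast, this]

end K849.Abs
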