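import Groth.Prelude.Def_StabCat
import Mathlib.Analysis.Polynomial.Basic
import Mathlib.Algebra.Polynomial.Eval.SMul
import Mathlib.Algebra.Order.Module.Defs
import Mathlib.Algebra.Order.Archimedean.Basic

/-!
# The eventual order on `ℚ[X]`, and reduced comparison calculus

`PV` is a copy of `ℚ[X]` ordered by `StabCat.PolyLE`; it is a linearly ordered `ℚ`-vector space.
-/

set_option autoImplicit false

open Polynomial Filter

namespace K849.PolyOrd

open StabCat

lemma polyLT_zero_of_leadingCoeff_pos {P : ℚ[X]} (h : 0 < P.leadingCoeff) : PolyLT 0 P := by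
  by_cases hd : P.degree ≤ 0
  · rw [Polynomial.eq_C_of_degree_le_zero hd] at h ⊢
    simp only [leadingCoeff_C] at h
    exact ⟨0, fun m _ => by simpa using h⟩
  · rw [not_le] at hd
    have := Polynomial.tendsto_atTop_of_leadingCoeff_nonneg P hd h.le
    have h2 := (this.comp tendsto_natCast_atTop_atTop).eventually_gt_atTop (0 : ℚ)
    rw [eventually_atTop] at h2
    obtain ⟨N, hN⟩ := h2
    exact ⟨N, fun m hm => by simpa using hN m hm⟩

lemma polyLE_of_polyLT {P Q : ℚ[X]} (h : PolyLT P Q) : PolyLE P Q := by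
  obtain ⟨N, hN⟩ := h
  exact ⟨N, fun m hm => (hN m hm).le⟩

lemma polyLE_refl (P : ℚ[X]) : PolyLE P P := ⟨0, fun _ _ => le_rfl⟩

lemma polyLE_trans {P Q R : ℚ[X]} (h : PolyLE P Q) (h' : PolyLE Q R) : PolyLE P R := by
  obtain ⟨N, hN⟩ := h
  obtain ⟨N', hN'⟩ := h'
  exact ⟨max N N', fun m hm => (hN m (le_trans (le_max_left _ _) hm)).trans
    (hN' m (le_trans (le_max_right _ _) hm))⟩

lemma polyLE_add {P Q P' Q' : ℚ[X]} (h : PolyLE P Q) (h' : PolyLE P' Q') :
    PolyLE (P + P') (Q + Q') := by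
  obtain ⟨N, hN⟩ := h
  obtain ⟨N', hN'⟩ := h'
  refine ⟨max N N', fun m hm => ?_⟩
  simp only [eval_add]
  exact add_le_add (hN m (le_trans (le_max_left _ _) hm)) (hN' m (le_trans (le_max_right _ _) hm))

lemma polyLE_iff_sub {P Q : ℚ[X]} : PolyLE P Q ↔ PolyLE 0 (Q - P) := by
  constructor
  · rintro ⟨N, hN⟩
    exact ⟨N, fun m hm => by simpa using hN m hm⟩
  · rintro ⟨N, hN⟩
    exact ⟨N, fun m hm => by simpa using hN m hm⟩

lemma polyLT_iff_sub {P Q : ℚ[X]} : PolyLT P Q ↔ PolyLT 0 (Q - P) := by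
  constructor
  · rintro ⟨N, hN⟩
    exact ⟨N, fun m hm => by simpa using hN m hm⟩
  · rintro ⟨N, hN⟩
    exact ⟨N, fun m hm => by simpa using hN m hm⟩

lemma not_polyLE_of_polyLT {P Q : ℚ[X]} (h : PolyLT P Q) : ¬ PolyLE Q P := by
  rintro ⟨N, hN⟩
  obtain ⟨N', hN'⟩ := h
  exact absurd (hN' _ (le_max_right N N')) (not_lt.2 (hN _ (le_max_left N N')))

lemma leadingCoeff_cases (P : ℚ[X]) : P = 0 ∨ 0 < P.leadingCoeff ∨ 0 < (-P).leadingCoeff := by
  rcases lt_trichotomy P.leadingCoeff 0 with h | h | h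
  · exact Or.inr (Or.inr (by simpa using h))
  · exact Or.inl (leadingCoeff_eq_zero.1 h)
  · exact Or.inr (Or.inl h)

lemma polyLT_neg_zero {P : ℚ[X]} (h : PolyLT 0 (-P)) : PolyLT P 0 := by
  rw [polyLT_iff_sub]
  simpa using h

lemma polyLE_iff {P : ℚ[X]} : PolyLE 0 P ↔ P = 0 ∨ 0 < P.leadingCoeff := by
  constructor
  · intro h
    rcases leadingCoeff_cases P with h0 | h0 | h0
    · exact Or.inl h0
    · exact Or.inr h0
    · exact absurd h (not_polyLE_of_polyLT (polyLT_neg_zero (polyLT_zero_of_leadingCoeff_pos h0)))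
  · rintro (h | h)
    · rw [h]
      exact polyLE_refl _
    · exact polyLE_of_polyLT (polyLT_zero_of_leadingCoeff_pos h)

lemma polyLT_iff {P : ℚ[X]} : PolyLT 0 P ↔ 0 < P.leadingCoeff := by
  constructor
  · intro h
    rcases polyLE_iff.1 (polyLE_of_polyLT h) with h0 | h0
    · subst h0
      exact absurd (polyLE_refl (0 : ℚ[X])) (not_polyLE_of_polyLT h)
    · exact h0
  · exact polyLT_zero_of_leadingCoeff_pos

lemma polyLE_total (P Q : ℚ[X]) : PolyLE P Q ∨ PolyLE Q P := by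
  rcases leadingCoeff_cases (Q - P) with h | h | h
  · rw [sub_eq_zero] at h
    subst h
    exact Or.inl (polyLE_refl _)
  · exact Or.inl (polyLE_iff_sub.2 (polyLE_of_polyLT (polyLT_zero_of_leadingCoeff_pos h)))
  · exact Or.inr (polyLE_iff_sub.2 (by simpa using polyLE_of_polyLT (polyLT_zero_of_leadingCoeff_pos h)))

lemma polyLE_antisymm {P Q : ℚ[X]} (h : PolyLE P Q) (h' : PolyLE Q P) : P = Q := by
  rw [polyLE_iff_sub] at h
  rcases polyLE_iff.1 h with h0 | h0
  · exact (sub_eq_zero.1 h0).symm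
  · exact absurd h' (not_polyLE_of_polyLT (polyLT_iff_sub.2 (polyLT_iff.2 h0)))

lemma polyLT_iff_not_le {P Q : ℚ[X]} : PolyLT P Q ↔ ¬ PolyLE Q P := by
  constructor
  · exact not_polyLE_of_polyLT
  · intro h
    rw [polyLE_iff_sub, polyLE_iff, not_or] at h
    rw [polyLT_iff_sub, polyLT_iff]
    rcases leadingCoeff_cases (P - Q) with h0 | h0 | h0
    · exact absurd h0 h.1
    · exact absurd h0 h.2
    · simpa using h0

/-- A copy of `ℚ[X]` ordered by `StabCat.PolyLE`. -/
def PV : Type := ℚ[X]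

noncomputable instance : AddCommGroup PV := inferInstanceAs (AddCommGroup ℚ[X])
noncomputable instance : Module ℚ PV := inferInstanceAs (Module ℚ ℚ[X])

/-- The identity `ℚ[X] → PV`. -/
def toPV : ℚ[X] → PV := fun P => P

/-- The identity `PV → ℚ[X]`. -/
def ofPV : PV → ℚ[X] := fun P => P

@[simp] lemma toPV_add (P Q : ℚ[X]) : toPV (P + Q) = toPV P + toPV Q := rfl
@[simp] lemma toPV_sub (P Q : ℚ[X]) : toPV (P - Q) = toPV P - toPV Q := rfl
@[simp] lemma toPV_smul (c : ℚ) (P : ℚ[X]) : toPV (c • P) = c • toPV P := rfl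
@[simp] lemma toPV_zero : toPV 0 = 0 := rfl
lemma toPV_injective : Function.Injective toPV := fun _ _ h => h

noncomputable instance : LinearOrder PV where
  le P Q := PolyLE (ofPV P) (ofPV Q)
  lt P Q := PolyLT (ofPV P) (ofPV Q)
  le_refl _ := polyLE_refl _
  le_trans _ _ _ h h' := polyLE_trans h h'
  lt_iff_le_not_ge P Q := by
    constructor
    · intro h
      exact ⟨polyLE_of_polyLT h, not_polyLE_of_polyLT h⟩
    · rintro ⟨h, h'⟩
      exact polyLT_iff_not_le.2 h'
  le_antisymm P Q h h' := polyLE_antisymm h h'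
  le_total P Q := polyLE_total _ _
  toDecidableLE := Classical.decRel _

lemma toPV_le {P Q : ℚ[X]} : toPV P ≤ toPV Q ↔ PolyLE P Q := Iff.rfl
lemma toPV_lt {P Q : ℚ[X]} : toPV P < toPV Q ↔ PolyLT P Q := Iff.rfl

instance : IsOrderedAddMonoid PV where
  add_le_add_left _ _ h _ := polyLE_add h (polyLE_refl _)

instance : PosSMulStrictMono ℚ PV where
  smul_lt_smul_of_pos_left {c} hc {P Q} h := by
    obtain ⟨N, hN⟩ := h
    refine ⟨N, fun m hm => ?_⟩
    change Polynomial.eval (m : ℚ) (c • ofPV P) < Polynomial.eval (m : ℚ) (c • ofPV Q)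
    rw [Polynomial.eval_smul, Polynomial.eval_smul, smul_eq_mul, smul_eq_mul]
    exact mul_lt_mul_of_pos_left (hN m hm) hc

/-- `alpha d` as a linear form on `PV`. -/
noncomputable def alphaL (d : ℕ) : PV →ₗ[ℚ] ℚ :=
  (d.factorial : ℚ) • (Polynomial.lcoeff ℚ d)

lemma alphaL_toPV (d : ℕ) (P : ℚ[X]) : alphaL d (toPV P) = alpha d P := by
  simp [alphaL, alpha, toPV]
  rfl

end K849.PolyOrd
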