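import Groth.Agent.ShStab.K849.InstRef
import Groth.Agent.ShStab.K846.Gies

/-!
# `HilbFacts` from `K846.Gies.HilbFacts`
-/

set_option autoImplicit false

universe u

open CategoryTheory CategoryTheory.Limits AlgebraicGeometry Polynomial

namespace K849.FromGies

variable {k : Type u} [Field k] {X : Scheme.{u}} [X.Over (Spec (CommRingCat.of k))] {L : X.Modules}

theorem hilbFacts (H : K846.Gies.HilbFacts k X L) : K849.Inst.HilbFacts k X L (K846.Gies.hp k L) where
  spec _ hF := K846.Gies.isHilbPoly_hp H hF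
  pos F hF h0 := H.pos F _ hF h0 (K846.Gies.isHilbPoly_hp H hF)
  add S hS h₁ h₂ h₃ := K846.Gies.hp_add H S hS h₁ h₂ h₃
  dim _ hF h0 := K846.Gies.natDegree_eq H hF h0

end K849.FromGies
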