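import Groth.Agent.S1528
import Groth.Agent.S3233
import Groth.Agent.EtpbcA.CdFinDim
import Groth.Agent.Grpsch.PicGrp
import Groth.Agent.ShStab.K849.FromGies

/-!
# Hilbert polynomials with respect to an ample module on a proper scheme over a field

`K849.HilbFacts.gies`: `K846.Gies.HilbFacts k X L`; `K849.HilbFacts.inst`: `K849.Inst.HilbFacts k X L (K846.Gies.hp k L)`.
-/

set_option autoImplicit false

universe u

open CategoryTheory CategoryTheory.Limits AlgebraicGeometry Polynomial

namespace K849.HilbFacts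

open Groth.Agent Groth.Agent.Fga.AltSum Groth.Agent.Fga.PicMon Groth.Agent.Fga.IntAdd

/-- The mixed difference with constant entries. -/
lemma dSum_const {G : Type*} [CommMonoid G] (φ : G → ℤ) (r : ℕ) (a : G) :
    dSum φ (fun _ : Fin r => a) = ∑ j ∈ Finset.range (r + 1), ((-1 : ℤ) ^ j * r.choose j) * φ (a ^ j) := by
  unfold dSum
  have h1 : (Finset.univ : Finset (Finset (Fin r))) = (Finset.univ : Finset (Fin r)).powerset := by simp
  simp only [Finset.prod_const]
  rw [h1, Finset.sum_powerset_apply_card (fun j => (-1 : ℤ) ^ j * φ (a ^ j))]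
  simp only [Finset.card_univ, Fintype.card_fin]
  refine Finset.sum_congr rfl fun j _ => ?_
  rw [nsmul_eq_mul]
  ring

variable {k : Type u} [Field k] {X : Scheme.{u}} [X.Over (Spec (CommRingCat.of k))]
  [IsProper (X ↘ Spec (CommRingCat.of k))]

/-- The Hilbert polynomial exists and has degree at most the dimension of the support. -/
theorem exists_poly {F L : X.Modules} (hF : Coh.IsCoh F) (hL : PicF.IsInvertible L) {d : ℕ}
    (hs : topologicalKrullDim (CohB1.support F) ≤ d) :
    ∃ P : ℚ[X], P.natDegree ≤ d ∧ ShStab.IsHilbPoly k X L F P := by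
  obtain ⟨P, hPd, hP⟩ := S1528.result k X F hF d hs 1 (fun _ => L) (fun _ => hL)
  refine ⟨MvPolynomial.aeval (fun _ => Polynomial.X) P, ?_, fun M => ?_⟩
  · have := MvPolynomial.aeval_natDegree_le P hPd (fun _ => (Polynomial.X : ℚ[X])) (fun _ => natDegree_X_le)
    simpa using this
  have h1 := hP fun _ => M
  have h2 : Polynomial.eval (M : ℚ) (MvPolynomial.aeval (fun _ : Fin 1 => Polynomial.X) P) =
      MvPolynomial.eval (fun _ : Fin 1 => (M : ℚ)) P := by
    have h3 := MvPolynomial.comp_aeval_apply (fun _ : Fin 1 => (Polynomial.X : Polynomial ℚ))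
      (Polynomial.aeval (R := ℚ) (M : ℚ)) P
    simp only [Polynomial.aeval_X, Polynomial.coe_aeval_eq_eval] at h3
    exact h3
  rw [h2, ← h1]
  rfl

omit [IsProper (X ↘ Spec (CommRingCat.of k))] in
theorem unique {L F : X.Modules} {P Q : ℚ[X]} (hP : ShStab.IsHilbPoly k X L F P)
    (hQ : ShStab.IsHilbPoly k X L F Q) : P = Q := K846.Gies.unique hP hQ

/-- The alternating sum computing the top difference. -/
lemma alt_eq {P : ℚ[X]} {r : ℕ} (hd : P.natDegree ≤ r) :
    ∑ j ∈ Finset.range (r + 1), ((-1 : ℚ) ^ j * r.choose j) * P.eval ((r - j : ℕ) : ℚ) = StabCat.alpha r P := by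
  have h1 : (fwdDiff (1 : ℚ))^[r] P.eval 0 = StabCat.alpha r P := by
    rcases hd.lt_or_eq with h | h
    · rw [Polynomial.fwdDiff_iter_eq_zero_of_degree_lt h]
      unfold StabCat.alpha
      rw [coeff_eq_zero_of_natDegree_lt h]
      simp
    · subst h
      rw [Polynomial.fwdDiff_iter_degree_eq_factorial]
      unfold StabCat.alpha
      rw [mul_comm]
      rfl
  rw [← h1, fwdDiff_iter_eq_sum_shift, ← Finset.sum_range_reflect]
  refine Finset.sum_congr rfl fun j hj => ?_
  rw [Finset.mem_range] at hj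
  have hj' : j ≤ r := by omega
  have e1 : r + 1 - 1 - j = r - j := by omega
  have e2 : r - (r - j) = j := by omega
  rw [e1, e2, zsmul_eq_mul, Nat.choose_symm hj']
  push_cast
  congr 2
  simp

theorem alpha_pos {F L : X.Modules} (hF : Coh.IsCoh F) (hL : CohB1.IsAmple L) {r : ℕ}
    (hr : topologicalKrullDim (CohB1.support F) = r) {P : ℚ[X]} (hP : ShStab.IsHilbPoly k X L F P) :
    P.natDegree ≤ r ∧ 0 < StabCat.alpha r P := by
  have hn := Fga.IntAdd.isNoetherian k X
  obtain ⟨P', hd', hP'⟩ := exists_poly (k := k) hF hL.1 hr.le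
  obtain rfl := unique hP hP'
  refine ⟨hd', ?_⟩
  obtain ⟨d0, hd0⟩ := EtpbcA.CdFinDim.exists_dim_le (X ↘ Spec (CommRingCat.of k))
  obtain ⟨M, hM, ⟨eM⟩⟩ := Grpsch.PicGrp.exists_inverse hL.1
  have hLM : mc L * mc M = 1 := by rw [← mc_tensor, mc_eq eM, mc_one]
  have hLr : PicF.IsInvertible (CohB1.tensorPow L r) := Fdesc.LocGen.isInvertible_tensorPow hL.1 _
  have hMr : PicF.IsInvertible (CohB1.tensorPow M r) := Fdesc.LocGen.isInvertible_tensorPow hM _
  have hG : Coh.IsCoh (CohB1.tensorMod (CohB1.tensorPow L r) F) :=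
    Fga.SnapperTwist.isCoh_tensor' hLr hF
  have hsupp : CohB1.support (CohB1.tensorMod (CohB1.tensorPow L r) F) = CohB1.support F :=
    Fga.PosMain.support_tensor X hLr hMr (by
      rw [mc_tensorPow, mc_tensorPow, ← mul_pow, hLM, one_pow]) F
  have h1 := S3233.result k X d0 hd0 (fun _ : Fin r => L) (fun _ => M) (fun _ => hL) (fun _ => ⟨eM⟩)
    _ hG (by rw [hsupp, hr])
  rw [intNum_eq_dSum, dSum_const] at h1
  have h2 : ∀ j ∈ Finset.range (r + 1), ((((-1 : ℤ) ^ j * r.choose j) *
      chiCl k X d0 (CohB1.tensorMod (CohB1.tensorPow L r) F) (mc M ^ j) : ℤ) : ℚ) =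
      ((-1 : ℚ) ^ j * r.choose j) * P.eval ((r - j : ℕ) : ℚ) := by
    intro j hj
    rw [Finset.mem_range] at hj
    obtain ⟨i, rfl⟩ : ∃ i, r = j + i := ⟨r - j, by omega⟩
    rw [← hP, ← mc_tensorPow, chiCl_mc, eulerCharLE_eq k X d0 hd0, ← eulerCharLE_eq k X d0 hd0 (ShStab.twist _ _ _ _)]
    push_cast
    congr 1
    norm_cast
    rw [← eulerCharLE_eq k X d0 hd0]
    obtain ⟨e⟩ := (mc_eq_iff (CohB1.tensorMod (CohB1.tensorPow M j) (CohB1.tensorMod (CohB1.tensorPow L (j + i)) F))
      (ShStab.twist X L F (j + i - j))).mp (by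
        unfold ShStab.twist
        rw [mc_tensor, mc_tensor, mc_tensor, mc_tensorPow, mc_tensorPow, mc_tensorPow, pow_add,
          Nat.add_sub_cancel_left, ← mul_assoc, ← mul_assoc, ← mul_pow, mul_comm (mc M), hLM, one_pow,
          one_mul, mul_comm])
    exact euler_iso k X e d0
  rw [← Int.cast_pos (R := ℚ), Int.cast_sum, Finset.sum_congr rfl h2, alt_eq hd'] at h1
  exact h1

variable (k) in
include k in
theorem exists_dim {F : X.Modules} (h0 : ¬ IsZero F) :
    ∃ r : ℕ, topologicalKrullDim (CohB1.support F) = r := by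
  obtain ⟨d0, hd0⟩ := EtpbcA.CdFinDim.exists_dim_le (X ↘ Spec (CommRingCat.of k))
  have h1 : topologicalKrullDim (CohB1.support F) ≤ d0 :=
    (Topology.IsInducing.subtypeVal.topologicalKrullDim_le).trans hd0
  have h2 : (CohB1.support F).Nonempty := by
    rw [Set.nonempty_iff_ne_empty]
    exact fun h => h0 (CohqB.DevSupport.isZero_of_support_eq_empty h)
  have : Nonempty (CohB1.support F) := h2.to_subtype
  have h3 : 0 ≤ topologicalKrullDim (CohB1.support F) := by
    unfold topologicalKrullDim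
    have : Nonempty (TopologicalSpace.IrreducibleCloseds (CohB1.support F)) :=
      ⟨⟨closure {Classical.arbitrary _}, isIrreducible_singleton.closure, isClosed_closure⟩⟩
    exact Order.krullDim_nonneg
  revert h1 h3
  generalize topologicalKrullDim (CohB1.support F) = x
  intro h1 h3
  induction x using WithBot.recBotCoe with
  | bot => exact absurd h3 (by simp)
  | coe x =>
    induction x using ENat.recTopCoe with
    | top =>
      exact absurd h1 (by
        rw [not_le]
        exact_mod_cast ENat.natCast_lt_top d0)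
    | coe n => exact ⟨n, rfl⟩

theorem gies (k : Type u) [Field k] (X : Scheme.{u}) [X.Over (Spec (CommRingCat.of k))]
    [IsProper (X ↘ Spec (CommRingCat.of k))] {L : X.Modules} (hL : CohB1.IsAmple L) :
    K846.Gies.HilbFacts k X L := by
  have hn := Fga.IntAdd.isNoetherian k X
  obtain ⟨d0, hd0⟩ := EtpbcA.CdFinDim.exists_dim_le (X ↘ Spec (CommRingCat.of k))
  have key : ∀ (F : X.Modules) (P : ℚ[X]), Coh.IsCoh F → ¬ IsZero F → ShStab.IsHilbPoly k X L F P →
      topologicalKrullDim (CohB1.support F) = P.natDegree ∧ 0 < P.leadingCoeff := by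
    intro F P hF h0 hP
    obtain ⟨r, hr⟩ := exists_dim k h0
    obtain ⟨h1, h2⟩ := alpha_pos (k := k) hF hL hr hP
    have h3 : 0 < P.coeff r := by
      unfold StabCat.alpha at h2
      have : (0 : ℚ) < r.factorial := by exact_mod_cast r.factorial_pos
      exact (pos_iff_pos_of_mul_pos h2).mp this
    have h4 : P.natDegree = r := le_antisymm h1 (le_natDegree_of_ne_zero h3.ne')
    rw [leadingCoeff, h4]
    exact ⟨hr, h3⟩
  have hex : ∀ F : X.Modules, Coh.IsCoh F → ∃ P : ℚ[X], ShStab.IsHilbPoly k X L F P := by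
    intro F hF
    obtain ⟨P, -, hP⟩ := exists_poly (k := k) hF hL.1
      (d := d0) ((Topology.IsInducing.subtypeVal.topologicalKrullDim_le).trans hd0)
    exact ⟨P, hP⟩
  have hadd' : ∀ S : ShortComplex X.Modules, S.ShortExact → Coh.IsCoh S.X₁ → Coh.IsCoh S.X₂ →
      Coh.IsCoh S.X₃ → ∀ P Q : ℚ[X], ShStab.IsHilbPoly k X L S.X₁ P → ShStab.IsHilbPoly k X L S.X₃ Q →
      ShStab.IsHilbPoly k X L S.X₂ (P + Q) := by
    intro S hS h1 h2 h3 P Q hP hQ m
    have hLm : PicF.IsInvertible (CohB1.tensorPow L m) := Fdesc.LocGen.isInvertible_tensorPow hL.1 _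
    have hadd := isAdd_tensor X (isAdd_euler k X d0 hd0) hLm S hS h1 h2 h3
    simp only [eulerCharLE_eq k X d0 hd0] at hadd
    have hsw : ∀ F : X.Modules, Curv2.euler k X (ShStab.twist X L F m) =
        Curv2.euler k X (CohB1.tensorMod (CohB1.tensorPow L m) F) := by
      intro F
      rw [← eulerCharLE_eq k X d0 hd0, ← eulerCharLE_eq k X d0 hd0]
      exact euler_iso k X (Ega2.Tens.swap _ _) d0
    rw [eval_add, ← hP, ← hQ, hsw, hsw, hsw, hadd]
    push_cast
    rfl
  refine ⟨hex, hadd', fun F P hF h0 hP => (key F P hF h0 hP).1, fun F P hF h0 hP => (key F P hF h0 hP).2, ?_⟩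
  · intro F P d hF hP hd
    obtain ⟨n, hn'⟩ := K849.Inst.exists_int hd (fun m => Curv2.euler k X (ShStab.twist X L F m)) hP
    have h0 : 0 ≤ StabCat.alpha d P := by
      by_cases hz : IsZero F
      · have hS : (ShortComplex.mk (0 : F ⟶ F) (0 : F ⟶ F) (by simp)).ShortExact :=
          { exact := ShortComplex.exact_of_isZero_X₂ _ hz
            mono_f := ⟨fun _ _ _ => hz.eq_of_tgt _ _⟩
            epi_g := ⟨fun _ _ _ => hz.eq_of_src _ _⟩ }
        have h1 := unique (hadd' _ hS hF hF hF P P hP hP) hP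
        have h2 : P = 0 := by simpa using h1
        rw [h2]
        simp [StabCat.alpha]
      obtain ⟨h1, h2⟩ := key F P hF hz hP
      rcases hd.lt_or_eq with h | rfl
      · rw [K847.PolyOrd.alpha_eq_zero_of_natDegree_lt h]
      · unfold StabCat.alpha
        have := h2.le
        rw [leadingCoeff] at this
        positivity
    rw [hn'] at h0 ⊢
    obtain ⟨m, rfl⟩ := Int.eq_ofNat_of_zero_le (by exact_mod_cast h0)
    exact ⟨m, by push_cast; rfl⟩

/-- The facts in the form used by `K849.Inst`. -/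
theorem inst (k : Type u) [Field k] (X : Scheme.{u}) [X.Over (Spec (CommRingCat.of k))]
    [IsProper (X ↘ Spec (CommRingCat.of k))] {L : X.Modules} (hL : CohB1.IsAmple L) :
    K849.Inst.HilbFacts k X L (K846.Gies.hp k L) := K849.FromGies.hilbFacts (gies k X hL)

end K849.HilbFacts
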