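import Groth.Agent.ShStab.K849.AbsMore

/-!
# Extensions of semistable objects of the same slope
-/

set_option autoImplicit false
set_option linter.unusedSectionVars false

universe v u

open CategoryTheory CategoryTheory.Limits

namespace K849.Abs

open K849.LatHN Groth.Agent.Cohder.SubobjLattice

variable {C : Type u} [Category.{v} C] [Abelian C] {V : Type*} [AddCommGroup V] [LinearOrder V]
  [IsOrderedAddMonoid V] [Module ℚ V] [PosSMulStrictMono ℚ V]
variable {ok : C → Prop} {P : C → V} {α : V →ₗ[ℚ] ℚ}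

lemma redle_add_left' {u x y : V} (hx : redle α x u) (hy : redle α y u) : redle α (x + y) u := by
  unfold redle at *
  rw [map_add, add_smul, smul_add]
  exact add_le_add hx hy

lemma redle_zero (u : V) : redle α 0 u := by
  unfold redle
  simp

/-- A subobject of the middle term of a short exact sequence: its trace on the first term and its image in the
third term. -/
lemma exists_sub_ses (h : Setup ok P α) (S : ShortComplex C) (hS : S.ShortExact) (h1 : ok S.X₁)
    (h2 : ok S.X₂) (h3 : ok S.X₃) {K : C} (ι : K ⟶ S.X₂) [Mono ι] (hK : ok K) :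
    ∃ (K' K'' : C) (a : K' ⟶ K) (i : K' ⟶ S.X₁) (b : K ⟶ K'') (j : K'' ⟶ S.X₃), Mono i ∧ Mono j ∧ ok K' ∧ ok K'' ∧
      P K = P K' + P K'' ∧ (IsZero K' → IsZero K'' → IsZero K) ∧ a ≫ ι = i ≫ S.f ∧ b ≫ j = ι ≫ S.g := by
  have := hS.mono_f
  obtain ⟨I, p, j, hp, hj, hpj, hI, -⟩ := exists_image h hK h3 (ι ≫ S.g)
  have hk : ok (kernel p) := h.ok_ker p hK hI
  have hw : (kernel.ι p ≫ ι) ≫ S.g = 0 := by
    rw [Category.assoc, ← hpj, ← Category.assoc, kernel.condition, zero_comp]
  have hfac : hS.exact.lift (kernel.ι p ≫ ι) hw ≫ S.f = kernel.ι p ≫ ι := hS.exact.lift_f _ _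
  have hm : Mono (hS.exact.lift (kernel.ι p ≫ ι) hw) := by
    have : Mono (hS.exact.lift (kernel.ι p ≫ ι) hw ≫ S.f) := by
      rw [hfac]
      exact mono_comp _ _
    exact mono_of_mono _ S.f
  refine ⟨kernel p, I, kernel.ι p, hS.exact.lift (kernel.ι p ≫ ι) hw, p, j, hm, hj, hk, hI, ?_, ?_, hfac.symm, hpj⟩
  · rw [h.P_kernel p hK hI]
    abel
  · intro z1 z2
    have hp0 : p = 0 := z2.eq_of_tgt _ _
    have : kernel.ι p ≫ 𝟙 K = 0 := z1.eq_of_src _ _
    have hk1 : IsIso (kernel.ι p) := by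
      subst hp0
      infer_instance
    rw [IsZero.iff_id_eq_zero, ← cancel_epi (kernel.ι p), this, comp_zero]

/-- Extensions of pure objects are pure. -/
lemma APure.ext (h : Setup ok P α) (S : ShortComplex C) (hS : S.ShortExact) (h1 : ok S.X₁)
    (h2 : ok S.X₂) (h3 : ok S.X₃) (p1 : APure ok P α S.X₁) (p3 : APure ok P α S.X₃) :
    APure ok P α S.X₂ := by
  intro K ι _ hK hK0
  obtain ⟨K', K'', a, i, b, j, hi, hj, ok', ok'', hP, hz, -, -⟩ := exists_sub_ses h S hS h1 h2 h3 ι hK
  rw [hP, map_add]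
  have h4 := h.alpha_nonneg ok'
  have h5 := h.alpha_nonneg ok''
  by_cases z' : IsZero K'
  · have := p3 K'' j hj ok'' (fun z'' => hK0 (hz z' z''))
    linarith
  · have := p1 K' i hi ok' z'
    linarith

/-- Extensions of semistable objects with the same slope are semistable. -/
lemma ASS.ext (h : Setup ok P α) (S : ShortComplex C) (hS : S.ShortExact) (h1 : ok S.X₁)
    (h2 : ok S.X₂) (h3 : ok S.X₃) (s1 : ASS ok P α S.X₁) (s3 : ASS ok P α S.X₃)
    (a1 : 0 < α (P S.X₁)) (a3 : 0 < α (P S.X₃))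
    (h13 : redle α (P S.X₁) (P S.X₃)) (h31 : redle α (P S.X₃) (P S.X₁)) : ASS ok P α S.X₂ := by
  intro K ι _ hK hK0
  obtain ⟨K', K'', a, i, b, j, hi, hj, ok', ok'', hP, hz, -, -⟩ := exists_sub_ses h S hS h1 h2 h3 ι hK
  have e := h.add S hS h1 h2 h3
  have k1 : redle α (P K') (P S.X₁) := by
    by_cases z' : IsZero K'
    · rw [h.P_zero ok' z']
      exact redle_zero _
    · exact s1 K' i hi ok' z'
  have k2 : redle α (P K'') (P S.X₁) := by
    by_cases z' : IsZero K''
    · rw [h.P_zero ok'' z']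
      exact redle_zero _
    · exact redle_trans a3 (h.alpha_nonneg ok'') a1.le (s3 K'' j hj ok'' z') h31
  have k3 : redle α (P K) (P S.X₁) := by
    rw [hP]
    exact redle_add_left' k1 k2
  refine redle_trans a1 (h.alpha_nonneg hK) (h.alpha_nonneg h2) k3 ?_
  rw [e, redle_add_right_iff]
  exact h13

end K849.Abs
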