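import Groth.Agent.ShStab.K849.InstHN
import Groth.Agent.ShStab.K849.AbsExt

/-!
# Slope semistability of pure sheaves: Hom vanishing and extensions
-/

set_option autoImplicit false
set_option linter.unusedSectionVars false

universe u

open CategoryTheory CategoryTheory.Limits AlgebraicGeometry Polynomial

namespace K849.InstMu

open StabCat K849.Abs K849.PolyOrd K849.TopPart K849.LatHN K849.Inst K849.InstHN

variable {k : Type u} [Field k] {X : Scheme.{u}} [X.Over (Spec (CommRingCat.of k))]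
  {L : X.Modules} {hp : X.Modules → ℚ[X]} [IsNoetherian X] (h : HilbFacts k X L hp)

include h

/-- Hom vanishing for `ℓ`-semistable sheaves. -/
theorem hom_eq_zero_ell {F G : X.Modules} {d ℓ : ℕ} (hF : ShStab.IsEllSemistable k X L F d ℓ)
    (hG : ShStab.IsEllSemistable k X L G d ℓ)
    (hlt : RedLT d (topPart ℓ d (hp G)) (topPart ℓ d (hp F))) (φ : F ⟶ G) : φ = 0 := by
  obtain ⟨f1, -, -, f4⟩ := (isEllSemistable_iff h ℓ d).1 hF
  obtain ⟨g1, -, g3, g4⟩ := (isEllSemistable_iff h ℓ d).1 hG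
  exact hom_eq_zero (setup h ℓ d) f1 g1 f4 g3 g4 (redlt_iff.2 hlt) φ

theorem hom_eq_zero_mu {F G : X.Modules} {d : ℕ} (hd : 1 ≤ d) (hFt : ShStab.IsPure X F d)
    (hGt : ShStab.IsPure X G d)
    (hF : ShStab.IsMuSemistable k X L F d) (hG : ShStab.IsMuSemistable k X L G d)
    (pF pG : ℚ[X]) (hpF : ShStab.IsHilbPoly k X L F pF) (hpG : ShStab.IsHilbPoly k X L G pG)
    (hlt : StabCat.hatSlope d pG < StabCat.hatSlope d pF) (φ : F ⟶ G) : φ = 0 := by
  have hF' := (isMuSemistable_iff h d hd).1 ⟨hFt, hF⟩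
  have hG' := (isMuSemistable_iff h d hd).1 ⟨hGt, hG⟩
  obtain rfl := h.unique hF'.1 hpF
  obtain rfl := h.unique hG'.1 hpG
  refine hom_eq_zero_ell h hF' hG' ?_ φ
  rwa [redLT_topPart_one_iff hd (alpha_pos_of_ell h hG') (alpha_pos_of_ell h hF')]

/-- Extensions of `ℓ`-semistable sheaves with equal reduced truncations. -/
theorem isEll_ext {d ℓ : ℕ} (T : ShortComplex X.Modules) (hT : T.ShortExact)
    (hF : ShStab.IsEllSemistable k X L T.X₁ d ℓ) (hG : ShStab.IsEllSemistable k X L T.X₃ d ℓ)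
    (h13 : RedLE d (topPart ℓ d (hp T.X₁)) (topPart ℓ d (hp T.X₃)))
    (h31 : RedLE d (topPart ℓ d (hp T.X₃)) (topPart ℓ d (hp T.X₁))) :
    ShStab.IsEllSemistable k X L T.X₂ d ℓ := by
  obtain ⟨f1, f2, f3, f4⟩ := (isEllSemistable_iff h ℓ d).1 hF
  obtain ⟨g1, g2, g3, g4⟩ := (isEllSemistable_iff h ℓ d).1 hG
  have hset := setup h ℓ d
  have h2 := hset.ok_ext T hT f1 g1
  rw [isEllSemistable_iff h]
  refine ⟨h2, ?_, APure.ext hset T hT f1 h2 g1 f3 g3, ?_⟩
  · intro hz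
    have := hT.mono_f
    exact f2 (IsZero.of_mono T.f hz)
  · refine ASS.ext hset T hT f1 h2 g1 f4 g4 ?_ ?_ (redle_iff.2 h13) (redle_iff.2 h31)
    · rw [alphaL_Pl h]
      exact alpha_pos_of_ell h hF
    · rw [alphaL_Pl h]
      exact alpha_pos_of_ell h hG

theorem isMu_ext {d : ℕ} (hd : 1 ≤ d) (T : ShortComplex X.Modules) (hT : T.ShortExact)
    (hFt : ShStab.IsPure X T.X₁ d) (hGt : ShStab.IsPure X T.X₃ d)
    (hF : ShStab.IsMuSemistable k X L T.X₁ d) (hG : ShStab.IsMuSemistable k X L T.X₃ d)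
    (pF pG : ℚ[X]) (hpF : ShStab.IsHilbPoly k X L T.X₁ pF) (hpG : ShStab.IsHilbPoly k X L T.X₃ pG)
    (hμ : StabCat.hatSlope d pF = StabCat.hatSlope d pG) :
    ShStab.IsMuSemistable k X L T.X₂ d ∧
      ∀ pH : ℚ[X], ShStab.IsHilbPoly k X L T.X₂ pH → StabCat.hatSlope d pH = StabCat.hatSlope d pF := by
  have hF' := (isMuSemistable_iff h d hd).1 ⟨hFt, hF⟩
  have hG' := (isMuSemistable_iff h d hd).1 ⟨hGt, hG⟩
  obtain rfl := h.unique hF'.1 hpF
  obtain rfl := h.unique hG'.1 hpG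
  have aF := alpha_pos_of_ell h hF'
  have aG := alpha_pos_of_ell h hG'
  have hH := isEll_ext h T hT hF' hG' ((redLE_topPart_one_iff hd aF aG).2 hμ.le)
    ((redLE_topPart_one_iff hd aG aF).2 hμ.ge)
  refine ⟨((isMuSemistable_iff h d hd).2 hH).2, fun pH hpH => ?_⟩
  obtain rfl := h.unique hH.1 hpH
  rw [h.add T hT hF'.1 hH.1 hG'.1]
  unfold hatSlope at hμ ⊢
  have e1 : alpha (d - 1) (hp T.X₁ + hp T.X₃) = alpha (d - 1) (hp T.X₁) + alpha (d - 1) (hp T.X₃) := by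
    unfold alpha
    rw [coeff_add]
    ring
  have e2 : alpha d (hp T.X₁ + hp T.X₃) = alpha d (hp T.X₁) + alpha d (hp T.X₃) := by
    unfold alpha
    rw [coeff_add]
    ring
  rw [e1, e2]
  rw [div_eq_div_iff aF.ne' aG.ne'] at hμ
  rw [div_eq_div_iff (by linarith) aF.ne']
  linarith

end K849.InstMu
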