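import Mathlib.Order.RelSeries
import Mathlib.Order.WellFounded
import Mathlib.Order.Hom.Lattice
import Mathlib.Algebra.Order.Module.Defs
import Mathlib.Algebra.Order.Group.Defs
import Mathlib.LinearAlgebra.BilinearMap
import Mathlib.Data.Rat.Defs
import Mathlib.Algebra.Order.Field.Rat
import Mathlib.Tactic.Linarith
import Mathlib.Tactic.Abel
import Mathlib.Tactic.Module

/-!
# Harder–Narasimhan theory in a lattice with a vector-valued valuation

`L` is a bounded lattice satisfying the ascending chain condition, `V` a linearly ordered `ℚ`-vector space with a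
linear form `α`, and `P : L → V` is modular: `P (a ⊔ b) + P (a ⊓ b) = P a + P b`.  Slopes are compared by
`redle α x y : α y • x ≤ α x • y`.
-/

set_option autoImplicit false
set_option linter.unusedSectionVars false

namespace K849.LatHN

section Red

variable {V : Type*} [AddCommGroup V] [LinearOrder V] [IsOrderedAddMonoid V] [Module ℚ V]
  [PosSMulStrictMono ℚ V] (α : V →ₗ[ℚ] ℚ)

/-- Reduced comparison. -/
def redle (x y : V) : Prop := α y • x ≤ α x • y

/-- Strict reduced comparison. -/
def redlt (x y : V) : Prop := α y • x < α x • y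

variable {α}

lemma not_redle {x y : V} : ¬ redle α x y ↔ redlt α y x := not_le

lemma not_redlt {x y : V} : ¬ redlt α x y ↔ redle α y x := not_lt

lemma redlt.redle {x y : V} (h : redlt α x y) : redle α x y := le_of_lt h

lemma redle_refl (x : V) : redle α x x := le_rfl

lemma smul_le_iff {c : ℚ} (hc : 0 < c) {x y : V} : c • x ≤ c • y ↔ x ≤ y :=
  smul_le_smul_iff_of_pos_left hc

lemma smul_lt_iff {c : ℚ} (hc : 0 < c) {x y : V} : c • x < c • y ↔ x < y :=
  smul_lt_smul_iff_of_pos_left hc

lemma smul_mono {c : ℚ} (hc : 0 ≤ c) {x y : V} (h : x ≤ y) : c • x ≤ c • y := by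
  rcases hc.eq_or_lt with h0 | h0
  · rw [← h0, zero_smul, zero_smul]
  · exact (smul_le_iff h0).2 h

lemma redle_trans {x y z : V} (hy : 0 < α y) (hx : 0 ≤ α x) (hz : 0 ≤ α z)
    (h : redle α x y) (h' : redle α y z) : redle α x z := by
  unfold redle at *
  rw [← smul_le_iff hy]
  calc α y • α z • x = α z • α y • x := smul_comm _ _ _
    _ ≤ α z • α x • y := smul_mono hz h
    _ = α x • α z • y := smul_comm _ _ _
    _ ≤ α x • α y • z := smul_mono hx h'
    _ = α y • α x • z := smul_comm _ _ _

lemma redlt_of_redlt_of_redle {x y z : V} (hy : 0 < α y) (hx : 0 ≤ α x) (hz : 0 < α z)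
    (h : redlt α x y) (h' : redle α y z) : redlt α x z := by
  unfold redle redlt at *
  rw [← smul_lt_iff hy]
  calc α y • α z • x = α z • α y • x := smul_comm _ _ _
    _ < α z • α x • y := (smul_lt_iff hz).2 h
    _ = α x • α z • y := smul_comm _ _ _
    _ ≤ α x • α y • z := smul_mono hx h'
    _ = α y • α x • z := smul_comm _ _ _

lemma redlt_of_redle_of_redlt {x y z : V} (hy : 0 < α y) (hx : 0 < α x) (hz : 0 ≤ α z)
    (h : redle α x y) (h' : redlt α y z) : redlt α x z := by
  unfold redle redlt at *
  rw [← smul_lt_iff hy]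
  calc α y • α z • x = α z • α y • x := smul_comm _ _ _
    _ ≤ α z • α x • y := smul_mono hz h
    _ = α x • α z • y := smul_comm _ _ _
    _ < α x • α y • z := (smul_lt_iff hx).2 h'
    _ = α y • α x • z := smul_comm _ _ _

lemma redle_add_right_iff {x y : V} : redle α x (x + y) ↔ redle α x y := by
  unfold redle
  rw [map_add, add_smul, smul_add, add_le_add_iff_left]

lemma redle_add_left_iff {x y : V} : redle α (x + y) y ↔ redle α x y := by
  unfold redle
  rw [map_add, add_smul, smul_add, add_le_add_iff_right]

lemma redle_add_right_iff' {x y : V} : redle α y (x + y) ↔ redle α y x := by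
  rw [add_comm, redle_add_right_iff]

lemma redle_add_left_iff' {x y : V} : redle α (x + y) x ↔ redle α y x := by
  rw [add_comm, redle_add_left_iff]

lemma redlt_add_right_iff {x y : V} : redlt α x (x + y) ↔ redlt α x y := by
  rw [← not_redle, ← not_redle, redle_add_left_iff']

lemma redlt_add_left_iff {x y : V} : redlt α (x + y) y ↔ redlt α x y := by
  rw [← not_redle, ← not_redle, redle_add_right_iff']

lemma redlt_add_right_iff' {x y : V} : redlt α y (x + y) ↔ redlt α y x := by
  rw [add_comm, redlt_add_right_iff]

lemma redlt_add_left_iff' {x y : V} : redlt α (x + y) x ↔ redlt α y x := by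
  rw [add_comm, redlt_add_left_iff]

/-- Adding something of rank zero and nonnegative increases the slope. -/
lemma redle_add_of_alpha_eq_zero {x y : V} (hx : 0 ≤ α x) (hy : α y = 0) (hy' : 0 ≤ y) :
    redle α x (x + y) := by
  rw [redle_add_right_iff]
  unfold redle
  rw [hy, zero_smul]
  simpa using smul_mono hx hy'

lemma redle_of_le {x y : V} (hxy : α x = α y) (hx : 0 ≤ α x) (h : x ≤ y) : redle α x y := by
  unfold redle
  rw [hxy]
  exact smul_mono (hxy ▸ hx) h

lemma le_of_redle {x y : V} (hxy : α x = α y) (hx : 0 < α x) (h : redle α x y) : x ≤ y := by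
  unfold redle at h
  rw [hxy] at h
  exact (smul_le_iff (hxy ▸ hx)).1 h

end Red

/-! ## Chains -/

section Chain

variable {L : Type*} [Preorder L]

/-- A chain all of whose steps satisfy `Q` and all of whose pairs of consecutive steps satisfy `R`. -/
def Good (Q : L → L → Prop) (R : L → L → L → Prop) (s : LTSeries L) : Prop :=
  (∀ i : Fin s.length, Q (s i.castSucc) (s i.succ)) ∧
    ∀ i j : Fin s.length, i.val + 1 = j.val → R (s i.castSucc) (s i.succ) (s j.succ)

lemma cons_castSucc_zero (s : LTSeries L) (a : L) (h : a < s.head) (h0 : 0 < (s.cons a h).length) :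
    (s.cons a h) (Fin.castSucc ⟨0, h0⟩) = a := by
  have := RelSeries.head_cons s a h
  exact this

lemma cons_succ (s : LTSeries L) (a : L) (h : a < s.head) (i : ℕ) (hi : i < (s.cons a h).length) :
    (s.cons a h) (Fin.succ ⟨i, hi⟩) = s ⟨i, by
      have : (s.cons a h).length = s.length + 1 := by
        simp [RelSeries.cons, RelSeries.append]
      omega⟩ := by
  have h1 : (s.cons a h).length = s.length + 1 := by
    simp [RelSeries.cons, RelSeries.append]
  exact RelSeries.cons_cast_succ s a h ⟨i, by omega⟩

lemma cons_length (s : LTSeries L) (a : L) (h : a < s.head) : (s.cons a h).length = s.length + 1 := by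
  simp [RelSeries.cons, RelSeries.append]

lemma good_cons {Q : L → L → Prop} {R : L → L → L → Prop} {s : LTSeries L} {a : L} (h : a < s.head) :
    Good Q R (s.cons a h) ↔ Good Q R s ∧ Q a s.head ∧
      ∀ h0 : 0 < s.length, R a s.head (s ⟨1, by omega⟩) := by
  have hl := cons_length s a h
  constructor
  · rintro ⟨h1, h2⟩
    refine ⟨⟨fun i => ?_, fun i j hij => ?_⟩, ?_, fun h0 => ?_⟩
    · have := h1 ⟨i.val + 1, by omega⟩
      have e1 : (s.cons a h) (Fin.castSucc ⟨i.val + 1, by omega⟩) = s i.castSucc := by
        have := cons_succ s a h i.val (by omega)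
        exact this
      rw [e1, cons_succ s a h (i.val + 1) (by omega)] at this
      exact this
    · have := h2 ⟨i.val + 1, by omega⟩ ⟨j.val + 1, by omega⟩ (by simpa using hij)
      have e1 : (s.cons a h) (Fin.castSucc ⟨i.val + 1, by omega⟩) = s i.castSucc := by
        have := cons_succ s a h i.val (by omega)
        exact this
      rw [e1, cons_succ s a h (i.val + 1) (by omega), cons_succ s a h (j.val + 1) (by omega)] at this
      exact this
    · have := h1 ⟨0, by omega⟩
      rw [cons_castSucc_zero, cons_succ s a h 0 (by omega)] at this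
      exact this
    · have := h2 ⟨0, by omega⟩ ⟨1, by omega⟩ (by simp)
      rw [cons_castSucc_zero, cons_succ s a h 0 (by omega), cons_succ s a h 1 (by omega)] at this
      exact this
  · rintro ⟨⟨h1, h2⟩, h3, h4⟩
    refine ⟨fun i => ?_, fun i j hij => ?_⟩
    · obtain ⟨i, hi⟩ := i
      rw [cons_succ s a h i hi]
      rcases i with _ | i
      · rw [cons_castSucc_zero]
        exact h3
      · have e1 : (s.cons a h) (Fin.castSucc ⟨i + 1, hi⟩) = s (Fin.castSucc ⟨i, by omega⟩) := by
          have := cons_succ s a h i (by omega)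
          exact this
        rw [e1]
        exact h1 ⟨i, by omega⟩
    · obtain ⟨i, hi⟩ := i
      obtain ⟨j, hj⟩ := j
      rw [cons_succ s a h i hi, cons_succ s a h j hj]
      simp only at hij
      subst hij
      rcases i with _ | i
      · rw [cons_castSucc_zero]
        exact h4 (by omega)
      · have e1 : (s.cons a h) (Fin.castSucc ⟨i + 1, hi⟩) = s (Fin.castSucc ⟨i, by omega⟩) := by
          have := cons_succ s a h i (by omega)
          exact this
        rw [e1]
        exact h2 ⟨i, by omega⟩ ⟨i + 1, by omega⟩ rfl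

end Chain

end K849.LatHN
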