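import Groth.Agent.ShStab.K849.PolyOrd
import Groth.Agent.ShStab.K849.LatHN
import Mathlib.Tactic.FieldSimp
import Mathlib.Tactic.Ring

/-!
# The `ℓ`-truncation of Hilbert polynomials and reduced comparison
-/

set_option autoImplicit false

open Polynomial

namespace K849.TopPart

open StabCat K849.PolyOrd K849.LatHN

lemma coeff_topPart (ℓ d : ℕ) (P : ℚ[X]) (n : ℕ) :
    (topPart ℓ d P).coeff n = if d - ℓ ≤ n ∧ n ≤ d then P.coeff n else 0 := by
  unfold topPart
  rw [finsetSum_coeff]
  simp only [coeff_monomial]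
  rw [Finset.sum_ite_eq']
  simp [Finset.mem_Icc]

lemma topPart_add (ℓ d : ℕ) (P Q : ℚ[X]) : topPart ℓ d (P + Q) = topPart ℓ d P + topPart ℓ d Q := by
  ext n
  rw [coeff_add, coeff_topPart, coeff_topPart, coeff_topPart]
  split_ifs <;> simp

lemma topPart_smul (ℓ d : ℕ) (c : ℚ) (P : ℚ[X]) : topPart ℓ d (c • P) = c • topPart ℓ d P := by
  ext n
  rw [coeff_smul, coeff_topPart, coeff_topPart]
  split_ifs <;> simp

lemma topPart_zero (ℓ d : ℕ) : topPart ℓ d (0 : ℚ[X]) = 0 := by
  ext n
  rw [coeff_topPart]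
  simp

lemma alpha_topPart (ℓ d : ℕ) (P : ℚ[X]) : alpha d (topPart ℓ d P) = alpha d P := by
  unfold alpha
  rw [coeff_topPart]
  simp

lemma topPart_eq_self {ℓ d : ℕ} (hℓ : d ≤ ℓ) {P : ℚ[X]} (hP : P.natDegree ≤ d) : topPart ℓ d P = P := by
  ext n
  rw [coeff_topPart]
  by_cases h : n ≤ d
  · rw [if_pos ⟨by omega, h⟩]
  · rw [if_neg (fun h' => h h'.2), coeff_eq_zero_of_natDegree_lt (by omega)]

lemma polyLE_topPart {ℓ d : ℕ} {P : ℚ[X]} (hP : P.natDegree ≤ d) (h : PolyLE 0 P) :
    PolyLE 0 (topPart ℓ d P) := by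
  rcases polyLE_iff.1 h with h0 | h0
  · rw [h0, topPart_zero]
    exact polyLE_refl _
  · by_cases he : d - ℓ ≤ P.natDegree
    · rw [polyLE_iff]
      right
      have hc : (topPart ℓ d P).coeff P.natDegree = P.leadingCoeff := by
        rw [coeff_topPart, if_pos ⟨he, hP⟩]
        rfl
      have hdeg : (topPart ℓ d P).natDegree ≤ P.natDegree := by
        rw [natDegree_le_iff_coeff_eq_zero]
        intro n hn
        rw [coeff_topPart]
        split_ifs
        · exact coeff_eq_zero_of_natDegree_lt hn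
        · rfl
      have hdeg' : (topPart ℓ d P).natDegree = P.natDegree :=
        le_antisymm hdeg (le_natDegree_of_ne_zero (by rw [hc]; exact h0.ne'))
      rw [leadingCoeff, hdeg', hc]
      exact h0
    · have : topPart ℓ d P = 0 := by
        ext n
        rw [coeff_topPart, coeff_zero]
        split_ifs with h1
        · exact coeff_eq_zero_of_natDegree_lt (by omega)
        · rfl
      rw [this]
      exact polyLE_refl _

/-- `redle` for `alphaL` on truncations is `RedLE`. -/
lemma redle_iff {d : ℕ} {P Q : ℚ[X]} : redle (alphaL d) (toPV P) (toPV Q) ↔ RedLE d P Q := by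
  unfold redle RedLE
  rw [alphaL_toPV, alphaL_toPV, ← toPV_smul, ← toPV_smul, toPV_le]

lemma redlt_iff {d : ℕ} {P Q : ℚ[X]} : redlt (alphaL d) (toPV P) (toPV Q) ↔ RedLT d P Q := by
  unfold redlt RedLT
  rw [alphaL_toPV, alphaL_toPV, ← toPV_smul, ← toPV_smul, toPV_lt]

/-- The polynomial `x X^e + y X^(e+1)`-type comparison: a polynomial all of whose coefficients except at
`d - 1` vanish is `≥ 0` iff that coefficient is. -/
lemma polyLE_iff_coeff {P : ℚ[X]} {e : ℕ} (h : ∀ n, n ≠ e → P.coeff n = 0) : PolyLE 0 P ↔ 0 ≤ P.coeff e := by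
  have hP : P = monomial e (P.coeff e) := by
    ext n
    rw [coeff_monomial]
    split_ifs with h1
    · rw [h1]
    · exact h n (fun h2 => h1 h2.symm)
  rw [polyLE_iff]
  rcases eq_or_ne (P.coeff e) 0 with h0 | h0
  · have : P = 0 := by rw [hP, h0, map_zero]
    simp [this]
  · have h1 : P.leadingCoeff = P.coeff e := by
      conv_lhs => rw [hP]
      exact leadingCoeff_monomial _ _
    rw [h1]
    constructor
    · rintro (h2 | h2)
      · rw [h2] at h0
        simp at h0
      · exact h2.le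
    · intro h2
      exact Or.inr (lt_of_le_of_ne h2 h0.symm)

lemma redLE_topPart_one_iff {d : ℕ} (hd : 1 ≤ d) {P Q : ℚ[X]} (hP : 0 < alpha d P) (hQ : 0 < alpha d Q) :
    RedLE d (topPart 1 d P) (topPart 1 d Q) ↔ hatSlope d P ≤ hatSlope d Q := by
  unfold RedLE
  rw [polyLE_iff_sub, alpha_topPart, alpha_topPart]
  have hz : ∀ n, n ≠ d - 1 → (alpha d P • topPart 1 d Q - alpha d Q • topPart 1 d P).coeff n = 0 := by
    intro n hn
    rw [coeff_sub, coeff_smul, coeff_smul, coeff_topPart, coeff_topPart]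
    by_cases h : d - 1 ≤ n ∧ n ≤ d
    · have : n = d := by omega
      subst this
      rw [if_pos h, if_pos h]
      simp only [alpha, smul_eq_mul]
      ring
    · rw [if_neg h, if_neg h]
      simp
  rw [polyLE_iff_coeff hz]
  unfold hatSlope
  rw [div_le_div_iff₀ hP hQ, coeff_sub, coeff_smul, coeff_smul, coeff_topPart, coeff_topPart,
    if_pos ⟨le_rfl, by omega⟩, if_pos ⟨le_rfl, by omega⟩, sub_nonneg, smul_eq_mul, smul_eq_mul]
  have hf : (0 : ℚ) < ((d - 1).factorial : ℚ) := by exact_mod_cast Nat.factorial_pos _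
  constructor
  · intro h
    have := mul_le_mul_of_nonneg_left h hf.le
    have e1 : alpha (d - 1) P = ((d - 1).factorial : ℚ) * P.coeff (d - 1) := rfl
    have e2 : alpha (d - 1) Q = ((d - 1).factorial : ℚ) * Q.coeff (d - 1) := rfl
    rw [e1, e2]
    linarith
  · intro h
    have e1 : alpha (d - 1) P = ((d - 1).factorial : ℚ) * P.coeff (d - 1) := rfl
    have e2 : alpha (d - 1) Q = ((d - 1).factorial : ℚ) * Q.coeff (d - 1) := rfl
    rw [e1, e2] at h
    refine le_of_mul_le_mul_left ?_ hf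
    linarith

lemma redLT_topPart_one_iff {d : ℕ} (hd : 1 ≤ d) {P Q : ℚ[X]} (hP : 0 < alpha d P) (hQ : 0 < alpha d Q) :
    RedLT d (topPart 1 d P) (topPart 1 d Q) ↔ hatSlope d P < hatSlope d Q := by
  have := redLE_topPart_one_iff hd hQ hP
  rw [← not_le, ← this]
  unfold RedLE RedLT
  rw [polyLT_iff_not_le]

end K849.TopPart
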