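import Groth.Agent.ShStab.K849.HomBCH
import Groth.Agent.FormalB.PullCoh
import Groth.Agent.S1391

/-!
# `dim Hom(E_s, F_s)` on the fibres of a family

* `K849.HomFib.exists_fun`: for `f : Y → S` proper, `j : Spec A → S` an open immersion, `A` noetherian, `L` ample on
  `Y_A`, `E`, `F` coherent on `Y`, `F` flat over `S`: the function `y ↦ dim Hom(E_{j(y)}, F_{j(y)})` on `Spec A` is
  upper semicontinuous.
-/

set_option autoImplicit false
set_option backward.isDefEq.respectTransparency false
universe u v w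
open CategoryTheory CategoryTheory.Limits AlgebraicGeometry Opposite TopologicalSpace
open scoped TensorProduct

namespace K849.HomFib

open Groth.Agent K849.HomBCH

attribute [local instance] Groth.Agent.CurvesC.LinMod.linearModules

/-- The dimension of `Hom(E_s, F_s)` over `κ(s)`, with finiteness. -/
def DimHom {Y S : Scheme.{u}} (f : Y ⟶ S) (E F : Y.Modules) (s : S) (n : ℕ) : Prop :=
  letI : (f.fiber s).Over (Spec (CommRingCat.of (S.residueField s))) := ⟨f.fiberToSpecResidueField s⟩
  Module.Finite (S.residueField s) (CohIII.fiberMod f E s ⟶ CohIII.fiberMod f F s) ∧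
    Module.finrank (S.residueField s) (CohIII.fiberMod f E s ⟶ CohIII.fiberMod f F s) = n

theorem exists_fun {A : Type u} [CommRing A] [IsNoetherianRing A] {Y S : Scheme.{u}} (f : Y ⟶ S) [IsProper f]
    (j : Spec (CommRingCat.of A) ⟶ S) [IsOpenImmersion j] {L : (pullback f j).Modules} (hL : CohB1.IsAmple L)
    (E F : Y.Modules) (hE : Coh.IsCoh E) (hF : Coh.IsCoh F) (hfl : FlatMod.IsFlatOver f F) :
    ∃ n : PrimeSpectrum A → ℕ, (∀ m, IsOpen {y | n y ≤ m}) ∧
      ∀ y : (Spec (CommRingCat.of A) : Scheme.{u}), DimHom f E F (j y) (n y) := by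
  let o1 : (pullback f j).Over (Spec (CommRingCat.of A)) := ⟨pullback.snd f j⟩
  have hp : IsProper ((pullback f j) ↘ Spec (CommRingCat.of A)) := inferInstanceAs (IsProper (pullback.snd f j))
  have hEj := FormalB.PullCoh.isCoh_pullback (pullback.fst f j) hE
  have hFj := FormalB.PullCoh.isCoh_pullback (pullback.fst f j) hF
  have hflj : FlatMod.IsFlatOver ((pullback f j) ↘ Spec (CommRingCat.of A))
      ((Scheme.Modules.pullback (pullback.fst f j)).obj F) := fun x =>
    Groth.Agent.S1391.result f (pullback.snd f j) (pullback.fst f j) j (IsPullback.of_hasPullback f j) F hF.1 x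
      (hfl _)
  obtain ⟨n, hn, hn'⟩ := HomBCH.exists_fun hL _ _ hEj hFj hflj
  refine ⟨n, hn, fun y => ?_⟩
  have hsub : Set.range (S.fromSpecResidueField (j y)) ⊆ Set.range j := by
    rintro _ ⟨z, rfl⟩
    exact ⟨y, (Scheme.fromSpecResidueField_apply _ _).symm⟩
  let t0 : Spec (S.residueField (j y)) ⟶ Spec (CommRingCat.of A) :=
    IsOpenImmersion.lift j (S.fromSpecResidueField (j y)) hsub
  have ht0 : t0 ≫ j = S.fromSpecResidueField (j y) := IsOpenImmersion.lift_fac _ _ _
  let φ : CommRingCat.of A ⟶ S.residueField (j y) := Spec.preimage t0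
  have hφ : Spec.map φ = t0 := Spec.map_preimage t0
  let alg : Algebra A (S.residueField (j y)) := φ.hom.toAlgebra
  obtain ⟨g0, hg0, sq0⟩ : ∃ g0 : f.fiber (j y) ⟶ pullback f j, g0 ≫ pullback.fst f j = f.fiberι (j y) ∧
      IsPullback g0 (f.fiberToSpecResidueField (j y)) (pullback.snd f j) t0 :=
    Ega3B.AcycNbhd.factor (IsPullback.of_hasPullback f (S.fromSpecResidueField (j y)))
      (IsPullback.of_hasPullback f j) t0 ht0
  let o : (f.fiber (j y)).Over (Spec (CommRingCat.of (S.residueField (j y)))) := ⟨f.fiberToSpecResidueField (j y)⟩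
  have sq : IsPullback g0 ((f.fiber (j y)) ↘ Spec (CommRingCat.of (S.residueField (j y))))
      ((pullback f j) ↘ Spec (CommRingCat.of A))
      (Spec.map (CommRingCat.ofHom (algebraMap A (S.residueField (j y))))) := by
    have : Spec.map (CommRingCat.ofHom (algebraMap A (S.residueField (j y)))) = t0 := hφ
    rw [this]
    exact sq0
  have key := hn' (S.residueField (j y)) g0 sq
  have hy : PrimeSpectrum.comap (algebraMap A (S.residueField (j y))) ⊥ = y := by
    have h1 : t0 (⊥ : PrimeSpectrum (S.residueField (j y))) = y := by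
      apply j.isOpenEmbedding.injective
      rw [← Scheme.Hom.comp_apply, ht0, Scheme.fromSpecResidueField_apply]
    rw [← hφ] at h1
    exact h1
  rw [hy] at key
  let eE : (Scheme.Modules.pullback g0).obj ((Scheme.Modules.pullback (pullback.fst f j)).obj E) ≅
      CohIII.fiberMod f E (j y) := Ega3B.AcycNbhd.compIso g0 (pullback.fst f j) (f.fiberι (j y)) hg0 E
  let eF : (Scheme.Modules.pullback g0).obj ((Scheme.Modules.pullback (pullback.fst f j)).obj F) ≅
      CohIII.fiberMod f F (j y) := Ega3B.AcycNbhd.compIso g0 (pullback.fst f j) (f.fiberι (j y)) hg0 F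
  let e := Linear.homCongr (S.residueField (j y)) eE eF
  have h1 := key.1
  exact ⟨Module.Finite.equiv e, e.finrank_eq.symm.trans key.2⟩

/-- Scalar endomorphisms, in terms of sections. -/
theorem simple_iff {Y S : Scheme.{u}} (f : Y ⟶ S) (F : Y.Modules) (s : S) :
    (∀ φ : (CohIII.fiberMod f F s) ⟶ (CohIII.fiberMod f F s), ∃ c : ↥(S.residueField s),
      ∀ (V : (f.fiber s).Opens) (x : (CohIII.fiberMod f F s).val.obj (Opposite.op V)),
        (φ.app V) x = ((f.fiber s).ringCatSheaf.obj.map (homOfLE (le_top : V ≤ ⊤)).op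
          (Coh.toGlobal (f.fiberToSpecResidueField s) c)) • x) ↔
      ∀ φ : (CohIII.fiberMod f F s) ⟶ (CohIII.fiberMod f F s), ∃ c : ↥(S.residueField s),
        (letI : (f.fiber s).Over (Spec (CommRingCat.of (S.residueField s))) := ⟨f.fiberToSpecResidueField s⟩
        c • 𝟙 _) = φ := by
  let o : (f.fiber s).Over (Spec (CommRingCat.of (S.residueField s))) := ⟨f.fiberToSpecResidueField s⟩
  refine forall_congr' fun φ => exists_congr fun c => ?_
  constructor
  · intro h
    apply Scheme.Modules.hom_ext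
    intro U
    ext x
    exact (h U x).symm
  · rintro rfl V x
    rfl

theorem simple_iff' {Y S : Scheme.{u}} (f : Y ⟶ S) (F : Y.Modules) (s : S) (n : ℕ) (hn : DimHom f F F s n)
    (h0 : ¬ IsZero (CohIII.fiberMod f F s)) :
    (∀ φ : (CohIII.fiberMod f F s) ⟶ (CohIII.fiberMod f F s), ∃ c : ↥(S.residueField s),
      ∀ (V : (f.fiber s).Opens) (x : (CohIII.fiberMod f F s).val.obj (Opposite.op V)),
        (φ.app V) x = ((f.fiber s).ringCatSheaf.obj.map (homOfLE (le_top : V ≤ ⊤)).op
          (Coh.toGlobal (f.fiberToSpecResidueField s) c)) • x) ↔ n ≤ 1 := by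
  rw [simple_iff f F s]
  let o : (f.fiber s).Over (Spec (CommRingCat.of (S.residueField s))) := ⟨f.fiberToSpecResidueField s⟩
  have h1 : Module.Finite (S.residueField s) (CohIII.fiberMod f F s ⟶ CohIII.fiberMod f F s) := hn.1
  have h2 : Module.finrank (S.residueField s) (CohIII.fiberMod f F s ⟶ CohIII.fiberMod f F s) = n := hn.2
  rw [← h2]
  constructor
  · intro h
    exact finrank_le_one (𝟙 (CohIII.fiberMod f F s)) h
  · intro h φ
    have h3 : 𝟙 (CohIII.fiberMod f F s) ≠ 0 := fun h4 => h0 ((IsZero.iff_id_eq_zero _).2 h4)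
    have h4 : Nontrivial (CohIII.fiberMod f F s ⟶ CohIII.fiberMod f F s) := ⟨_, _, h3⟩
    have h5 : Module.finrank (S.residueField s) (CohIII.fiberMod f F s ⟶ CohIII.fiberMod f F s) = 1 :=
      le_antisymm h Module.finrank_pos
    exact (finrank_eq_one_iff_of_nonzero' _ h3).1 h5 φ

end K849.HomFib
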