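import Groth.Agent.ShStab.K849.Inst

/-!
# Harder–Narasimhan filtrations for the `ℓ`-truncated Hilbert polynomials
-/

set_option autoImplicit false
set_option linter.unusedSectionVars false

universe u

open CategoryTheory CategoryTheory.Limits AlgebraicGeometry Polynomial

namespace K849.InstHN

open StabCat K849.Abs K849.PolyOrd K849.TopPart K849.LatHN K849.Inst

variable {k : Type u} [Field k] {X : Scheme.{u}} [X.Over (Spec (CommRingCat.of k))]
  {L : X.Modules} {hp : X.Modules → ℚ[X]} [IsNoetherian X] (h : HilbFacts k X L hp)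

lemma factor_ne_zero {C : Type*} [Category C] [Abelian C] {E : C} (s : LTSeries (Subobject E))
    (i : Fin s.length) : ¬ IsZero (factor s i) := by
  intro hz
  have hlt := s.step i
  have hepi : Epi (Subobject.ofLE (s i.castSucc) (s i.succ) (le_of_lt hlt)) := by
    apply Preadditive.epi_of_isZero_cokernel
    exact hz
  have hiso : IsIso (Subobject.ofLE (s i.castSucc) (s i.succ) (le_of_lt hlt)) := isIso_of_mono_of_epi _
  refine absurd (?_ : s i.succ ≤ s i.castSucc) (not_le_of_gt hlt)
  exact Subobject.le_of_comm (inv (Subobject.ofLE (s i.castSucc) (s i.succ) (le_of_lt hlt))) (by simp)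

include h

/-- Abstract HN filtrations are the `ℓ`-Harder–Narasimhan filtrations. -/
theorem isAHN_iff {E : X.Modules} (ℓ d : ℕ) (s : LTSeries (Subobject E)) :
    IsAHN (ok hp d) (Pl hp ℓ d) (alphaL d) s ↔
      s.head = ⊥ ∧ s.last = ⊤ ∧ (∀ i : Fin s.length, ShStab.IsEllSemistable k X L (factor s i) d ℓ) ∧
        ∀ i j : Fin s.length, i.val + 1 = j.val →
          RedLT d (topPart ℓ d (hp (factor s j))) (topPart ℓ d (hp (factor s i))) := by
  constructor
  · rintro ⟨h1, h2, h3, h4⟩
    refine ⟨h1, h2, fun i => ?_, fun i j hij => ?_⟩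
    · rw [isEllSemistable_iff h]
      exact ⟨(h3 i).1, factor_ne_zero s i, (h3 i).2.1, (h3 i).2.2⟩
    · exact redlt_iff.1 (h4 i j hij)
  · rintro ⟨h1, h2, h3, h4⟩
    refine ⟨h1, h2, fun i => ?_, fun i j hij => ?_⟩
    · obtain ⟨h5, -, h6, h7⟩ := (isEllSemistable_iff h ℓ d).1 (h3 i)
      exact ⟨h5, h6, h7⟩
    · exact redlt_iff.2 (h4 i j hij)

/-- Existence and uniqueness of the `ℓ`-Harder–Narasimhan filtration. -/
theorem existsUnique_ellHN {E : X.Modules} (hE : Coh.IsCoh E) {d : ℕ} (hp1 : ShStab.IsPure X E d) (ℓ : ℕ) :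
    ∃! s : LTSeries (Subobject E), s.head = ⊥ ∧ s.last = ⊤ ∧
      (∀ i : Fin s.length, ShStab.IsEllSemistable k X L (factor s i) d ℓ) ∧
        ∀ i j : Fin s.length, i.val + 1 = j.val →
          RedLT d (topPart ℓ d (hp (factor s j))) (topPart ℓ d (hp (factor s i))) := by
  simp_rw [← isAHN_iff h]
  exact existsUnique_isAHN (setup h ℓ d) (ok_of_isPure h hE hp1) (apure_of_isPure h hE hp1 ℓ)

lemma isCoh_of_ell {E : X.Modules} {ℓ d : ℕ} (hE : ShStab.IsEllSemistable k X L E d ℓ) : Coh.IsCoh E := hE.1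

lemma alpha_pos_of_ell {E : X.Modules} {ℓ d : ℕ} (hE : ShStab.IsEllSemistable k X L E d ℓ) :
    0 < alpha d (hp E) := by
  obtain ⟨h1, h2, h3, -⟩ := (isEllSemistable_iff h ℓ d).1 hE
  have := h3 E (𝟙 E) inferInstance h1 h2
  rwa [alphaL_Pl h] at this

/-- The slope version: existence and uniqueness of the slope HN filtration of a pure sheaf. -/
theorem existsUnique_muHN {E : X.Modules} (hE : Coh.IsCoh E) {d : ℕ} (hd : 1 ≤ d)
    (hp1 : ShStab.IsPure X E d) :
    ∃! s : LTSeries (Subobject E), s.head = ⊥ ∧ s.last = ⊤ ∧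
      (∀ i : Fin s.length, ShStab.IsPure X (factor s i) d ∧ ShStab.IsMuSemistable k X L (factor s i) d) ∧
      ∀ (i j : Fin s.length), i.val + 1 = j.val →
        ∀ (p q : ℚ[X]), ShStab.IsHilbPoly k X L (factor s i) p →
          ShStab.IsHilbPoly k X L (factor s j) q → hatSlope d q < hatSlope d p := by
  have key : ∀ s : LTSeries (Subobject E), (s.head = ⊥ ∧ s.last = ⊤ ∧
      (∀ i : Fin s.length, ShStab.IsPure X (factor s i) d ∧ ShStab.IsMuSemistable k X L (factor s i) d) ∧
      ∀ (i j : Fin s.length), i.val + 1 = j.val →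
        ∀ (p q : ℚ[X]), ShStab.IsHilbPoly k X L (factor s i) p →
          ShStab.IsHilbPoly k X L (factor s j) q → hatSlope d q < hatSlope d p) ↔
      (s.head = ⊥ ∧ s.last = ⊤ ∧ (∀ i : Fin s.length, ShStab.IsEllSemistable k X L (factor s i) d 1) ∧
        ∀ i j : Fin s.length, i.val + 1 = j.val →
          RedLT d (topPart 1 d (hp (factor s j))) (topPart 1 d (hp (factor s i)))) := by
    intro s
    simp_rw [isMuSemistable_iff h d hd]
    constructor
    · rintro ⟨h1, h2, h3, h4⟩
      refine ⟨h1, h2, h3, fun i j hij => ?_⟩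
      rw [redLT_topPart_one_iff hd (alpha_pos_of_ell h (h3 j)) (alpha_pos_of_ell h (h3 i))]
      exact h4 i j hij _ _ (h.spec _ (h3 i).1) (h.spec _ (h3 j).1)
    · rintro ⟨h1, h2, h3, h4⟩
      refine ⟨h1, h2, h3, fun i j hij p q hpi hqj => ?_⟩
      obtain rfl := h.unique (h3 i).1 hpi
      obtain rfl := h.unique (h3 j).1 hqj
      rw [← redLT_topPart_one_iff hd (alpha_pos_of_ell h (h3 j)) (alpha_pos_of_ell h (h3 i))]
      exact h4 i j hij
  simp_rw [key]
  exact existsUnique_ellHN h hE hp1 1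

/-- Uniqueness of the minimal `ℓ`-destabilising quotient. -/
theorem exists_iso_last {E : X.Modules} (hE : Coh.IsCoh E) {d ℓ : ℕ} (hp1 : ShStab.IsPure X E d)
    (s : LTSeries (Subobject E))
    (hs : StabCat.IsHNWith (fun G => ShStab.IsEllSemistable k X L G d ℓ)
      (fun G P => ∃ Q : Polynomial ℚ, ShStab.IsHilbPoly k X L G Q ∧ P = StabCat.topPart ℓ d Q) d E s)
    (G : X.Modules) (q : E ⟶ G) [Epi q] (hG : Coh.IsCoh G) (hG0 : ¬ IsZero G) (hGp : ShStab.IsPure X G d)
    (pF pG : ℚ[X]) (hpF : ShStab.IsHilbPoly k X L (cokernel s.eraseLast.last.arrow) pF)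
    (hpG : ShStab.IsHilbPoly k X L G pG)
    (hα : StabCat.alpha d pF = StabCat.alpha d pG)
    (hred : StabCat.RedEq d (StabCat.topPart ℓ d pF) (StabCat.topPart ℓ d pG)) :
    ∃ φ : (cokernel s.eraseLast.last.arrow) ≅ G, cokernel.π s.eraseLast.last.arrow ≫ φ.hom = q := by
  have hEok := ok_of_isPure h hE hp1
  have hset := setup h ℓ d
  have hA : IsAHN (ok hp d) (Pl hp ℓ d) (alphaL d) s := by
    rw [isAHN_iff h]
    obtain ⟨h1, h2, h3, h4⟩ := hs
    refine ⟨h1, h2, h3, fun i j hij => ?_⟩
    exact h4 i j hij _ _ ⟨_, h.spec _ (h3 i).1, rfl⟩ ⟨_, h.spec _ (h3 j).1, rfl⟩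
  have hterm := ok_term hset hEok s hA.1 (fun i => (hA.2.2.1 i).1)
  have hlast : ok hp d ((s.eraseLast.last : Subobject E) : X.Modules) := by
    rw [RelSeries.last_eraseLast]
    exact hterm _
  have hFok : ok hp d (cokernel s.eraseLast.last.arrow) := hset.ok_coker _ hlast hEok
  obtain rfl := h.unique hFok.1 hpF
  obtain rfl := h.unique hG hpG
  have hGok := ok_of_isPure h hG hGp
  have hker := kernel_eq_penult hset hEok s hA q hGok hG0 (apure_of_isPure h hG hGp ℓ)
    (by rw [alphaL_Pl h, alphaL_Pl h, hα]) (by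
      refine redle_iff.2 ?_
      unfold StabCat.RedEq at hred
      unfold RedLE
      rw [hred]
      exact polyLE_refl _)
  rw [hker]
  have hiso : IsIso (cokernel.desc (kernelSubobject q).arrow q (kernelSubobject_arrow_comp q)) := by
    have hm : Mono (cokernel.desc (kernelSubobject q).arrow q (kernelSubobject_arrow_comp q)) := by
      rw [Preadditive.mono_iff_cancel_zero]
      intro T y hy
      obtain ⟨T₁, π₁, hπ₁, y₁, hy₁⟩ := surjective_up_to_refinements_of_epi
        (cokernel.π (kernelSubobject q).arrow) y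
      have h1 : y₁ ≫ q = 0 := by
        have : y₁ ≫ q = π₁ ≫ y ≫ cokernel.desc (kernelSubobject q).arrow q (kernelSubobject_arrow_comp q) := by
          rw [← Category.assoc π₁, hy₁]
          simp
        rw [this, hy, Limits.comp_zero]
      have h3 : y₁ = factorThruKernelSubobject q _ h1 ≫ (kernelSubobject q).arrow :=
        (factorThruKernelSubobject_comp_arrow q _ h1).symm
      rw [← cancel_epi π₁, hy₁, h3, Category.assoc, cokernel.condition, Limits.comp_zero, Limits.comp_zero]
    have he : Epi (cokernel.desc (kernelSubobject q).arrow q (kernelSubobject_arrow_comp q)) := by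
      have : Epi (cokernel.π (kernelSubobject q).arrow ≫
          cokernel.desc (kernelSubobject q).arrow q (kernelSubobject_arrow_comp q)) := by
        rw [cokernel.π_desc]
        infer_instance
      exact epi_of_epi (cokernel.π (kernelSubobject q).arrow) _
    exact isIso_of_mono_of_epi _
  exact ⟨asIso (cokernel.desc (kernelSubobject q).arrow q (kernelSubobject_arrow_comp q)), by simp⟩

end K849.InstHN
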