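import Groth.Agent.ShStab.K849.InstMu
import Groth.Agent.ShStab.K849.Reflex
import Groth.Agent.ShStab.K848.Hull
import Groth.Agent.S1535
import Groth.Agent.ShStab.K846.EigSheaf

/-!
# Morphisms between slope-stable sheaves
-/

set_option autoImplicit false
set_option linter.unusedSectionVars false

universe u

open CategoryTheory CategoryTheory.Limits AlgebraicGeometry Polynomial

namespace K849.InstRef

open StabCat K849.Abs K849.PolyOrd K849.TopPart K849.LatHN K849.Inst K849.InstHN K849.InstMu

variable {k : Type u} [Field k] {X : Scheme.{u}} [X.Over (Spec (CommRingCat.of k))]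
  {L : X.Modules} {hp : X.Modules → ℚ[X]} [IsNoetherian X] (h : HilbFacts k X L hp)

include h

lemma alpha_pos_of_pure {F E : X.Modules} {d : ℕ} (hE : Coh.IsCoh E) (hp1 : ShStab.IsPure X E d)
    (ι : F ⟶ E) [Mono ι] (hF : Coh.IsCoh F) (h0 : ¬ IsZero F) : 0 < alpha d (hp F) := by
  have h1 := apure_of_isPure h hE hp1 1
  have hok : ok hp d F := ⟨hF, (natDegree_le_of_mono h ι hF hE).trans (ok_of_isPure h hE hp1).2⟩
  have := h1 F ι inferInstance hok h0
  rwa [alphaL_Pl h] at this

lemma alpha_add (d : ℕ) (P Q : ℚ[X]) : alpha d (P + Q) = alpha d P + alpha d Q := by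
  unfold alpha
  rw [coeff_add]
  ring

/-- Nonzero morphisms between pure slope-stable sheaves with `slope G ≤ slope F` are injective with cokernel
of codimension at least two. -/
theorem mono_of_isMuStable {F G : X.Modules} {d : ℕ} (hd : 1 ≤ d) (hFt : ShStab.IsPure X F d)
    (hGt : ShStab.IsPure X G d)
    (hF : ShStab.IsMuStable k X L F d) (hG : ShStab.IsMuStable k X L G d)
    (hle : StabCat.hatSlope d (hp G) ≤ StabCat.hatSlope d (hp F)) (φ : F ⟶ G) (hφ : φ ≠ 0) :
    Mono φ ∧ alpha d (hp (cokernel φ)) = 0 ∧ alpha (d - 1) (hp (cokernel φ)) = 0 := by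
  have hFc := hF.1
  have hGc := hG.1
  have hset := setup h 1 d
  have hFok := ok_of_isPure h hFc hFt
  have hGok := ok_of_isPure h hGc hGt
  have hFa := alpha_pos_of_pure h hFc hFt (𝟙 F) hFc hF.2.1
  have hGa := alpha_pos_of_pure h hGc hGt (𝟙 G) hGc hG.2.1
  -- the image
  obtain ⟨I, p, i, hpe, him, hpi, hI, hI0⟩ := exists_image hset hFok hGok φ
  have hI0 := hI0 hφ
  have hIa := alpha_pos_of_pure h hGc hGt i hI.1 hI0
  have hK := hset.ok_ker p hFok hI
  have hFK : hp F = hp (kernel p) + hp I := h.add _ (Setup.shortExact_ker p) hK.1 hFok.1 hI.1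
  have hQ := hset.ok_coker i hI hGok
  have hGQ : hp G = hp I + hp (cokernel i) := h.add _ (Setup.shortExact_coker i) hI.1 hGok.1 hQ.1
  have hKn := alpha_nonneg h hK
  have hQn := alpha_nonneg h hQ
  have e1 : alpha d (hp F) = alpha d (hp (kernel p)) + alpha d (hp I) := by rw [hFK, alpha_add h]
  have e2 : alpha (d - 1) (hp F) = alpha (d - 1) (hp (kernel p)) + alpha (d - 1) (hp I) := by
    rw [hFK, alpha_add h]
  have e3 : alpha d (hp G) = alpha d (hp I) + alpha d (hp (cokernel i)) := by rw [hGQ, alpha_add h]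
  have e4 : alpha (d - 1) (hp G) = alpha (d - 1) (hp I) + alpha (d - 1) (hp (cokernel i)) := by
    rw [hGQ, alpha_add h]
  unfold hatSlope at hle
  rw [div_le_div_iff₀ hGa hFa] at hle
  -- slope F ≤ slope I, strictly if the kernel has positive rank
  have s1 : alpha d (hp (kernel p)) ≠ 0 →
      alpha (d - 1) (hp F) * alpha d (hp I) < alpha (d - 1) (hp I) * alpha d (hp F) := by
    intro hne
    have hKp : 0 < alpha d (hp (kernel p)) := lt_of_le_of_ne hKn hne.symm
    have := hF.2.2.2.2 (kernel p) (kernel.ι p) inferInstance hK.1 (hp (kernel p)) (hp F)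
      (h.spec _ hK.1) (h.spec _ hFc) hKp (by linarith)
    unfold hatSlope at this
    rw [div_lt_div_iff₀ hKp hFa] at this
    rw [e1, e2] at this ⊢
    nlinarith
  -- slope I ≤ slope G, strictly if the cokernel has positive rank
  have s2 : alpha d (hp (cokernel i)) ≠ 0 →
      alpha (d - 1) (hp I) * alpha d (hp G) < alpha (d - 1) (hp G) * alpha d (hp I) := by
    intro hne
    have hQp : 0 < alpha d (hp (cokernel i)) := lt_of_le_of_ne hQn hne.symm
    have := hG.2.2.2.2 I i him hI.1 (hp I) (hp G) (h.spec _ hI.1) (h.spec _ hGc) hIa (by linarith)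
    unfold hatSlope at this
    rwa [div_lt_div_iff₀ hIa hGa] at this
  -- if the rank of the cokernel of `i` is zero, its `alpha (d-1)` is nonnegative
  have n1 : ∀ {A : X.Modules}, ok hp d A → alpha d (hp A) = 0 → 0 ≤ alpha (d - 1) (hp A) := by
    intro A hA h0
    by_cases hz : IsZero A
    · rw [hp_zero h hz]
      simp [alpha]
    · have hlt : (hp A).natDegree ≤ d - 1 := by
        have h1 : (hp A).natDegree ≠ d := by
          intro h2
          rw [← alpha_pos_iff h hA hz] at h2
          linarith
        have := hA.2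
        omega
      exact alpha_nonneg h (d := d - 1) ⟨hA.1, hlt⟩
  have s2' : alpha (d - 1) (hp I) * alpha d (hp G) ≤ alpha (d - 1) (hp G) * alpha d (hp I) := by
    by_cases hne : alpha d (hp (cokernel i)) = 0
    · have := n1 hQ hne
      rw [e3, e4, hne]
      nlinarith
    · exact (s2 hne).le
  -- the kernel has rank zero
  have hK0 : alpha d (hp (kernel p)) = 0 := by
    by_contra hne
    have h1 := s1 hne
    -- F1*I0 < I1*F0, I1*G0 ≤ G1*I0, G1*F0 ≤ F1*G0
    have h2 : alpha (d - 1) (hp F) * alpha d (hp I) * alpha d (hp G) <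
        alpha (d - 1) (hp I) * alpha d (hp F) * alpha d (hp G) := mul_lt_mul_of_pos_right h1 hGa
    have h3 : alpha (d - 1) (hp I) * alpha d (hp G) * alpha d (hp F) ≤
        alpha (d - 1) (hp G) * alpha d (hp I) * alpha d (hp F) := mul_le_mul_of_nonneg_right s2' hFa.le
    have h4 := mul_le_mul_of_nonneg_right hle hIa.le
    nlinarith
  have hKz : IsZero (kernel p) := by
    by_contra hz
    have := alpha_pos_of_pure h hFc hFt (kernel.ι p) hK.1 hz
    linarith
  have hpm : Mono p := Preadditive.mono_of_isZero_kernel p hKz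
  have hpiso : IsIso p := isIso_of_mono_of_epi p
  have hmono : Mono φ := by
    rw [← hpi]
    exact mono_comp _ _
  have hpF : hp F = hp I := by
    rw [hFK, hp_zero h hKz, zero_add]
  have hFG : hp G = hp F + hp (cokernel φ) := by
    have hc : Coh.IsCoh (cokernel φ) := Groth.Agent.Sga67.CohBasic.isCoh_cokernel φ hFc.1 hGc
    exact h.add _ (Setup.shortExact_coker φ) hFc hGc hc
  have e5 : alpha d (hp G) = alpha d (hp F) + alpha d (hp (cokernel φ)) := by
    rw [hFG, alpha_add h]
  have e6 : alpha (d - 1) (hp G) = alpha (d - 1) (hp F) + alpha (d - 1) (hp (cokernel φ)) := by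
    rw [hFG, alpha_add h]
  have hQ0 : alpha d (hp (cokernel i)) = 0 := by
    by_contra hne
    have h1 := s2 hne
    rw [← hpF] at h1
    linarith
  have hc0 : alpha d (hp (cokernel φ)) = 0 := by
    rw [← hpF] at e3
    linarith
  refine ⟨hmono, hc0, ?_⟩
  have hcok : ok hp d (cokernel φ) := hset.ok_coker φ hFok hGok
  have h1 := n1 hcok hc0
  rw [e5, e6, hc0] at hle
  nlinarith

/-- In that case the cokernel has dimension at most `d - 2`, or vanishes. -/
lemma natDegree_add_two_le {A : X.Modules} {d : ℕ} (hA : ok hp d A)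
    (h0 : alpha d (hp A) = 0) (h1 : alpha (d - 1) (hp A) = 0) :
    IsZero A ∨ (hp A).natDegree + 2 ≤ d := by
  by_cases hz : IsZero A
  · exact Or.inl hz
  · right
    have hpos := h.pos A hA.1 hz
    have c0 : (hp A).coeff d = 0 := by
      unfold alpha at h0
      have : ((d.factorial : ℕ) : ℚ) ≠ 0 := by exact_mod_cast (Nat.factorial_pos d).ne'
      exact (mul_eq_zero.1 h0).resolve_left this
    have c1 : (hp A).coeff (d - 1) = 0 := by
      unfold alpha at h1
      have : (((d - 1).factorial : ℕ) : ℚ) ≠ 0 := by exact_mod_cast (Nat.factorial_pos _).ne'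
      exact (mul_eq_zero.1 h1).resolve_left this
    have h2 : (hp A).natDegree ≠ d := fun e => by
      rw [leadingCoeff, e, c0] at hpos
      exact lt_irrefl _ hpos
    have h3 : (hp A).natDegree ≠ d - 1 := fun e => by
      rw [leadingCoeff, e, c1] at hpos
      exact lt_irrefl _ hpos
    have := hA.2
    omega

/-- Nonzero morphisms between reflexive slope-stable sheaves with `slope G ≤ slope F` on a smooth variety are
isomorphisms. -/
theorem isIso_of_isMuStable [IsIntegral X] [Smooth (X ↘ Spec (CommRingCat.of k))]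
    {n : ℕ} (hn : 1 ≤ n) (hX : topologicalKrullDim X = (n : WithBot ℕ∞))
    {F G : X.Modules} (hFr : RefHull.IsReflexive F) (hGr : RefHull.IsReflexive G)
    (hF : ShStab.IsMuStable k X L F n) (hG : ShStab.IsMuStable k X L G n)
    (hle : StabCat.hatSlope n (hp G) ≤ StabCat.hatSlope n (hp F)) (φ : F ⟶ G) (hφ : φ ≠ 0) :
    IsIso φ := by
  have hFtf := K849.Reflex.isTorsionFree_of_reflexive hF.1 hFr
  have hGtf := K849.Reflex.isTorsionFree_of_reflexive hG.1 hGr
  have hFt := K849.Reflex.isPure_of_torsionFree hFtf hX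
  have hGt := K849.Reflex.isPure_of_torsionFree hGtf hX
  obtain ⟨hm, h0, h1⟩ := mono_of_isMuStable h hn hFt hGt hF hG hle φ hφ
  have hcok : ok hp n (cokernel φ) := (setup h 1 n).ok_coker φ (ok_of_isPure h hF.1 hFt) (ok_of_isPure h hG.1 hGt)
  rcases natDegree_add_two_le h hcok h0 h1 with hz | hdeg
  · have : Epi φ := Preadditive.epi_of_isZero_cokernel φ hz
    exact isIso_of_mono_of_epi φ
  · have hz : ¬ IsZero (cokernel φ) ∨ IsZero (cokernel φ) := (em _).symm
    rcases hz with hz | hz
    swap
    · have : Epi φ := Preadditive.epi_of_isZero_cokernel φ hz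
      exact isIso_of_mono_of_epi φ
    have hcl : IsClosed (CohB1.support (cokernel φ)) := Groth.Agent.Ega3B.Devissage.isClosed_support hcok.1
    have hdim := h.dim _ hcok.1 hz
    let U : X.Opens := ⟨(CohB1.support (cokernel φ))ᶜ, hcl.isOpen_compl⟩
    have hreg : ∀ x : X, IsRegularLocalRing (X.presheaf.stalk x) := fun x => Groth.Agent.S1535.result k X x
    have hBig : K848.Hartogs.Big U := by
      intro x hx
      have hxs : x ∈ CohB1.support (cokernel φ) := by
        by_contra hne
        exact hx hne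
      obtain ⟨a, t, m, ha, -, ht, hm', hat⟩ :=
        Groth.Agent.CycA.IntLocal.exists_dims (X ↘ Spec (CommRingCat.of k)) x
      have hmn : m = n := by
        rw [hX] at hm'
        exact_mod_cast hm'.symm
      have hsub : closure {x} ⊆ CohB1.support (cokernel φ) :=
        hcl.closure_subset_iff.2 (Set.singleton_subset_iff.2 hxs)
      have hle' : topologicalKrullDim (closure {x} : Set X) ≤
          topologicalKrullDim (CohB1.support (cokernel φ)) :=
        (Topology.IsEmbedding.inclusion hsub).isInducing.topologicalKrullDim_le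
      rw [ht, hdim] at hle'
      have hle'' : t ≤ (hp (cokernel φ)).natDegree := by exact_mod_cast hle'
      rw [ha]
      have : 2 ≤ a := by omega
      exact_mod_cast this
    refine K849.Reflex.isIso_of_big (K848.Hull.isIntegrallyClosed_of_regular hreg) hBig hF.1 hFr hG.1 hGr φ ?_
    intro x hx
    refine ⟨Groth.Agent.CycB.StalkExact.stalkLin_injective φ x, ?_⟩
    exact (K848.Hartogs.not_mem_support_cokernel_iff φ x).1 hx

/-- Reflexive slope-stable sheaves are simple. -/
theorem simple_of_isMuStable [IsAlgClosed k] [IsIntegral X] [Smooth (X ↘ Spec (CommRingCat.of k))]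
    {n : ℕ} (hn : 1 ≤ n) (hX : topologicalKrullDim X = (n : WithBot ℕ∞))
    {F : X.Modules} (hFr : RefHull.IsReflexive F) (hF : ShStab.IsMuStable k X L F n) (φ : F ⟶ F) :
    ∃ c : k, φ = Formal.smulMod k F c := by
  obtain ⟨c, hc⟩ := K846.EigSheaf.exists_not_isIso (k := k) F hF.1 hF.2.1 φ
  refine ⟨c, ?_⟩
  by_contra hne
  exact hc (isIso_of_isMuStable h hn hX hFr hFr hF hF le_rfl _ (sub_ne_zero.mpr hne))

end K849.InstRef
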