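import Groth.Agent.ShStab.K849.CstFam
import Groth.Agent.Fdesc.PullbackStalk
import Groth.Agent.Variety.K430.Frob
import Groth.Agent.S0336
import Groth.Agent.S0549
import Groth.Agent.Sga5.SmoothField
import Groth.Agent.Ega4late.H544.Dim
import Groth.Agent.FormalB.PullCoh
import Mathlib.RingTheory.TensorProduct.IsBaseChangeFree

/-!
# Frobenius pull-back: generic stalk, lattices, torsion-freeness
-/

set_option autoImplicit false
universe u
open CategoryTheory CategoryTheory.Limits AlgebraicGeometry Opposite TopologicalSpace Module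

namespace K849.FrobPull

open Groth.Agent Groth.Agent.Fdesc Groth.Agent.CycB.StalkExact
open K848.TF K849.Cst K849.CstTor K849.DvrLat K849.CstDeg

section general

variable {X Y : Scheme.{u}} (f : X ⟶ Y) (M : Y.Modules) (x : X)

theorem exists_basis' {ι : Type*} (b : Basis ι (Y.presheaf.stalk (f.base x)) (M.presheaf.stalk (f.base x))) :
    ∃ b' : Basis ι (X.presheaf.stalk x) (((Scheme.Modules.pullback f).obj M).presheaf.stalk x),
      ∀ i, b' i = PullbackStalk.canAdd f M x (b i) := by
  let _ := PullbackStalk.stalkAlg f x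
  let _ := FlatMod.moduleStalkOver f ((Scheme.Modules.pullback f).obj M) x
  have := PullbackStalk.isScalarTower f ((Scheme.Modules.pullback f).obj M) x
  have h := PullbackStalk.isBaseChange_can f M x
  exact ⟨h.basis b, fun i => h.basis_apply b i⟩

theorem smul_injective (hf : (f.stalkMap x).hom.Flat) (r : Y.presheaf.stalk (f.base x))
    (hr : ∀ m : M.presheaf.stalk (f.base x), r • m = 0 → m = 0)
    (n : ((Scheme.Modules.pullback f).obj M).presheaf.stalk x) (hn : f.stalkMap x r • n = 0) : n = 0 := by
  let _ := PullbackStalk.stalkAlg f x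
  let _ := FlatMod.moduleStalkOver f ((Scheme.Modules.pullback f).obj M) x
  have := PullbackStalk.isScalarTower f ((Scheme.Modules.pullback f).obj M) x
  have h := PullbackStalk.isBaseChange_can f M x
  have hfl : Module.Flat (Y.presheaf.stalk (f.base x)) (X.presheaf.stalk x) := hf
  let φ : M.presheaf.stalk (f.base x) →ₗ[Y.presheaf.stalk (f.base x)] M.presheaf.stalk (f.base x) :=
    LinearMap.lsmul _ _ r
  have hφ : Function.Injective φ := by
    rw [injective_iff_map_eq_zero]
    exact hr
  have h1 := Module.Flat.lTensor_preserves_injective_linearMap (M := X.presheaf.stalk x) φ hφ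
  have h2 : ∀ t, LinearMap.lTensor (X.presheaf.stalk x) φ t = r • t := by
    intro t
    induction t with
    | zero => rw [map_zero, smul_zero]
    | add a b ha hb => rw [map_add, ha, hb, smul_add]
    | tmul a m => rw [LinearMap.lTensor_tmul]; exact TensorProduct.tmul_smul r a m
  obtain ⟨t, rfl⟩ := h.equiv.surjective n
  have h3 : h.equiv (r • t) = 0 := by
    rw [← algebraMap_smul (X.presheaf.stalk x) r t, map_smul]
    exact hn
  rw [LinearEquiv.map_eq_zero_iff, ← h2] at h3
  have h4 : t = 0 := h1 (h3.trans (map_zero _).symm)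
  rw [h4, map_zero]

end general

section

variable {X : Scheme.{u}} (p : ℕ) [Fact p.Prime] [FrobSch.IsCharP X p] (G : X.Modules)

/-- Frobenius pull-back. -/
noncomputable abbrev FP : X.Modules := (Scheme.Modules.pullback (FrobSch.frob X p)).obj G

/-- The canonical semilinear map `G_x → (F^*G)_x`. -/
noncomputable def can (x : X) : G.presheaf.stalk x →+ (FP p G).presheaf.stalk x :=
  PullbackStalk.canAdd (FrobSch.frob X p) G x

theorem can_germ (x : X) {V : X.Opens} (hV : x ∈ V) (s : Γ(G, V)) :
    can p G x (G.presheaf.germ V x hV s) = (FP p G).presheaf.germ V x hV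
      (((Scheme.Modules.pullbackPushforwardAdjunction (FrobSch.frob X p)).unit.app G).app V s) :=
  PullbackStalk.canAdd_germ (FrobSch.frob X p) G x V hV s

theorem can_smul (x : X) (a : X.presheaf.stalk x) (v : G.presheaf.stalk x) :
    can p G x (a • v) = a ^ p • can p G x v := by
  refine (PullbackStalk.canAdd_smul (FrobSch.frob X p) G x a v).trans ?_
  exact congrArg (fun t : X.presheaf.stalk x => t • can p G x v) (K430.Frob.frob_stalkMap X p x a)

theorem can_spec {x y : X} (h : y ⤳ x) (v : G.presheaf.stalk x) :
    (FP p G).presheaf.stalkSpecializes h (can p G x v) = can p G y (G.presheaf.stalkSpecializes h v) := by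
  obtain ⟨V, hV, s, rfl⟩ := TopCat.Presheaf.exists_germ_eq G.presheaf v
  have h1 : G.presheaf.stalkSpecializes h (G.presheaf.germ V x hV s) =
      G.presheaf.germ V y (h.mem_open V.2 hV) s :=
    TopCat.Presheaf.germ_stalkSpecializes_apply G.presheaf hV h s
  rw [h1, can_germ, can_germ]
  exact TopCat.Presheaf.germ_stalkSpecializes_apply (FP p G).presheaf hV h _

theorem span_can (x : X) : Submodule.span (X.presheaf.stalk x) (Set.range (can p G x)) = ⊤ :=
  PullbackStalk.span_range_canAdd (FrobSch.frob X p) G x

/-- A basis of the stalk gives a basis of the stalk of the Frobenius pull-back. -/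
theorem exists_basis {ι : Type*} (x : X) (b : Basis ι (X.presheaf.stalk x) (G.presheaf.stalk x)) :
    ∃ b' : Basis ι (X.presheaf.stalk x) ((FP p G).presheaf.stalk x), ∀ i, b' i = can p G x (b i) :=
  exists_basis' (FrobSch.frob X p) G x b

end

section int

variable {X : Scheme.{u}} [IsIntegral X] (p : ℕ) [Fact p.Prime] [FrobSch.IsCharP X p] (G : X.Modules)

attribute [local instance 50] modAt

/-- The `p`-linear map of generic stalks. -/
noncomputable def psi : G.presheaf.stalk (genericPoint X) →+ (FP p G).presheaf.stalk (genericPoint X) :=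
  can p G (genericPoint X)

theorem psi_smul (a : X.presheaf.stalk (genericPoint X)) (v : G.presheaf.stalk (genericPoint X)) :
    psi p G (a • v) = a ^ p • psi p G v := can_smul p G _ a v

theorem psi_basis {ι : Type*} (b : Basis ι X.functionField (G.presheaf.stalk (genericPoint X))) :
    ∃ b' : Basis ι X.functionField ((FP p G).presheaf.stalk (genericPoint X)), ∀ i, b' i = psi p G (b i) :=
  exists_basis p G (genericPoint X) b

/-- The lattices of the Frobenius pull-back. -/
theorem lat_frob (y : X) : (lat (FP p G) LinearMap.id y) =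
    Submodule.span (X.presheaf.stalk y) (psi p G '' (lat G LinearMap.id y : Set (G.presheaf.stalk (genericPoint X)))) := by
  apply le_antisymm
  · have h1 : lat (FP p G) LinearMap.id y = Submodule.map (latHom (FP p G) LinearMap.id y)
        (Submodule.span (X.presheaf.stalk y) (Set.range (can p G y))) := by
      rw [span_can, lat, LinearMap.range_eq_map]
    rw [h1, Submodule.map_span, Submodule.span_le]
    rintro _ ⟨_, ⟨v, rfl⟩, rfl⟩
    refine Submodule.subset_span ⟨G.presheaf.stalkSpecializes (gen y) v, ⟨v, rfl⟩, ?_⟩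
    exact (can_spec p G (gen y) v).symm
  · rw [Submodule.span_le]
    rintro _ ⟨_, ⟨v, rfl⟩, rfl⟩
    exact ⟨can p G y v, can_spec p G (gen y) v⟩

end int

section flat

variable {X : Scheme.{u}} (p : ℕ) [Fact p.Prime] [FrobSch.IsCharP X p] (G : X.Modules)

theorem isCoh_FP [IsLocallyNoetherian X] (hG : Coh.IsCoh G) : Coh.IsCoh (FP p G) :=
  Groth.Agent.FormalB.PullCoh.isCoh_pullback _ hG

variable {G}

theorem isTorsionFree_FP [IsIntegral X] (hreg : ∀ x : X, IsRegularLocalRing (X.presheaf.stalk x)) (ht : TorSh.IsTorsionFree G) :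
    TorSh.IsTorsionFree (FP p G) := by
  intro x
  have := hreg x
  have hc : CharP (X.presheaf.stalk x) p := by
    rw [CharP.charP_iff_prime_eq_zero Fact.out]
    have h := FrobSch.IsCharP.natCast_eq_zero (X := X) (p := p)
    have h2 := congrArg (X.presheaf.germ ⊤ x trivial) h
    simpa using h2
  have hR : IsRegularRing (X.presheaf.stalk x) := Ega4late.H544.Dim.isRegularRing_of_isRegularLocalRing _
  have hfl : (frobenius (X.presheaf.stalk x) p).Flat := (S0336.result p (X.presheaf.stalk x)).1 hR
  have hfl' : ((FrobSch.frob X p).stalkMap x).hom.Flat := by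
    have h1 : ((FrobSch.frob X p).stalkMap x).hom = frobenius (X.presheaf.stalk x) p :=
      RingHom.ext fun a => K430.Frob.frob_stalkMap X p x a
    exact (congrArg RingHom.Flat h1).mpr hfl
  refine Module.IsTorsionFree.of_smul_eq_zero ?_
  intro a v hav
  by_cases ha : a = 0
  · exact Or.inl ha
  right
  have := ht x
  have h0 : ∀ m : G.presheaf.stalk x, a • m = 0 → m = 0 := fun m hm => (smul_eq_zero.1 hm).resolve_left ha
  refine smul_injective (FrobSch.frob X p) G x hfl' a h0 v ?_
  have h2 : (FrobSch.frob X p).stalkMap x a = a ^ p := K430.Frob.frob_stalkMap X p x a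
  refine (congrArg (fun t : X.presheaf.stalk x => t • v) h2).trans ?_
  change a ^ p • v = 0
  have h3 : a ^ p = a ^ (p - 1) * a := (pow_sub_one_mul (Fact.out : p.Prime).ne_zero a).symm
  rw [h3, mul_smul, hav, smul_zero]

end flat

section reg

variable {X : Scheme.{u}} [IsIntegral X]

/-- Regular schemes are regular in codimension one. -/
theorem regOne_of_regular (hreg : ∀ x : X, IsRegularLocalRing (X.presheaf.stalk x)) : RegOne X where
  dvr y := by
    have := hreg y.1
    obtain ⟨_, h⟩ := (S0549.dvr_iff (X.presheaf.stalk y.1)).2 ⟨hreg y.1, y.2⟩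
    exact h

theorem regOne_of_smooth {k : Type u} [Field k] (f : X ⟶ Spec (CommRingCat.of k)) [Smooth f] : RegOne X :=
  regOne_of_regular (Groth.Agent.Sga5.SmoothField.isRegularLocalRing_stalk f)

theorem isTorsionFree_FP_of_smooth (p : ℕ) [Fact p.Prime] [FrobSch.IsCharP X p] {k : Type u} [Field k]
    (f : X ⟶ Spec (CommRingCat.of k)) [Smooth f] {G : X.Modules} (ht : TorSh.IsTorsionFree G) :
    TorSh.IsTorsionFree (FP p G) :=
  isTorsionFree_FP p (Groth.Agent.Sga5.SmoothField.isRegularLocalRing_stalk f) ht

end reg

end K849.FrobPull
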