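import Groth.Agent.ShStab.K849.DvrLat2

/-!
# Lattices over a discrete valuation ring: reindexing, standard lattices in an adapted basis, content
-/

set_option autoImplicit false

open Module

namespace K849.DvrLat

variable (R : Type*) [CommRing R] [IsDomain R] [IsDiscreteValuationRing R] {K : Type*} [Field K] [Algebra R K]
  [IsFractionRing R K] {V : Type*} [AddCommGroup V] [Module K V] [Module R V] [IsScalarTower R K V]
  {ι κ : Type*} [Fintype ι] [DecidableEq ι] [Fintype κ] [DecidableEq κ]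

omit [IsDomain R] [IsDiscreteValuationRing R] [IsFractionRing R K] [IsScalarTower R K V] [Algebra R K]
  [Fintype ι] [DecidableEq ι] [Fintype κ] [DecidableEq κ] in
theorem sp_reindex (b : Basis ι K V) (e : ι ≃ κ) : sp R (b.reindex e) = sp R b := by
  rw [sp, sp, Basis.range_reindex]

theorem idx_reindex (b : Basis ι K V) (e : ι ≃ κ) {Λ : Submodule R V} (h : IsLat R (K := K) Λ) :
    idx R (b.reindex e) Λ = idx R b Λ := by
  obtain ⟨c, rfl⟩ := h.exists_basis R b
  rw [← sp_reindex R c e, idx_sp, sp_reindex R c e, idx_sp, Basis.det_reindex]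
  congr 2
  congr 1
  funext i
  simp

/-- Independence of the basis, up to the same constant. -/
theorem idx_bases (b : Basis ι K V) (b' : Basis κ K V) {Λ Λ' : Submodule R V} (h : IsLat R (K := K) Λ)
    (h' : IsLat R (K := K) Λ') : idx R b' Λ - idx R b' Λ' = idx R b Λ - idx R b Λ' := by
  let e : ι ≃ κ := b.indexEquiv b'
  rw [← idx_reindex R b e h, ← idx_reindex R b e h', idx_change' R (b.reindex e) b' h,
    idx_change' R (b.reindex e) b' h']
  ring

section adapted

variable (W : Submodule K V) (bW : Basis ι K W) (bU : Basis κ K (V ⧸ W)) (b : Basis (ι ⊕ κ) K V)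
    (h1 : ∀ i, b (Sum.inl i) = bW i) (h2 : ∀ j, W.mkQ (b (Sum.inr j)) = bU j)

include h1 h2

theorem map_sp_adapted : (sp R b).map (W.mkQ.restrictScalars R) = sp R bU := by
  ext u
  rw [mem_sp_iff]
  constructor
  · rintro ⟨v, hv, rfl⟩
    obtain ⟨f, rfl⟩ := (mem_sp_iff R b v).1 hv
    refine ⟨fun j => f (Sum.inr j), ?_⟩
    rw [map_sum, Fintype.sum_sum_type]
    have h3 : ∀ i, (W.mkQ.restrictScalars R) (f (Sum.inl i) • b (Sum.inl i)) = 0 := fun i => by
      rw [map_smul]
      change f (Sum.inl i) • W.mkQ (b (Sum.inl i)) = 0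
      have h4 : W.mkQ (b (Sum.inl i)) = 0 := by
        rw [h1, Submodule.mkQ_apply, Submodule.Quotient.mk_eq_zero]
        exact (bW i).2
      rw [h4, smul_zero]
    rw [Finset.sum_eq_zero fun i _ => h3 i, zero_add]
    refine Finset.sum_congr rfl fun j _ => ?_
    rw [map_smul]
    exact congrArg (fun t => f (Sum.inr j) • t) (h2 j)
  · rintro ⟨f, rfl⟩
    refine ⟨∑ j, f j • b (Sum.inr j), ?_, ?_⟩
    · exact Submodule.sum_mem _ fun j _ => Submodule.smul_mem _ _ (Submodule.subset_span ⟨_, rfl⟩)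
    · rw [map_sum]
      refine Finset.sum_congr rfl fun j _ => ?_
      rw [map_smul]
      exact congrArg (fun t => f j • t) (h2 j)

theorem comap_sp_adapted : (sp R b).comap (W.subtype.restrictScalars R) = sp R bW := by
  ext w
  rw [mem_sp_iff]
  constructor
  · intro hw
    obtain ⟨f, hf⟩ := (mem_sp_iff R b (w : V)).1 hw
    have h3 : ∀ j, f (Sum.inr j) = 0 := by
      have h4 : (0 : V ⧸ W) = ∑ j, (algebraMap R K (f (Sum.inr j))) • bU j := by
        have h5 : W.mkQ (w : V) = 0 := by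
          rw [Submodule.mkQ_apply, Submodule.Quotient.mk_eq_zero]
          exact w.2
        rw [← h5, hf, Fintype.sum_sum_type, map_add, map_sum, map_sum]
        have h6 : ∀ i, W.mkQ (f (Sum.inl i) • b (Sum.inl i)) = 0 := fun i => by
          rw [← algebraMap_smul K, map_smul]
          have h4 : W.mkQ (b (Sum.inl i)) = 0 := by
            rw [h1, Submodule.mkQ_apply, Submodule.Quotient.mk_eq_zero]
            exact (bW i).2
          rw [h4, smul_zero]
        rw [Finset.sum_eq_zero fun i _ => h6 i, zero_add]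
        refine Finset.sum_congr rfl fun j _ => ?_
        rw [← algebraMap_smul K, map_smul, h2]
      intro j
      have h7 := Fintype.linearIndependent_iff.1 bU.linearIndependent _ h4.symm j
      exact IsFractionRing.injective R K (h7.trans (map_zero _).symm)
    refine ⟨fun i => f (Sum.inl i), Subtype.ext ?_⟩
    rw [hf, Fintype.sum_sum_type]
    have h8 : ∑ j, f (Sum.inr j) • b (Sum.inr j) = 0 := Finset.sum_eq_zero fun j _ => by
      rw [h3, zero_smul]
    rw [h8, add_zero]
    have h9 : ((∑ i, f (Sum.inl i) • bW i : W) : V) = ∑ i, ((f (Sum.inl i) • bW i : W) : V) :=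
      map_sum (W.subtype.restrictScalars R) _ _
    rw [h9]
    refine Finset.sum_congr rfl fun i _ => ?_
    rw [h1]
    rfl
  · rintro ⟨f, rfl⟩
    change ((∑ i, f i • bW i : W) : V) ∈ sp R b
    have h9 : ((∑ i, f i • bW i : W) : V) = ∑ i, ((f i • bW i : W) : V) :=
      map_sum (W.subtype.restrictScalars R) _ _
    rw [h9]
    refine Submodule.sum_mem _ fun i _ => ?_
    have h10 : ((f i • bW i : W) : V) = f i • b (Sum.inl i) := by
      rw [h1]
      rfl
    rw [h10]
    exact Submodule.smul_mem _ _ (Submodule.subset_span ⟨_, rfl⟩)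

end adapted

section cont

open Classical in
/-- The content of a vector with respect to a lattice. -/
noncomputable def cont (Λ : Submodule R V) (v : V) : ℤ :=
  if hv : v ≠ 0 then idx R ((Basis.singleton (Fin 1) K).map (LinearEquiv.toSpanNonzeroSingleton K V v hv))
    (Λ.comap ((Submodule.span K {v}).subtype.restrictScalars R)) else 0

variable {R}

theorem smul_mem_iff_idx {Λ : Submodule R V} (h : IsLat R (K := K) Λ) (b : Basis (Fin 1) K V) (x : K) (hx : x ≠ 0) :
    x • b 0 ∈ Λ ↔ 0 ≤ ordK R x + idx R b Λ := by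
  obtain ⟨c, rfl⟩ := h.exists_basis R b
  rw [idx_sp]
  have h1 : b.det c = b.repr (c 0) 0 := by
    rw [Basis.det_apply, Matrix.det_fin_one, Basis.toMatrix_apply]
  have h2 : c 0 = b.repr (c 0) 0 • b 0 := by
    conv_lhs => rw [← b.sum_repr (c 0)]
    rw [Fin.sum_univ_one]
  have h3 : b.repr (c 0) 0 ≠ 0 := by
    intro h0
    rw [h0, zero_smul] at h2
    exact c.ne_zero 0 h2
  rw [h1]
  constructor
  · intro h4
    obtain ⟨f, hf⟩ := (mem_sp_iff R c _).1 h4
    rw [Fin.sum_univ_one, h2, ← algebraMap_smul K (f 0) (_ • _ : V), smul_smul] at hf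
    have h5 : x = algebraMap R K (f 0) * b.repr (c 0) 0 := by
      have h6 := congrArg (fun v => b.repr v 0) hf
      simpa using h6
    have h6 : 0 ≤ ordK R (x * (b.repr (c 0) 0)⁻¹) := by
      rw [ordK_nonneg_iff R (mul_ne_zero hx (inv_ne_zero h3))]
      exact ⟨f 0, by rw [h5, mul_inv_cancel_right₀ h3]⟩
    rw [ordK_mul R hx (inv_ne_zero h3), ordK_inv] at h6
    exact h6
  · intro h4
    obtain ⟨r, hr⟩ := exists_smul_of_ordK_le R h3 hx (by omega)
    rw [← hr, smul_assoc, ← h2]
    exact Submodule.smul_mem _ _ (Submodule.subset_span ⟨_, rfl⟩)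

/-- The content. -/
theorem smul_mem_iff {Λ : Submodule R V} (h : IsLat R (K := K) Λ) {v : V} (hv : v ≠ 0) (x : K) (hx : x ≠ 0) :
    x • v ∈ Λ ↔ 0 ≤ ordK R x + cont R (K := K) Λ v := by
  rw [cont, dif_pos hv]
  rw [← smul_mem_iff_idx (h.comap R _) _ x hx]
  change _ ↔ ((x • _ : Submodule.span K {v}) : V) ∈ Λ
  simp

variable (R K) in
theorem exists_ordK (n : ℤ) : ∃ z : K, z ≠ 0 ∧ ordK R z = n := by
  obtain ⟨ϖ, hϖ⟩ := IsDiscreteValuationRing.exists_irreducible R
  have h0 : algebraMap R K ϖ ≠ 0 := fun h => hϖ.ne_zero (IsFractionRing.injective R K (h.trans (map_zero _).symm))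
  have h1 : ordK R (algebraMap R K ϖ) = 1 := by
    rw [ordK_algebraMap R hϖ.ne_zero, Ring.ord_of_irreducible hϖ]
    rfl
  rcases Int.eq_nat_or_neg n with ⟨m, rfl | rfl⟩
  · exact ⟨algebraMap R K ϖ ^ m, pow_ne_zero _ h0, by rw [ordK_pow R h0, h1, mul_one]⟩
  · exact ⟨(algebraMap R K ϖ ^ m)⁻¹, inv_ne_zero (pow_ne_zero _ h0), by rw [ordK_inv, ordK_pow R h0, h1, mul_one]⟩

theorem eq_of_forall {a b : ℤ} (h : ∀ z : K, z ≠ 0 → (0 ≤ ordK R z + a ↔ 0 ≤ ordK R z + b)) : a = b := by
  obtain ⟨z, hz, h1⟩ := exists_ordK R K (-a)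
  obtain ⟨w, hw, h2⟩ := exists_ordK R K (-b)
  have h3 := h z hz
  have h4 := h w hw
  rw [h1] at h3
  rw [h2] at h4
  have h5 := h3.1 (by omega)
  have h6 := h4.2 (by omega)
  omega

theorem cont_smul {Λ : Submodule R V} (h : IsLat R (K := K) Λ) {v : V} (hv : v ≠ 0) {x : K} (hx : x ≠ 0) :
    cont R (K := K) Λ (x • v) = ordK R x + cont R (K := K) Λ v := by
  have hxv : x • v ≠ 0 := smul_ne_zero hx hv
  refine eq_of_forall (R := R) (K := K) fun z hz => ?_
  rw [← smul_mem_iff h hxv z hz, smul_smul, smul_mem_iff h hv _ (mul_ne_zero hz hx), ordK_mul R hz hx, add_assoc]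

theorem mem_iff_cont {Λ : Submodule R V} (h : IsLat R (K := K) Λ) {v : V} (hv : v ≠ 0) :
    v ∈ Λ ↔ 0 ≤ cont R (K := K) Λ v := by
  have := smul_mem_iff h hv (1 : K) one_ne_zero
  rwa [one_smul, ordK_one, zero_add] at this

theorem cont_add {Λ : Submodule R V} (h : IsLat R (K := K) Λ) {v w : V} (hv : v ≠ 0) (hw : w ≠ 0) (hvw : v + w ≠ 0) :
    min (cont R (K := K) Λ v) (cont R (K := K) Λ w) ≤ cont R (K := K) Λ (v + w) := by
  obtain ⟨z, hz, h1⟩ := exists_ordK R K (-(min (cont R (K := K) Λ v) (cont R (K := K) Λ w)))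
  have h2 : z • v ∈ Λ := (smul_mem_iff h hv z hz).2 (by rw [h1]; omega)
  have h3 : z • w ∈ Λ := (smul_mem_iff h hw z hz).2 (by rw [h1]; omega)
  have h4 : z • (v + w) ∈ Λ := by rw [smul_add]; exact Λ.add_mem h2 h3
  have h5 := (smul_mem_iff h hvw z hz).1 h4
  omega

/-- The index of a lattice in a line, through the content. -/
theorem idx_comap_span {Λ : Submodule R V} (h : IsLat R (K := K) Λ) {W : Submodule K V} (b : Basis (Fin 1) K W) :
    idx R b (Λ.comap (W.subtype.restrictScalars R)) = cont R (K := K) Λ (b 0 : V) := by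
  have hv : (b 0 : V) ≠ 0 := fun h0 => b.ne_zero 0 (Subtype.ext h0)
  refine eq_of_forall (R := R) (K := K) fun z hz => ?_
  rw [← smul_mem_iff_idx (h.comap R W) b z hz, ← smul_mem_iff h hv z hz]
  rfl

end cont

end K849.DvrLat
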