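import Groth.Agent.ShStab.K849.CstAlpha
import Groth.Agent.ShStab.K849.DvrLat3

/-!
# Families of lattices at the points of codimension one, and their degree
-/

set_option autoImplicit false
universe u
open CategoryTheory CategoryTheory.Limits AlgebraicGeometry Opposite TopologicalSpace Module

namespace K849.Fam

open Groth.Agent Groth.Agent.CycB.StalkExact
open K848.TF K849.Cst K849.CstTor K849.DvrLat K849.CstDeg

variable {X : Scheme.{u}} [IsIntegral X]

attribute [local instance 50] modAt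

/-- Families of submodules at the points of codimension one. -/
abbrev LFam (X : Scheme.{u}) [IsIntegral X] (V : Type u) [AddCommGroup V] [Module (X.presheaf.stalk (genericPoint X)) V] :=
  ∀ y : C1 X, Submodule (X.presheaf.stalk y.1) V

variable {V : Type u} [AddCommGroup V] [Module (X.presheaf.stalk (genericPoint X)) V]
  {V' : Type u} [AddCommGroup V'] [Module (X.presheaf.stalk (genericPoint X)) V']
  {ι : Type} [Fintype ι] [DecidableEq ι] {κ : Type} [Fintype κ] [DecidableEq κ]

/-- Coherent families of lattices. -/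
structure IsFam (Λ : LFam X V) : Prop where
  lat : ∀ y, IsLat (X.presheaf.stalk y.1) (K := X.functionField) (Λ y)
  fin : ∀ (r : ℕ) (b : Basis (Fin r) X.functionField V), {y : C1 X | Λ y ≠ sp (X.presheaf.stalk y.1) b}.Finite

theorem sp_fin [IsNoetherian X] (b : Basis ι X.functionField V) (b' : Basis κ X.functionField V) :
    {y : C1 X | sp (X.presheaf.stalk y.1) b ≠ sp (X.presheaf.stalk y.1) b'}.Finite := by
  let e : ι ≃ Fin (Fintype.card ι) := Fintype.equivFin ι
  let e' : κ ≃ Fin (Fintype.card ι) := (b.indexEquiv b').symm.trans e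
  have h1 := deg_fin (PerfA.CohSerre.isCoh_freeMod (X := X) _) (isTorsionFree_freeMod _) (freeHom (b.reindex e))
    (freeHom_bijective _) (b'.reindex e')
  simp only [lat_free, sp_reindex] at h1
  exact h1

theorem IsFam.of_basis [IsNoetherian X] {Λ : LFam X V}
    (h : ∀ y, IsLat (X.presheaf.stalk y.1) (K := X.functionField) (Λ y))
    (b : Basis ι X.functionField V) (hf : {y : C1 X | Λ y ≠ sp (X.presheaf.stalk y.1) b}.Finite) : IsFam Λ := by
  refine ⟨h, fun r b' => (hf.union (sp_fin b b')).subset fun y hy => ?_⟩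
  by_contra hc
  rw [Set.mem_union, not_or] at hc
  exact hy ((not_not.mp hc.1).trans (not_not.mp hc.2))

theorem IsFam.fin' {Λ : LFam X V} (h : IsFam Λ) (b : Basis ι X.functionField V) :
    {y : C1 X | Λ y ≠ sp (X.presheaf.stalk y.1) b}.Finite := by
  have h1 := h.fin _ (b.reindex (Fintype.equivFin ι))
  simp only [sp_reindex] at h1
  exact h1

theorem isFam_lat [IsNoetherian X] {G : X.Modules} (hG : Coh.IsCoh G) (t : TorSh.IsTorsionFree G)
    (e : G.presheaf.stalk (genericPoint X) →ₗ[X.presheaf.stalk (genericPoint X)] V) (h : Function.Bijective e) :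
    IsFam (fun y : C1 X => lat G e y.1) :=
  ⟨fun y => isLat_lat hG h.2 y.1, fun _ b => deg_fin hG t e h b⟩

variable [RegOne X]

theorem IsFam.idx_fin {Λ : LFam X V} (h : IsFam Λ) (b : Basis ι X.functionField V) :
    {y : C1 X | idx (X.presheaf.stalk y.1) b (Λ y) ≠ 0}.Finite := by
  refine (h.fin' b).subset fun y hy h0 => hy ?_
  rw [h0, idx_self]

/-- The degree with respect to a basis. -/
noncomputable def degB (δ : C1 X → ℚ) (b : Basis ι X.functionField V) (Λ : LFam X V) : ℚ :=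
  ∑ᶠ y : C1 X, (idx (X.presheaf.stalk y.1) b (Λ y) : ℚ) * δ y

/-- Principal divisors have degree zero. -/
def IsPrin (δ : C1 X → ℚ) : Prop :=
  ∀ f : X.functionField, f ≠ 0 → ∑ᶠ y : C1 X, (ordK (X.presheaf.stalk y.1) f : ℚ) * δ y = 0

theorem isPrin_phi [IsNoetherian X] {φ : X.Modules → ℚ} (hφ : Adt φ) : IsPrin fun y : C1 X => φ (gm y.1) :=
  fun _ hf => principal hφ hf

theorem supp_fin {Λ : LFam X V} (h : IsFam Λ) (δ : C1 X → ℚ) (b : Basis ι X.functionField V) :
    (Function.support fun y : C1 X => (idx (X.presheaf.stalk y.1) b (Λ y) : ℚ) * δ y).Finite := by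
  refine (h.idx_fin b).subset fun y hy h0 => hy ?_
  dsimp only
  rw [h0, Int.cast_zero, zero_mul]

theorem degB_change [IsNoetherian X] {δ : C1 X → ℚ} (hδ : IsPrin δ) {Λ : LFam X V} (h : IsFam Λ)
    (b : Basis ι X.functionField V) (b' : Basis κ X.functionField V) : degB δ b' Λ = degB δ b Λ := by
  let e : ι ≃ κ := b.indexEquiv b'
  have h1 : ∀ y : C1 X, idx (X.presheaf.stalk y.1) b' (Λ y) = idx (X.presheaf.stalk y.1) b (Λ y) -
      ordK (X.presheaf.stalk y.1) (b'.det (b.reindex e)) := fun y => by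
    rw [idx_change' (X.presheaf.stalk y.1) (b.reindex e) b' (h.lat y), idx_reindex _ _ _ (h.lat y)]
  have h2 := hδ (b'.det (b.reindex e)) (det_ne_zero _ _)
  rw [degB, degB]
  simp only [h1]
  have h3 := finsum_sub_distrib (f := fun y : C1 X => (idx (X.presheaf.stalk y.1) b (Λ y) : ℚ) * δ y)
    (g := fun y : C1 X => (ordK (X.presheaf.stalk y.1) (b'.det (b.reindex e)) : ℚ) * δ y) (supp_fin h δ b) (by
      refine (finite_ordK (det_ne_zero b' (b.reindex e))).subset fun y hy h0 => hy ?_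
      dsimp only
      rw [h0, Int.cast_zero, zero_mul])
  rw [h2, sub_zero] at h3
  rw [← h3]
  refine finsum_congr fun y => ?_
  push_cast
  ring

open Classical in
/-- The degree of a family of lattices. -/
noncomputable def Deg (δ : C1 X → ℚ) (Λ : LFam X V) : ℚ :=
  if h : ∃ r : ℕ, Nonempty (Basis (Fin r) X.functionField V) then degB δ h.choose_spec.some Λ else 0

theorem Deg_eq [IsNoetherian X] {δ : C1 X → ℚ} (hδ : IsPrin δ) {Λ : LFam X V} (h : IsFam Λ)
    (b : Basis ι X.functionField V) : Deg δ Λ = degB δ b Λ := by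
  have h1 : ∃ r : ℕ, Nonempty (Basis (Fin r) X.functionField V) := ⟨_, ⟨b.reindex (Fintype.equivFin ι)⟩⟩
  rw [Deg, dif_pos h1]
  exact degB_change hδ h _ _

/-- **The degree formula.** -/
theorem phi_eq_Deg [IsNoetherian X] {φ : X.Modules → ℚ} (hφ : Adt φ) {G : X.Modules} (hG : Coh.IsCoh G)
    (t : TorSh.IsTorsionFree G)
    (e : G.presheaf.stalk (genericPoint X) →ₗ[X.presheaf.stalk (genericPoint X)] V) (h : Function.Bijective e)
    (b : Basis ι X.functionField V) :
    φ G = Fintype.card ι * φ (Coh.structureModule X) +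
      Deg (fun y : C1 X => φ (gm y.1)) (fun y : C1 X => lat G e y.1) := by
  rw [Deg_eq (isPrin_phi hφ) (isFam_lat hG t e h) (b.reindex (Fintype.equivFin ι))]
  exact deg_eq hφ hG t e h _

theorem degB_mono {δ : C1 X → ℚ} (hδ : ∀ y, 0 ≤ δ y) {Λ Λ' : LFam X V} (h : IsFam Λ) (h' : IsFam Λ')
    (hle : ∀ y, Λ y ≤ Λ' y) (b : Basis ι X.functionField V) : degB δ b Λ ≤ degB δ b Λ' := by
  refine finsum_le_finsum' (supp_fin h δ b) (supp_fin h' δ b) fun y => ?_
  exact mul_le_mul_of_nonneg_right (Int.cast_le.2 (idx_mono _ (h.lat y) (h'.lat y) (hle y))) (hδ y)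

theorem Deg_mono {δ : C1 X → ℚ} (hδ : ∀ y, 0 ≤ δ y) {Λ Λ' : LFam X V} (h : IsFam Λ) (h' : IsFam Λ')
    (hle : ∀ y, Λ y ≤ Λ' y) : Deg δ Λ ≤ Deg δ Λ' := by
  by_cases h1 : ∃ r : ℕ, Nonempty (Basis (Fin r) X.functionField V)
  · rw [Deg, Deg, dif_pos h1, dif_pos h1]
    exact degB_mono hδ h h' hle _
  · rw [Deg, Deg, dif_neg h1, dif_neg h1]

theorem degB_eq_iff {δ : C1 X → ℚ} (hδ : ∀ y, 0 < δ y) {Λ Λ' : LFam X V} (h : IsFam Λ) (h' : IsFam Λ')
    (hle : ∀ y, Λ y ≤ Λ' y) (b : Basis ι X.functionField V) (hd : degB δ b Λ' ≤ degB δ b Λ) : Λ = Λ' := by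
  by_contra hne
  obtain ⟨y, hy⟩ := Function.ne_iff.1 hne
  have h1 : idx (X.presheaf.stalk y.1) b (Λ y) < idx (X.presheaf.stalk y.1) b (Λ' y) := by
    by_contra hc
    exact hy (eq_of_idx_eq _ (h.lat y) (h'.lat y) (hle y) (not_lt.1 hc))
  refine absurd hd (not_le.2 ?_)
  classical
  let S : Finset (C1 X) := (supp_fin h δ b).toFinset ∪ (supp_fin h' δ b).toFinset ∪ {y}
  rw [degB, degB, finsum_eq_sum_of_support_subset (s := S) _ (fun z hz => Finset.mem_coe.2
      (Finset.mem_union_left _ (Finset.mem_union_left _ ((Set.Finite.mem_toFinset _).2 hz)))),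
    finsum_eq_sum_of_support_subset (s := S) _ (fun z hz => Finset.mem_coe.2
      (Finset.mem_union_left _ (Finset.mem_union_right _ ((Set.Finite.mem_toFinset _).2 hz))))]
  refine Finset.sum_lt_sum (fun z _ => ?_) ⟨y, by simp [S], ?_⟩
  · exact mul_le_mul_of_nonneg_right (Int.cast_le.2 (idx_mono _ (h.lat z) (h'.lat z) (hle z))) (hδ z).le
  · exact mul_lt_mul_of_pos_right (Int.cast_lt.2 h1) (hδ y)

/-- The intersection with a subspace. -/
noncomputable def sub (Λ : LFam X V) (W : Submodule (X.presheaf.stalk (genericPoint X)) V) : LFam X W :=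
  fun y => (Λ y).comap (W.subtype.restrictScalars (X.presheaf.stalk y.1))

/-- The image in a quotient space. -/
noncomputable def quo (Λ : LFam X V) (W : Submodule (X.presheaf.stalk (genericPoint X)) V) : LFam X (V ⧸ W) :=
  fun y => (Λ y).map (W.mkQ.restrictScalars (X.presheaf.stalk y.1))

theorem IsFam.sub [IsNoetherian X] {Λ : LFam X V} (h : IsFam Λ)
    (W : Submodule (X.presheaf.stalk (genericPoint X)) V)
    (bW : Basis ι X.functionField W) (bU : Basis κ X.functionField (V ⧸ W)) : IsFam (Fam.sub Λ W) := by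
  refine IsFam.of_basis (fun y => (h.lat y).comap (X.presheaf.stalk y.1) W) bW ?_
  refine (h.fin' (bW.sumQuot bU)).subset fun y hy h0 => hy ?_
  have h1 := comap_sp_adapted (X.presheaf.stalk y.1) W bW bU (bW.sumQuot bU) (bW.sumQuot_inl bU) (bW.sumQuot_inr bU)
  rw [Fam.sub, h0]
  exact h1

theorem IsFam.quo [IsNoetherian X] {Λ : LFam X V} (h : IsFam Λ)
    (W : Submodule (X.presheaf.stalk (genericPoint X)) V)
    (bW : Basis ι X.functionField W) (bU : Basis κ X.functionField (V ⧸ W)) : IsFam (Fam.quo Λ W) := by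
  refine IsFam.of_basis (fun y => (h.lat y).map (X.presheaf.stalk y.1) W.mkQ W.mkQ_surjective) bU ?_
  refine (h.fin' (bW.sumQuot bU)).subset fun y hy h0 => hy ?_
  have h1 := map_sp_adapted (X.presheaf.stalk y.1) W bW bU (bW.sumQuot bU) (bW.sumQuot_inl bU) (bW.sumQuot_inr bU)
  rw [Fam.quo, h0]
  exact h1

/-- **Additivity of the degree.** -/
theorem Deg_exact [IsNoetherian X] {δ : C1 X → ℚ} (hδ : IsPrin δ) {Λ : LFam X V} (h : IsFam Λ)
    (W : Submodule (X.presheaf.stalk (genericPoint X)) V)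
    (bW : Basis ι X.functionField W) (bU : Basis κ X.functionField (V ⧸ W)) :
    Deg δ Λ = Deg δ (Fam.sub Λ W) + Deg δ (Fam.quo Λ W) := by
  rw [Deg_eq hδ h (bW.sumQuot bU), Deg_eq hδ (h.sub W bW bU) bW, Deg_eq hδ (h.quo W bW bU) bU, degB, degB, degB,
    ← finsum_add_distrib (supp_fin (h.sub W bW bU) δ bW) (supp_fin (h.quo W bW bU) δ bU)]
  refine finsum_congr fun y => ?_
  rw [idx_exact (X.presheaf.stalk y.1) W bW bU (bW.sumQuot bU) (bW.sumQuot_inl bU) (bW.sumQuot_inr bU) (h.lat y)]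
  push_cast
  rw [add_mul]
  rfl

/-- Transport. -/
noncomputable def mapE (Λ : LFam X V) (e : V ≃ₗ[X.presheaf.stalk (genericPoint X)] V') : LFam X V' :=
  fun y => (Λ y).map (e.toLinearMap.restrictScalars (X.presheaf.stalk y.1))

theorem IsFam.mapE [IsNoetherian X] {Λ : LFam X V} (h : IsFam Λ)
    (e : V ≃ₗ[X.presheaf.stalk (genericPoint X)] V') (b : Basis ι X.functionField V) : IsFam (Fam.mapE Λ e) := by
  refine IsFam.of_basis (fun y => (h.lat y).map (X.presheaf.stalk y.1) e.toLinearMap e.surjective) (b.map e) ?_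
  refine (h.fin' b).subset fun y hy h0 => hy ?_
  rw [Fam.mapE, h0, sp, sp, Submodule.map_span, ← Set.range_comp]
  rfl

theorem Deg_mapE [IsNoetherian X] {δ : C1 X → ℚ} (hδ : IsPrin δ) {Λ : LFam X V} (h : IsFam Λ)
    (e : V ≃ₗ[X.presheaf.stalk (genericPoint X)] V') (b : Basis ι X.functionField V) :
    Deg δ (Fam.mapE Λ e) = Deg δ Λ := by
  rw [Deg_eq hδ (h.mapE e b) (b.map e), Deg_eq hδ h b, degB, degB]
  refine finsum_congr fun y => ?_
  congr 2
  exact idx_map (X.presheaf.stalk y.1) e b (h.lat y)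

/-- The degree of a line through the content. -/
theorem Deg_line [IsNoetherian X] {δ : C1 X → ℚ} (hδ : IsPrin δ) {Λ : LFam X V} (h : IsFam Λ)
    (W : Submodule (X.presheaf.stalk (genericPoint X)) V)
    (bW : Basis (Fin 1) X.functionField W) (bU : Basis κ X.functionField (V ⧸ W)) :
    Deg δ (Fam.sub Λ W) = ∑ᶠ y : C1 X, (cont (X.presheaf.stalk y.1) (K := X.functionField) (Λ y) (bW 0 : V) : ℚ) * δ y := by
  rw [Deg_eq hδ (h.sub W bW bU) bW, degB]
  refine finsum_congr fun y => ?_
  congr 2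
  exact idx_comap_span (h.lat y) bW

end K849.Fam
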