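import Groth.Agent.CurvesB.OmegaGeneric
import Groth.Agent.CurvesB.OmegaInv
import Groth.Agent.GaDual.K770.DZero
import Groth.Agent.ShStab.K849.CstFam

/-!
# The sheaf of differentials at the generic point

`X` integral, smooth over an algebraically closed field `k` of characteristic `p`: the universal derivation
`d : O_η → Ω_η`, its lattices, and `d c = 0 → c` is a `p`-th power.
-/

set_option autoImplicit false
universe u
open CategoryTheory CategoryTheory.Limits AlgebraicGeometry Opposite TopologicalSpace Module

namespace K849.OmegaEta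

open Groth.Agent Groth.Agent.CurvesB.OmegaStalkDict Groth.Agent.CurvesB.OmegaDer
open K848.TF K849.Cst K849.CstTor K849.DvrLat K849.CstDeg

section algebra

/-- Over a perfect field, elements with vanishing differential are `p`-th powers. -/
theorem exists_pow_of_perfect (p : ℕ) [Fact p.Prime] {k K : Type u} [Field k] [Field K] [Algebra k K]
    [CharP k p] [PerfectField k] {c : K} (h : KaehlerDifferential.D k K c = 0) : ∃ a, a ^ p = c := by
  have : CharP K p := charP_of_injective_algebraMap (algebraMap k K).injective p
  have : ExpChar k p := ExpChar.prime Fact.out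
  have hk : ∀ b : k, algebraMap k K b ∈ (frobenius K p).fieldRange := by
    intro b
    obtain ⟨b', rfl⟩ := (PerfectRing.bijective_frobenius (R := k) (p := p)).2 b
    exact ⟨algebraMap k K b', by rw [frobenius_def]; exact (map_pow _ _ _).symm⟩
  let _ : Algebra k (frobenius K p).fieldRange :=
    ((algebraMap k K).codRestrict (frobenius K p).fieldRange hk).toAlgebra
  have : IsScalarTower k (frobenius K p).fieldRange K := IsScalarTower.of_algebraMap_eq fun _ => rfl
  refine K770.DZero.exists_pow_of_D_eq_zero p ?_
  have h1 := KaehlerDifferential.map_D k (frobenius K p).fieldRange K K c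
  rw [h, map_zero] at h1
  exact h1.symm

end algebra

attribute [local instance 50] modAt

variable (k : Type u) [Field k] (X : Scheme.{u}) [X.Over (Spec (CommRingCat.of k))]

/-- The sheaf of differentials. -/
noncomputable abbrev Om : X.Modules := Omega.sheaf (X ↘ Spec (CommRingCat.of k))

theorem isCoh_Om [LocallyOfFiniteType (X ↘ Spec (CommRingCat.of k))]
    [IsSeparated (X ↘ Spec (CommRingCat.of k))] : Coh.IsCoh (Om k X) :=
  CurvesB.OmegaInv.isCoh_omega _

theorem free_Om [Smooth (X ↘ Spec (CommRingCat.of k))] [IsSeparated (X ↘ Spec (CommRingCat.of k))] (x : X) :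
    Module.Free (X.presheaf.stalk x) ((Om k X).presheaf.stalk x) :=
  CurvesB.OmegaInv.free_stalk_omega _ x

theorem isTorsionFree_Om [Smooth (X ↘ Spec (CommRingCat.of k))]
    [IsSeparated (X ↘ Spec (CommRingCat.of k))] : TorSh.IsTorsionFree (Om k X) := by
  intro x
  have := free_Om k X x
  infer_instance

variable [IsIntegral X] [QuasiCompact (pullback.diagonal (X ↘ Spec (CommRingCat.of k)))]

/-- The universal derivation at the generic point. -/
noncomputable def dη : Derivation ℤ X.functionField ((Om k X).presheaf.stalk (genericPoint X)) where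
  toLinearMap := (dSt (X ↘ Spec (CommRingCat.of k)) (genericPoint X)).toIntLinearMap
  map_one_eq_zero' := by
    change dSt (X ↘ Spec (CommRingCat.of k)) (genericPoint X) 1 = 0
    rw [← map_one (CurvesB.OmegaStalkDict.stHom (X ↘ Spec (CommRingCat.of k)) (genericPoint X)), dSt_stHom]
  leibniz' := dSt_mul (X ↘ Spec (CommRingCat.of k)) (genericPoint X)

theorem dη_apply (c : X.functionField) : dη k X c = dSt (X ↘ Spec (CommRingCat.of k)) (genericPoint X) c := rfl

theorem dη_spec (y : X) (r : X.presheaf.stalk y) : dη k X (X.presheaf.stalkSpecializes (gen y) r) =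
    (Om k X).presheaf.stalkSpecializes (gen y) (dSt (X ↘ Spec (CommRingCat.of k)) y r) :=
  (dSt_specializes (X ↘ Spec (CommRingCat.of k)) (gen y) r).symm

/-- The differential of a regular function is regular. -/
theorem dη_mem_lat (y : X) (r : X.presheaf.stalk y) :
    dη k X (X.presheaf.stalkSpecializes (gen y) r) ∈ lat (Om k X) LinearMap.id y :=
  mem_lat.2 ⟨dSt (X ↘ Spec (CommRingCat.of k)) y r, (dη_spec k X y r).symm⟩

omit [IsIntegral X] in
theorem span_dSt (y : X) :
    Submodule.span (X.presheaf.stalk y) (Set.range (dSt (X ↘ Spec (CommRingCat.of k)) y)) = ⊤ := by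
  let := stAlg (X ↘ Spec (CommRingCat.of k)) y
  let := stMod (X ↘ Spec (CommRingCat.of k)) (Om k X) y
  have := stTower (X ↘ Spec (CommRingCat.of k)) (Om k X) y
  rw [eq_top_iff]
  rintro m -
  obtain ⟨ω, rfl⟩ := (bijective_stDer (X ↘ Spec (CommRingCat.of k)) y).2 m
  have hω : ω ∈ Submodule.span (X.presheaf.stalk y) (Set.range (KaehlerDifferential.D k (X.presheaf.stalk y))) := by
    rw [KaehlerDifferential.span_range_derivation]
    trivial
  induction hω using Submodule.span_induction with
  | mem a ha =>
    obtain ⟨b, rfl⟩ := ha
    rw [Derivation.liftKaehlerDifferential_comp_D]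
    exact Submodule.subset_span ⟨b, rfl⟩
  | zero => rw [map_zero]; exact zero_mem _
  | add a b _ _ ha hb => rw [map_add]; exact add_mem ha hb
  | smul a b _ hb => rw [map_smul]; exact Submodule.smul_mem _ _ hb

/-- The lattice of differentials is spanned by the differentials of regular functions. -/
theorem lat_Om (y : X) : lat (Om k X) LinearMap.id y =
    Submodule.span (X.presheaf.stalk y)
      (Set.range fun r : X.presheaf.stalk y => dη k X (X.presheaf.stalkSpecializes (gen y) r)) := by
  apply le_antisymm
  · change LinearMap.range (latHom (Om k X) LinearMap.id y) ≤ _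
    rw [LinearMap.range_eq_map, ← span_dSt k X y, Submodule.map_span, ← Set.range_comp]
    apply Submodule.span_mono
    rintro _ ⟨r, rfl⟩
    exact ⟨r, dη_spec k X y r⟩
  · rw [Submodule.span_le]
    rintro _ ⟨r, rfl⟩
    exact dη_mem_lat k X y r

theorem span_dη : Submodule.span X.functionField (Set.range (dη k X)) = ⊤ :=
  span_dSt k X (genericPoint X)

/-- Functions with vanishing differential are `p`-th powers. -/
theorem exists_pow (p : ℕ) [Fact p.Prime] [CharP k p] [PerfectField k] {c : X.functionField}
    (hc : dη k X c = 0) : ∃ a, a ^ p = c := by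
  let := stAlg (X ↘ Spec (CommRingCat.of k)) (genericPoint X)
  let := stMod (X ↘ Spec (CommRingCat.of k)) (Om k X) (genericPoint X)
  have := stTower (X ↘ Spec (CommRingCat.of k)) (Om k X) (genericPoint X)
  refine exists_pow_of_perfect p (k := k) (K := X.functionField) ?_
  apply (bijective_stDer (X ↘ Spec (CommRingCat.of k)) (genericPoint X)).1
  rw [map_zero, Derivation.liftKaehlerDifferential_comp_D]
  exact hc

theorem dη_pow (p : ℕ) [CharP k p] (a : X.functionField) : dη k X (a ^ p) = 0 := by
  let := stAlg (X ↘ Spec (CommRingCat.of k)) (genericPoint X)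
  have : CharP X.functionField p := charP_of_injective_algebraMap (algebraMap k X.functionField).injective p
  rw [Derivation.leibniz_pow, ← Nat.cast_smul_eq_nsmul X.functionField p, CharP.cast_eq_zero, zero_smul]

end K849.OmegaEta
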