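import Groth.Agent.ShStab.K849.AbsSetup

/-!
# Abstract Harder–Narasimhan filtrations

Translation between intervals of the lattice of `ok` subobjects and quotients `b / a`, and the existence and
uniqueness of the Harder–Narasimhan filtration.
-/

set_option autoImplicit false
set_option linter.unusedSectionVars false
set_option linter.style.haveILetI false

universe v u

open CategoryTheory CategoryTheory.Limits

namespace K849.Abs

open K849.LatHN Groth.Agent.Cohder.SubobjLattice

variable {C : Type u} [Category.{v} C] [Abelian C] {V : Type*} [AddCommGroup V] [LinearOrder V]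
  [IsOrderedAddMonoid V] [Module ℚ V] [PosSMulStrictMono ℚ V]
variable {ok : C → Prop} {P : C → V} {α : V →ₗ[ℚ] ℚ}

/-- For `a ≤ b` and an `ok` subobject `G` of `b / a`, there is `c` with `a ≤ c ≤ b` and `P G = P c - P a`. -/
lemma exists_between (h : Setup ok P α) {E : C} {a b : Subobject E} (hab : a ≤ b)
    (ha : ok (a : C)) (hb : ok (b : C)) {G : C} (ι : G ⟶ cokernel (Subobject.ofLE a b hab)) [Mono ι]
    (hG : ok G) : ∃ c : Subobject E, a ≤ c ∧ c ≤ b ∧ ok (c : C) ∧ P G = P (c : C) - P (a : C) ∧
      (¬ IsZero G → a ≠ c) := by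
  let π := cokernel.π (Subobject.ofLE a b hab)
  have hQ : ok (cokernel (Subobject.ofLE a b hab)) := h.ok_coker _ ha hb
  let K := pullback ι π
  have hw0 : (0 : (a : C) ⟶ G) ≫ ι = Subobject.ofLE a b hab ≫ π := by
    rw [zero_comp]
    exact (cokernel.condition _).symm
  let j : (a : C) ⟶ K := pullback.lift 0 (Subobject.ofLE a b hab) hw0
  have hj1 : j ≫ pullback.fst ι π = 0 := pullback.lift_fst _ _ _
  have hj2 : j ≫ pullback.snd ι π = Subobject.ofLE a b hab := pullback.lift_snd _ _ _
  have hjm : Mono j := by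
    have : Mono (j ≫ pullback.snd ι π) := by rw [hj2]; infer_instance
    exact mono_of_mono j (pullback.snd ι π)
  let S : ShortComplex C := ShortComplex.mk j (pullback.fst ι π) hj1
  have hS : S.ShortExact :=
    { exact := by
        rw [ShortComplex.exact_iff_exact_up_to_refinements]
        intro T x hx
        have hx' : x ≫ pullback.fst ι π = 0 := hx
        have h2 : (x ≫ pullback.snd ι π) ≫ π = 0 := by
          rw [Category.assoc, ← pullback.condition, ← Category.assoc, hx', zero_comp]
        refine ⟨T, 𝟙 _, inferInstance, Abelian.monoLift (Subobject.ofLE a b hab) _ h2, ?_⟩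
        rw [Category.id_comp]
        change x = Abelian.monoLift (Subobject.ofLE a b hab) _ h2 ≫ j
        apply pullback.hom_ext
        · rw [hx', Category.assoc, hj1, comp_zero]
        · rw [Category.assoc, hj2, Abelian.monoLift_comp]
      mono_f := hjm
      epi_g := by
        change Epi (pullback.fst ι π)
        infer_instance }
  have hK : ok K := h.ok_ext S hS ha hG
  have hP : P K = P (a : C) + P G := h.add S hS ha hK hG
  let m : K ⟶ E := pullback.snd ι π ≫ b.arrow
  have hm : Mono m := mono_comp _ _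
  refine ⟨Subobject.mk m, ?_, ?_, ?_, ?_, ?_⟩
  · exact Subobject.le_mk_of_comm j (by
      change j ≫ pullback.snd ι π ≫ b.arrow = _
      rw [← Category.assoc, hj2, Subobject.ofLE_arrow])
  · exact Subobject.mk_le_of_comm (pullback.snd ι π) rfl
  · exact h.ok_iso (Subobject.underlyingIso m).symm hK
  · have := h.P_iso (Subobject.underlyingIso m).symm hK
    rw [← this, hP]
    abel
  · intro hG0 heq
    apply hG0
    -- `j` is an isomorphism then, so `pullback.fst = 0` and epi
    have hle : Subobject.mk m ≤ a := heq.ge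
    have hfac : K ⟶ (a : C) := (Subobject.underlyingIso m).inv ≫ Subobject.ofLE _ _ hle
    have hfac2 : ((Subobject.underlyingIso m).inv ≫ Subobject.ofLE _ _ hle) ≫ a.arrow = m := by
      rw [Category.assoc, Subobject.ofLE_arrow, Subobject.underlyingIso_arrow]
    have h3 : ((Subobject.underlyingIso m).inv ≫ Subobject.ofLE _ _ hle) ≫ j = 𝟙 K := by
      rw [← cancel_mono m]
      have : j ≫ m = a.arrow := by
        change j ≫ pullback.snd ι π ≫ b.arrow = _
        rw [← Category.assoc, hj2, Subobject.ofLE_arrow]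
      rw [Category.assoc, this, hfac2, Category.id_comp]
    have h4 : pullback.fst ι π = 0 := by
      rw [← Category.id_comp (pullback.fst ι π), ← h3, Category.assoc, hj1, comp_zero]
    rw [IsZero.iff_id_eq_zero]
    rw [← cancel_epi (pullback.fst ι π), h4, zero_comp, zero_comp]

/-- For `a ≤ c ≤ b`, `c / a` is a subobject of `b / a`. -/
lemma exists_mono (h : Setup ok P α) {E : C} {a b c : Subobject E} (hac : a ≤ c) (hcb : c ≤ b)
    (ha : ok (a : C)) (hc : ok (c : C)) :
    ∃ (G : C) (ι : G ⟶ cokernel (Subobject.ofLE a b (hac.trans hcb))), Mono ι ∧ ok G ∧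
      P G = P (c : C) - P (a : C) ∧ (a ≠ c → ¬ IsZero G) := by
  let ι : cokernel (Subobject.ofLE a c hac) ⟶ cokernel (Subobject.ofLE a b (hac.trans hcb)) :=
    cokernel.map _ _ (𝟙 _) (Subobject.ofLE c b hcb) (by simp)
  refine ⟨cokernel (Subobject.ofLE a c hac), ι, ?_, h.ok_coker _ ha hc, h.P_cokernel _ ha hc, ?_⟩
  · rw [Preadditive.mono_iff_cancel_zero]
    intro T y hy
    obtain ⟨T₁, π₁, hπ₁, y₁, hy₁⟩ := surjective_up_to_refinements_of_epi
      (cokernel.π (Subobject.ofLE a c hac)) y
    have h1 : (y₁ ≫ Subobject.ofLE c b hcb) ≫ cokernel.π (Subobject.ofLE a b (hac.trans hcb)) = 0 := by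
      have : (y₁ ≫ Subobject.ofLE c b hcb) ≫ cokernel.π (Subobject.ofLE a b (hac.trans hcb)) =
          π₁ ≫ y ≫ ι := by
        rw [← Category.assoc π₁, hy₁]
        simp [ι]
      rw [this, hy, comp_zero]
    have h2 := Abelian.monoLift_comp (Subobject.ofLE a b (hac.trans hcb)) _ h1
    have h3 : y₁ = Abelian.monoLift (Subobject.ofLE a b (hac.trans hcb)) _ h1 ≫ Subobject.ofLE a c hac := by
      rw [← cancel_mono (Subobject.ofLE c b hcb), Category.assoc, Subobject.ofLE_comp_ofLE, h2]
    rw [← cancel_epi π₁, hy₁, h3, Category.assoc, cokernel.condition, comp_zero, comp_zero]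
  · intro hne hz
    apply hne
    have hepi : Epi (Subobject.ofLE a c hac) := by
      apply Preadditive.epi_of_isZero_cokernel
      exact hz
    have hiso : IsIso (Subobject.ofLE a c hac) := isIso_of_mono_of_epi _
    apply le_antisymm hac
    exact Subobject.le_of_comm (inv (Subobject.ofLE a c hac)) (by simp)

lemma pureInt_iff (h : Setup ok P α) {E : C} (hE : ok E) (a b : Setup.OkSub ok E) (hab : a ≤ b) :
    PureInt (Pv P E) α a b ↔ APure ok P α (cokernel (Subobject.ofLE a.1 b.1 hab)) := by
  constructor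
  · intro hp G ι _ hG hG0
    obtain ⟨c, hac, hcb, hc, hPc, hne⟩ := exists_between h hab a.2 b.2 ι hG
    rw [hPc]
    exact hp ⟨c, hc⟩ (lt_of_le_of_ne hac (fun he => hne hG0 (congrArg Subtype.val he))) hcb
  · intro hp c hac hcb
    obtain ⟨G, ι, hι, hG, hPG, hG0⟩ := exists_mono h (a := a.1) (b := b.1) (c := c.1) hac.le hcb a.2 c.2
    have := hp G ι hι hG (hG0 (fun he => hac.ne (Subtype.ext he)))
    rw [hPG] at this
    exact this

lemma ssInt_iff (h : Setup ok P α) {E : C} (hE : ok E) (a b : Setup.OkSub ok E) (hab : a ≤ b) :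
    SSInt (Pv P E) α a b ↔ ASS ok P α (cokernel (Subobject.ofLE a.1 b.1 hab)) := by
  have hPc0 := h.P_cokernel (Subobject.ofLE a.1 b.1 hab) a.2 b.2
  constructor
  · intro hp G ι _ hG hG0
    obtain ⟨c, hac, hcb, hc, hPc, hne⟩ := exists_between h hab a.2 b.2 ι hG
    rw [hPc, hPc0]
    exact hp ⟨c, hc⟩ (lt_of_le_of_ne hac (fun he => hne hG0 (congrArg Subtype.val he))) hcb
  · intro hp c hac hcb
    obtain ⟨G, ι, hι, hG, hPG, hG0⟩ := exists_mono h (a := a.1) (b := b.1) (c := c.1) hac.le hcb a.2 c.2
    have := hp G ι hι hG (hG0 (fun he => hac.ne (Subtype.ext he)))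
    rw [hPG, hPc0] at this
    exact this

/-- An abstract HN filtration: factors `ok`, pure, semistable, slopes strictly decreasing. -/
def IsAHN (ok : C → Prop) (P : C → V) (α : V →ₗ[ℚ] ℚ) {E : C} (s : LTSeries (Subobject E)) : Prop :=
  s.head = ⊥ ∧ s.last = ⊤ ∧
    (∀ i : Fin s.length, ok (StabCat.factor s i) ∧ APure ok P α (StabCat.factor s i) ∧
      ASS ok P α (StabCat.factor s i)) ∧
    ∀ i j : Fin s.length, i.val + 1 = j.val →
      redlt α (P (StabCat.factor s j)) (P (StabCat.factor s i))

/-- All terms of a filtration with `ok` factors starting at `⊥` are `ok`. -/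
lemma ok_term (h : Setup ok P α) {E : C} (hE : ok E) (s : LTSeries (Subobject E)) (h0 : s.head = ⊥)
    (hf : ∀ i : Fin s.length, ok (StabCat.factor s i)) (i : Fin (s.length + 1)) : ok (s i : C) := by
  induction i using Fin.induction with
  | zero =>
    have : s 0 = ⊥ := h0
    rw [this]
    exact ok_bot h hE
  | succ i ih =>
    exact h.ok_ext _ (Setup.shortExact_coker
      (Subobject.ofLE (s i.castSucc) (s i.succ) (le_of_lt (s.step i)))) ih (hf i)

/-- Transfer of a series of `ok` subobjects. -/
def liftSeries {E : C} (s : LTSeries (Subobject E)) (hs : ∀ i, ok (s i : C)) :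
    LTSeries (Setup.OkSub ok E) where
  length := s.length
  toFun i := ⟨s i, hs i⟩
  step i := s.step i

/-- Forget. -/
def forgetSeries {E : C} (s : LTSeries (Setup.OkSub ok E)) : LTSeries (Subobject E) where
  length := s.length
  toFun i := (s i).1
  step i := s.step i

lemma forget_lift {E : C} (s : LTSeries (Subobject E)) (hs : ∀ i, ok (s i : C)) :
    forgetSeries (liftSeries s hs) = s := rfl

/-- Comparison of the lattice notion and the categorical notion. -/
lemma isHN_iff (h : Setup ok P α) {E : C} (hE : ok E) (s : LTSeries (Setup.OkSub ok E)) :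
    IsHN (Pv P E) α s ↔
      (∀ i : Fin s.length, APure ok P α (StabCat.factor (forgetSeries s) i) ∧
        ASS ok P α (StabCat.factor (forgetSeries s) i)) ∧
      ∀ i j : Fin s.length, i.val + 1 = j.val →
        redlt α (P (StabCat.factor (forgetSeries s) j)) (P (StabCat.factor (forgetSeries s) i)) := by
  have hPf : ∀ i : Fin s.length, P (StabCat.factor (forgetSeries s) i) =
      Pv P E (s i.succ) - Pv P E (s i.castSucc) := fun i =>
    h.P_cokernel _ (s i.castSucc).2 (s i.succ).2
  constructor
  · rintro ⟨h1, h2⟩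
    refine ⟨fun i => ?_, fun i j hij => ?_⟩
    · obtain ⟨h3, h4⟩ := h1 i
      rw [pureInt_iff h hE _ _ (s.step i).le] at h3
      rw [ssInt_iff h hE _ _ (s.step i).le] at h4
      exact ⟨h3, h4⟩
    · rw [hPf, hPf]
      have := h2 i j hij
      have e : (i.succ : Fin (s.length + 1)) = j.castSucc := Fin.ext (by simpa using hij)
      unfold Dec at this
      rw [← e]
      exact this
  · rintro ⟨h1, h2⟩
    refine ⟨fun i => ?_, fun i j hij => ?_⟩
    · obtain ⟨h3, h4⟩ := h1 i
      exact ⟨(pureInt_iff h hE _ _ (s.step i).le).2 h3, (ssInt_iff h hE _ _ (s.step i).le).2 h4⟩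
    · have := h2 i j hij
      rw [hPf, hPf] at this
      have e : (i.succ : Fin (s.length + 1)) = j.castSucc := Fin.ext (by simpa using hij)
      rw [← e] at this
      exact this

/-- Existence and uniqueness of the HN filtration. -/
theorem existsUnique_isAHN (h : Setup ok P α) {E : C} (hE : ok E) (hp : APure ok P α E) :
    ∃! s : LTSeries (Subobject E), IsAHN ok P α s := by
  letI := okLattice h hE
  letI := okOrderTop h hE
  letI := okOrderBot h hE
  haveI : WellFoundedGT (Setup.OkSub ok E) := h.noeth E hE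
  have hv := isVal h hE
  have hpure : ∀ c : Setup.OkSub ok E, (⊥ : Setup.OkSub ok E) < c →
      0 < α (Pv P E c - Pv P E (⊥ : Setup.OkSub ok E)) := by
    intro c hc
    have h0 : Pv P E (⊥ : Setup.OkSub ok E) = 0 :=
      h.P_zero (ok_bot h hE) ((isZero_zero C).of_iso Subobject.botCoeIsoZero)
    rw [h0, sub_zero]
    refine hp _ c.1.arrow inferInstance c.2 (fun hz => ?_)
    have : c.1 = ⊥ := by
      rw [eq_bot_iff]
      exact Subobject.le_of_comm 0 (by rw [zero_comp]; exact (hz.eq_of_src _ _))
    exact hc.ne' (Subtype.ext this)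
  obtain ⟨t, ht1, ht2, ht3, -⟩ := exists_isHN hv ⊥ hpure
  refine ⟨forgetSeries t, ⟨congrArg Subtype.val ht1, congrArg Subtype.val ht2, ?_, ?_⟩, ?_⟩
  · intro i
    exact ⟨h.ok_coker _ (t i.castSucc).2 (t i.succ).2, ((isHN_iff h hE t).1 ht3).1 i⟩
  · exact ((isHN_iff h hE t).1 ht3).2
  · rintro s ⟨hs1, hs2, hs3, hs4⟩
    have hok := ok_term h hE s hs1 (fun i => (hs3 i).1)
    have : liftSeries s hok = t := by
      refine isHN_unique hv _ _ ?_ (Subtype.ext hs2) ht2 ?_ ht3
      · rw [ht1]
        exact Subtype.ext hs1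
      · rw [isHN_iff h hE]
        exact ⟨fun i => (hs3 i).2, hs4⟩
    rw [← this]
    rfl

end K849.Abs
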