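import Groth.Agent.ShStab.K849.LatHN3
import Groth.Agent.Cohder.SubobjLattice
import Groth.Prelude.Def_StabCat
import Mathlib.Algebra.Homology.ShortComplex.ShortExact
import Mathlib.Algebra.Homology.ShortComplex.Abelian

/-!
# Abstract stability in an abelian category

`Setup ok P α`: `ok` is a class of objects closed under kernels, cokernels and extensions, with ACC on
`ok`-subobjects, `P` is additive with values in an ordered `ℚ`-vector space, `α` is an integral rank.
-/

set_option autoImplicit false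
set_option linter.unusedSectionVars false

universe v u

open CategoryTheory CategoryTheory.Limits

namespace K849.Abs

set_option linter.style.haveILetI false
open K849.LatHN Groth.Agent.Cohder.SubobjLattice

variable {C : Type u} [Category.{v} C] [Abelian C] {V : Type*} [AddCommGroup V] [LinearOrder V]
  [IsOrderedAddMonoid V] [Module ℚ V] [PosSMulStrictMono ℚ V]

/-- The abstract setting. -/
structure Setup (ok : C → Prop) (P : C → V) (α : V →ₗ[ℚ] ℚ) : Prop where
  ok_iso : ∀ {A B : C}, (A ≅ B) → ok A → ok B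
  ok_ker : ∀ {A B : C} (f : A ⟶ B), ok A → ok B → ok (kernel f)
  ok_coker : ∀ {A B : C} (f : A ⟶ B), ok A → ok B → ok (cokernel f)
  ok_ext : ∀ (S : ShortComplex C), S.ShortExact → ok S.X₁ → ok S.X₃ → ok S.X₂
  noeth : ∀ (E : C), ok E → WellFoundedGT {x : Subobject E // ok (x : C)}
  add : ∀ (S : ShortComplex C), S.ShortExact → ok S.X₁ → ok S.X₂ → ok S.X₃ → P S.X₂ = P S.X₁ + P S.X₃
  nat : ∀ (E : C), ok E → ∃ n : ℕ, α (P E) = n
  nonneg : ∀ (E : C), ok E → α (P E) = 0 → 0 ≤ P E

/-- Purity: nonzero `ok`-subobjects have positive rank. -/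
def APure (ok : C → Prop) (P : C → V) (α : V →ₗ[ℚ] ℚ) (E : C) : Prop :=
  ∀ (F : C) (ι : F ⟶ E), Mono ι → ok F → ¬ IsZero F → 0 < α (P F)

/-- Semistability: nonzero `ok`-subobjects have slope at most that of `E`. -/
def ASS (ok : C → Prop) (P : C → V) (α : V →ₗ[ℚ] ℚ) (E : C) : Prop :=
  ∀ (F : C) (ι : F ⟶ E), Mono ι → ok F → ¬ IsZero F → redle α (P F) (P E)

variable {ok : C → Prop} {P : C → V} {α : V →ₗ[ℚ] ℚ}

namespace Setup

variable (h : Setup ok P α)

include h

lemma ok_zero {E Z : C} (hE : ok E) (hZ : IsZero Z) : ok Z := by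
  refine h.ok_iso ?_ (h.ok_ker (𝟙 E) hE hE)
  exact (isZero_kernel_of_mono (𝟙 E)).iso hZ

lemma P_zero {Z : C} (hok : ok Z) (hZ : IsZero Z) : P Z = 0 := by
  have hS : (ShortComplex.mk (0 : Z ⟶ Z) (0 : Z ⟶ Z) (by simp)).ShortExact :=
    { exact := ShortComplex.exact_of_isZero_X₂ _ hZ
      mono_f := ⟨fun _ _ _ => hZ.eq_of_tgt _ _⟩
      epi_g := ⟨fun _ _ _ => hZ.eq_of_src _ _⟩ }
  have := h.add _ hS hok hok hok
  simpa using this

lemma P_iso {A B : C} (e : A ≅ B) (hA : ok A) : P A = P B := by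
  have hB := h.ok_iso e hA
  have hZ : IsZero (kernel (𝟙 A)) := isZero_kernel_of_mono (𝟙 A)
  have hokZ : ok (kernel (𝟙 A)) := h.ok_zero hA hZ
  have hS : (ShortComplex.mk (0 : kernel (𝟙 A) ⟶ A) e.hom (by simp)).ShortExact :=
    { exact := by
        rw [ShortComplex.exact_iff_mono _ rfl]
        change Mono e.hom
        infer_instance
      mono_f := ⟨fun _ _ _ => hZ.eq_of_tgt _ _⟩
      epi_g := by change Epi e.hom; infer_instance }
  have := h.add _ hS hokZ hA hB
  rw [this, h.P_zero hokZ hZ, zero_add]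

lemma ok_of_mono_cokernel {A B : C} (f : A ⟶ B) [Mono f] (hB : ok B) (hc : ok (cokernel f)) : ok A := by
  have : ok (kernel (cokernel.π f)) := h.ok_ker _ hB hc
  exact h.ok_iso (asIso (Abelian.factorThruImage f)).symm this

omit h in
lemma shortExact_coker {A B : C} (f : A ⟶ B) [Mono f] :
    (ShortComplex.mk f (cokernel.π f) (by simp)).ShortExact :=
  { exact := ShortComplex.exact_cokernel f
    mono_f := inferInstance
    epi_g := inferInstance }

lemma P_cokernel {A B : C} (f : A ⟶ B) [Mono f] (hA : ok A) (hB : ok B) :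
    P (cokernel f) = P B - P A := by
  have := h.add _ (shortExact_coker f) hA hB (h.ok_coker f hA hB)
  rw [eq_sub_iff_add_eq, add_comm]
  exact this.symm

omit h in
lemma shortExact_ker {A B : C} (f : A ⟶ B) [Epi f] :
    (ShortComplex.mk (kernel.ι f) f (by simp)).ShortExact :=
  { exact := ShortComplex.exact_kernel f
    mono_f := inferInstance
    epi_g := inferInstance }

lemma P_kernel {A B : C} (f : A ⟶ B) [Epi f] (hA : ok A) (hB : ok B) :
    P (kernel f) = P A - P B := by
  have := h.add _ (shortExact_ker f) (h.ok_ker f hA hB) hA hB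
  rw [eq_sub_iff_add_eq]
  exact this.symm

lemma ok_image {A B : C} (f : A ⟶ B) (hA : ok A) (hB : ok B) : ok (image f) := by
  have h1 : ok (kernel (cokernel.π f)) := h.ok_ker _ hB (h.ok_coker f hA hB)
  exact h.ok_iso (Abelian.imageIsoImage f) h1

lemma ok_of_epi_kernel {A B : C} (f : A ⟶ B) [Epi f] (hA : ok A) (hk : ok (kernel f)) : ok B := by
  have h1 : ok (cokernel (kernel.ι f)) := h.ok_coker _ hk hA
  exact h.ok_iso (asIso (Abelian.factorThruCoimage f)) h1

lemma ok_sup {E : C} (hE : ok E) (a b : Subobject E) (ha : ok (a : C)) (hb : ok (b : C)) :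
    ok ((a ⊔ b : Subobject E) : C) ∧ ok ((a ⊓ b : Subobject E) : C) := by
  -- `a ⊓ b` is the kernel of `a ⟶ E ⟶ E / b`
  have hq : ok (cokernel b.arrow) := h.ok_coker _ hb hE
  have hi : ok ((a ⊓ b : Subobject E) : C) := by
    let K := kernel (a.arrow ≫ cokernel.π b.arrow)
    have hK : ok K := h.ok_ker _ ha hq
    have e : Subobject.mk (kernel.ι (a.arrow ≫ cokernel.π b.arrow) ≫ a.arrow) = a ⊓ b := by
      apply le_antisymm
      · apply le_inf
        · exact Subobject.mk_le_of_comm (kernel.ι _) rfl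
        · apply Subobject.mk_le_of_comm
            (Abelian.monoLift b.arrow (kernel.ι (a.arrow ≫ cokernel.π b.arrow) ≫ a.arrow)
              (by rw [Category.assoc]; exact kernel.condition _))
          exact Abelian.monoLift_comp _ _ _
      · rw [le_iff_factors]
        intro T f hf
        rw [Subobject.inf_factors] at hf
        rw [Subobject.mk_factors_iff]
        have h1 : a.factorThru f hf.1 ≫ (a.arrow ≫ cokernel.π b.arrow) = 0 := by
          rw [← Category.assoc, Subobject.factorThru_arrow, ← Subobject.factorThru_arrow b f hf.2,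
            Category.assoc, cokernel.condition, comp_zero]
        exact ⟨kernel.lift _ _ h1, by
          change _ ≫ (kernel.ι _ ≫ a.arrow) = _
          rw [← Category.assoc, kernel.lift_ι, Subobject.factorThru_arrow]⟩
    rw [← e]
    exact h.ok_iso (Subobject.underlyingIso _).symm hK
  refine ⟨?_, hi⟩
  obtain ⟨e⟩ := secondIso a b inf_le_right le_sup_left
  have h1 : ok (cokernel (Subobject.ofLE (a ⊓ b) b inf_le_right)) := h.ok_coker _ hi hb
  exact h.ok_ext _ (shortExact_coker (Subobject.ofLE a (a ⊔ b) le_sup_left)) ha (h.ok_iso e h1)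

/-- The sublattice of `ok` subobjects. -/
abbrev OkSub (ok : C → Prop) (E : C) : Type _ := {x : Subobject E // ok (x : C)}

end Setup

/-- Lattice structure on `ok` subobjects. -/
@[reducible]
noncomputable def okLattice (h : Setup ok P α) {E : C} (hE : ok E) : Lattice (Setup.OkSub ok E) where
  sup a b := ⟨a.1 ⊔ b.1, (h.ok_sup hE a.1 b.1 a.2 b.2).1⟩
  inf a b := ⟨a.1 ⊓ b.1, (h.ok_sup hE a.1 b.1 a.2 b.2).2⟩
  le_sup_left a b := le_sup_left (a := a.1) (b := b.1)
  le_sup_right a b := le_sup_right (a := a.1) (b := b.1)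
  sup_le a b c hac hbc := sup_le (a := a.1) (b := b.1) (c := c.1) hac hbc
  inf_le_left a b := inf_le_left (a := a.1) (b := b.1)
  inf_le_right a b := inf_le_right (a := a.1) (b := b.1)
  le_inf a b c hab hac := show a.1 ≤ b.1 ⊓ c.1 from le_inf hab hac

lemma ok_top (h : Setup ok P α) {E : C} (hE : ok E) : ok ((⊤ : Subobject E) : C) :=
  h.ok_iso (asIso (⊤ : Subobject E).arrow).symm hE

lemma ok_bot (h : Setup ok P α) {E : C} (hE : ok E) : ok ((⊥ : Subobject E) : C) :=
  h.ok_zero hE ((isZero_zero C).of_iso Subobject.botCoeIsoZero)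

/-- Top element. -/
@[reducible]
noncomputable def okOrderTop (h : Setup ok P α) {E : C} (hE : ok E) : OrderTop (Setup.OkSub ok E) where
  top := ⟨⊤, ok_top h hE⟩
  le_top a := le_top (a := a.1)

/-- Bottom element. -/
@[reducible]
noncomputable def okOrderBot (h : Setup ok P α) {E : C} (hE : ok E) : OrderBot (Setup.OkSub ok E) where
  bot := ⟨⊥, ok_bot h hE⟩
  bot_le a := bot_le (a := a.1)

/-- The valuation. -/
noncomputable def Pv (P : C → V) (E : C) (x : Setup.OkSub ok E) : V := P (x.1 : C)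

lemma isVal (h : Setup ok P α) {E : C} (hE : ok E) :
    letI := okLattice h hE
    IsVal (Pv P E : Setup.OkSub ok E → V) α := by
  letI := okLattice h hE
  have hd : ∀ (a b : Setup.OkSub ok E) (hab : a ≤ b),
      Pv P E b - Pv P E a = P (cokernel (Subobject.ofLE a.1 b.1 hab)) := by
    intro a b hab
    rw [h.P_cokernel _ a.2 b.2]
    rfl
  refine ⟨fun a b => ?_, fun a b hab => ?_, fun a b hab h0 => ?_⟩
  · obtain ⟨e⟩ := secondIso a.1 b.1 inf_le_right le_sup_left
    have h1 := h.P_iso e (h.ok_coker _ (h.ok_sup hE a.1 b.1 a.2 b.2).2 b.2)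
    rw [h.P_cokernel _ (h.ok_sup hE a.1 b.1 a.2 b.2).2 b.2,
      h.P_cokernel _ a.2 (h.ok_sup hE a.1 b.1 a.2 b.2).1] at h1
    change P ((a.1 ⊔ b.1 : Subobject E) : C) + P ((a.1 ⊓ b.1 : Subobject E) : C) = P (a.1 : C) + P (b.1 : C)
    rw [sub_eq_sub_iff_add_eq_add] at h1
    rw [← h1, add_comm]
  · rw [hd a b hab]
    exact h.nat _ (h.ok_coker _ a.2 b.2)
  · rw [hd a b hab] at h0 ⊢
    exact h.nonneg _ (h.ok_coker _ a.2 b.2) h0

end K849.Abs
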