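import Groth.Agent.ShStab.K849.CstDeg
import Groth.Agent.ShStab.K848.Pos
import Groth.Agent.ShStab.K848.Dim

/-!
# The degree through lattices: the coefficient of the Hilbert polynomial, generic submodules, principal divisors
-/

set_option autoImplicit false
universe u
open CategoryTheory CategoryTheory.Limits AlgebraicGeometry Opposite TopologicalSpace Module

namespace K849.CstDeg

open Groth.Agent Groth.Agent.CycB.StalkExact Groth.Agent.VarietyB.ExactLoc Groth.Agent.Ega3B.Devissage
open Groth.Agent.Fdesc.Skyscraper Groth.Agent.CycB.CohStalk Groth.Agent.Sga67.CohBasic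
open K848.TF K849.Cst K849.CstTor K849.DvrLat K848.Rank K848.HB K848.Dim K848.Poly StabCat

variable {X : Scheme.{u}} [IsIntegral X]

section alpha

variable (k : Type u) [Field k] [X.Over (Spec (CommRingCat.of k))] [IsProper (X ↘ Spec (CommRingCat.of k))]
  [IsNoetherian X] {L : X.Modules}

theorem adt_alpha (hL : PicF.IsInvertible L) {n : ℕ} (hn : topologicalKrullDim X = n) :
    Adt (fun F : X.Modules => alpha (n - 1) (hp k L F)) where
  add S hS h1 h2 h3 := by
    rw [hp_add k hL hS h1 h2 h3, alpha_add]
  zero G hG hη h1 := by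
    refine alpha_hp_eq_zero k hL hG (topologicalKrullDim_lt_of_two hn (isClosed_support hG) fun x hx => ?_)
    have h2 : (1 : WithBot ℕ∞) ≤ ringKrullDim (X.presheaf.stalk x) :=
      one_le_ringKrullDim_stalk fun h0 => hη (h0 ▸ hx)
    have h3 : ringKrullDim (X.presheaf.stalk x) ≠ 1 := fun h0 => h1 ⟨x, h0⟩ hx
    generalize ringKrullDim (X.presheaf.stalk x) = t at h2 h3
    induction t with
    | bot => simp at h2
    | coe t =>
      have h4 : (1 : ℕ∞) ≤ t := WithBot.coe_le_coe.1 h2
      have h5 : t ≠ 1 := fun h => h3 (by rw [h]; rfl)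
      have h6 : (1 : ℕ∞) < t := lt_of_le_of_ne h4 h5.symm
      have h7 : (2 : ℕ∞) ≤ t := by
        have := Order.add_one_le_of_lt h6
        rwa [one_add_one_eq_two] at this
      exact WithBot.coe_le_coe.2 h7

/-- The degree of a point of codimension one. -/
noncomputable def dlt (L : X.Modules) (n : ℕ) (y : C1 X) : ℚ := alpha (n - 1) (hp k L (gm y.1))

theorem dlt_pos (hL : CohB1.IsAmple L) {n : ℕ} (hn : topologicalKrullDim X = n) (y : C1 X) : 0 < dlt k L n y := by
  refine alpha_hp_pos k hL (isCoh_gm y.1) (le_antisymm ?_ ?_)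
  · have h1 : genericPoint X ∉ CohB1.support (gm y.1) := fun h => ne_gen y (by
      have h1 : y.1 ⤳ genericPoint X := by
        rw [specializes_iff_mem_closure]
        exact support_gm y.1 h
      exact (h1.antisymm (gen y.1)).eq)
    have h2 := topologicalKrullDim_le_pred hn (isClosed_support (isCoh_gm y.1)) h1
    generalize topologicalKrullDim (CohB1.support (gm y.1)) = t at h2
    induction t with
    | bot => exact bot_le
    | coe t =>
      have h3 : t + 1 ≤ (n : ℕ∞) := WithBot.coe_le_coe.1 h2
      have h4 : t ≠ ⊤ := by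
        rintro rfl
        simp at h3
      lift t to ℕ using h4
      have h5 : t + 1 ≤ n := by exact_mod_cast h3
      have h6 : (t : ℕ∞) ≤ ((n - 1 : ℕ) : ℕ∞) := Nat.cast_le.2 (by omega)
      exact WithBot.coe_le_coe.2 h6
  · refine le_topologicalKrullDim (X ↘ Spec (CommRingCat.of k)) hn (isClosed_support (isCoh_gm y.1)) (x := y.1) ?_ y.2.le
    exact not_subsingleton_iff_nontrivial.2 (isSimple_gm y.1).nontrivial

end alpha

attribute [local instance 50] modAt

section sub

variable (G : X.Modules) (W : Submodule (X.presheaf.stalk (genericPoint X)) (G.presheaf.stalk (genericPoint X)))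

theorem range_gen : LinearMap.range (stalkLin (genSub G W).ι (genericPoint X)) = W := by
  ext m
  rw [range_stalk_genSub]
  have h : G.presheaf.stalkSpecializes (gen (genericPoint X)) m = m := by
    obtain ⟨U, hU, s, rfl⟩ := G.presheaf.exists_germ_eq m
    exact germ_spec G _ hU s
  rw [h]

/-- The generic stalk of `genSub G W`. -/
noncomputable def subHom : (genSub G W).toModules.presheaf.stalk (genericPoint X)
    →ₗ[X.presheaf.stalk (genericPoint X)] W :=
  (stalkLin (genSub G W).ι (genericPoint X)).codRestrict W fun m =>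
    (range_gen G W).le ⟨m, rfl⟩

theorem subHom_coe (m : (genSub G W).toModules.presheaf.stalk (genericPoint X)) :
    (subHom G W m : G.presheaf.stalk (genericPoint X)) = stalkLin (genSub G W).ι (genericPoint X) m := rfl

theorem subHom_bijective : Function.Bijective (subHom G W) := by
  constructor
  · intro a b hab
    exact stalkLin_injective (genSub G W).ι _ (congrArg Subtype.val hab)
  · rintro ⟨w, hw⟩
    obtain ⟨m, hm⟩ := (range_gen G W).ge hw
    exact ⟨m, Subtype.ext hm⟩

/-- The lattices of a generic submodule. -/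
theorem lat_genSub (y : X) : lat (genSub G W).toModules (subHom G W) y =
    (lat G LinearMap.id y).comap (W.subtype.restrictScalars (X.presheaf.stalk y)) := by
  ext w
  constructor
  · rintro ⟨m, rfl⟩
    refine ⟨stalkLin (genSub G W).ι y m, ?_⟩
    change G.presheaf.stalkSpecializes (gen y) (stalkLin (genSub G W).ι y m) =
      stalkLin (genSub G W).ι _ ((genSub G W).toModules.presheaf.stalkSpecializes (gen y) m)
    rw [stalkLin_spec]
  · rintro ⟨m, hm⟩
    change G.presheaf.stalkSpecializes (gen y) m = (w : G.presheaf.stalk (genericPoint X)) at hm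
    have h1 : m ∈ LinearMap.range (stalkLin (genSub G W).ι y) := by
      rw [range_stalk_genSub, hm]
      exact w.2
    obtain ⟨n, rfl⟩ := h1
    refine ⟨n, Subtype.ext ?_⟩
    change stalkLin (genSub G W).ι _ ((genSub G W).toModules.presheaf.stalkSpecializes (gen y) n) = _
    rw [stalkLin_spec, hm]

variable {G}

theorem isCoh_genSub [IsLocallyNoetherian X] (hG : Coh.IsCoh G) : Coh.IsCoh (genSub G W).toModules := by
  have h1 := isQCoh_genSub G W hG.1
  have hS : (ShortComplex.mk (genSub G W).ι (cokernel.π (genSub G W).ι) (cokernel.condition _)).ShortExact :=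
    { exact := ShortComplex.exact_of_g_is_cokernel _ (cokernelIsCokernel _)
      mono_f := inferInstance
      epi_g := inferInstance }
  have h2 : Coh.IsCoh (cokernel (genSub G W).ι) := isCoh_cokernel _ h1 hG
  have hi : (genSub G W).toModules ≅ kernel (cokernel.π (genSub G W).ι) :=
    IsLimit.conePointUniqueUpToIso hS.fIsKernel (limit.isLimit _)
  exact isCoh_of_iso hi.symm (isCoh_kernel _ hG h2.1)

theorem isTorsionFree_genSub (ht : TorSh.IsTorsionFree G) : TorSh.IsTorsionFree (genSub G W).toModules :=
  isTorsionFree_of_mono (genSub G W).ι ht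

/-- **The degree of a generic submodule.** -/
theorem deg_genSub [IsNoetherian X] [RegOne X] {φ : X.Modules → ℚ} (hφ : Adt φ) (hG : Coh.IsCoh G)
    (t : TorSh.IsTorsionFree G) {r : ℕ} (b : Basis (Fin r) X.functionField W) :
    φ (genSub G W).toModules = r * φ (Coh.structureModule X) +
      ∑ᶠ y : C1 X, (idx (X.presheaf.stalk y.1) b ((lat G LinearMap.id y.1).comap
        (W.subtype.restrictScalars (X.presheaf.stalk y.1))) : ℚ) * φ (gm y.1) := by
  have h := deg_eq hφ (isCoh_genSub W hG) (isTorsionFree_genSub W t) (subHom G W) (subHom_bijective G W) b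
  simp only [lat_genSub] at h
  exact h

end sub

section principal

variable [IsNoetherian X] [RegOne X]

theorem finite_ordK {f : X.functionField} (hf : f ≠ 0) :
    {y : C1 X | ordK (X.presheaf.stalk y.1) f ≠ 0}.Finite := by
  let b : Basis (Fin 1) X.functionField X.functionField := Basis.singleton (Fin 1) X.functionField
  let b' : Basis (Fin 1) X.functionField X.functionField := b.map (LinearEquiv.smulOfNeZero _ _ f hf)
  let e : (FlatMod.freeMod X 1).presheaf.stalk (genericPoint X) →ₗ[X.presheaf.stalk (genericPoint X)] X.functionField :=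
    freeHom b
  have h1 := deg_fin (PerfA.CohSerre.isCoh_freeMod (X := X) 1) (isTorsionFree_freeMod 1) (freeHom b) (freeHom_bijective b) b
  have h2 := deg_fin (PerfA.CohSerre.isCoh_freeMod (X := X) 1) (isTorsionFree_freeMod 1) (freeHom b) (freeHom_bijective b) b'
  refine (h1.union h2).subset fun y hy => ?_
  by_contra h
  rw [Set.mem_union, not_or] at h
  refine hy ?_
  have h3 : sp (X.presheaf.stalk y.1) b = sp (X.presheaf.stalk y.1) b' :=
    (not_not.mp h.1).symm.trans (not_not.mp h.2)
  have h4 := ordK_det_eq (X.presheaf.stalk y.1) h3.symm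
  have h5 : b.det b' = f := by
    rw [Basis.det_apply, Matrix.det_fin_one]
    simp [b', b, Basis.toMatrix_apply]
  rwa [h5] at h4

/-- **Principal divisors have degree zero.** -/
theorem principal {φ : X.Modules → ℚ} (hφ : Adt φ) {f : X.functionField} (hf : f ≠ 0) :
    ∑ᶠ y : C1 X, (ordK (X.presheaf.stalk y.1) f : ℚ) * φ (gm y.1) = 0 := by
  let b : Basis (Fin 1) X.functionField X.functionField := Basis.singleton (Fin 1) X.functionField
  let b' : Basis (Fin 1) X.functionField X.functionField := b.map (LinearEquiv.smulOfNeZero _ _ f hf)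
  have h1 := deg_eq hφ (PerfA.CohSerre.isCoh_freeMod (X := X) 1) (isTorsionFree_freeMod 1) (freeHom b) (freeHom_bijective b) b
  have h2 := deg_eq hφ (PerfA.CohSerre.isCoh_freeMod (X := X) 1) (isTorsionFree_freeMod 1) (freeHom b) (freeHom_bijective b) b'
  have h5 : b.det b' = f := by
    rw [Basis.det_apply, Matrix.det_fin_one]
    simp [b', b, Basis.toMatrix_apply]
  have h6 : ∀ y : C1 X, idx (X.presheaf.stalk y.1) b' (lat (FlatMod.freeMod X 1) (freeHom b) y.1) =
      ordK (X.presheaf.stalk y.1) f := fun y => by
    rw [lat_free, idx_sp]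
    have h7 := ordK_det_add (X.presheaf.stalk y.1) b' b b'
    rw [h5, Basis.det_self, ordK_one] at h7
    omega
  simp only [lat_free b, idx_self] at h1
  simp only [h6] at h2
  simp only [Int.cast_zero, zero_mul, finsum_zero] at h1
  linarith

end principal

end K849.CstDeg
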