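import Groth.Agent.ShStab.K849.CstTor
import Groth.Agent.Dcoh.FreeSec
import Groth.Agent.ShStab.K848.FreeHp

/-!
# The degree of a torsion-free module through the lattices at the points of codimension one
-/

set_option autoImplicit false
universe u
open CategoryTheory CategoryTheory.Limits AlgebraicGeometry Opposite TopologicalSpace Module

namespace K849.CstDeg

open Groth.Agent Groth.Agent.CycB.StalkExact Groth.Agent.VarietyB.ExactLoc Groth.Agent.Ega3B.Devissage
open Groth.Agent.Fdesc.Skyscraper Groth.Agent.CycB.CohStalk Groth.Agent.Sga67.CohBasic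
open K848.TF K849.Cst K849.CstTor K849.DvrLat K848.Rank

variable {X : Scheme.{u}} [IsIntegral X]

/-- The local rings in codimension one are discrete valuation rings. -/
class RegOne (X : Scheme.{u}) [IsIntegral X] : Prop where
  dvr : ∀ y : C1 X, IsDiscreteValuationRing (X.presheaf.stalk y.1)

instance [RegOne X] (y : C1 X) : IsDiscreteValuationRing (X.presheaf.stalk y.1) := RegOne.dvr y

section lat

/-- A vector space over the function field as a module over a local ring. -/
noncomputable abbrev modAt (y : X) (V : Type*) [AddCommGroup V] [Module (X.presheaf.stalk (genericPoint X)) V] :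
    Module (X.presheaf.stalk y) V := Module.compHom V (algebraMap (X.presheaf.stalk y) X.functionField)

attribute [local instance 50] modAt

instance tower (y : X) (V : Type*) [AddCommGroup V] [Module (X.presheaf.stalk (genericPoint X)) V] :
    IsScalarTower (X.presheaf.stalk y) X.functionField V :=
  ⟨fun r x v => by
    rw [Algebra.smul_def]
    exact mul_smul _ _ _⟩

variable {V : Type u} [AddCommGroup V] [Module (X.presheaf.stalk (genericPoint X)) V]

theorem modAt_smul (y : X) (r : X.presheaf.stalk y) (v : V) :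
    r • v = X.presheaf.stalkSpecializes (gen y) r • v := rfl

/-- The map from a stalk to a vector space. -/
noncomputable def latHom (G : X.Modules)
    (e : G.presheaf.stalk (genericPoint X) →ₗ[X.presheaf.stalk (genericPoint X)] V) (y : X) :
    G.presheaf.stalk y →ₗ[X.presheaf.stalk y] V where
  toFun m := e (G.presheaf.stalkSpecializes (gen y) m)
  map_add' a b := by rw [map_add, map_add]
  map_smul' r m := by
    rw [spec_smul, map_smul]
    rfl

/-- The lattice of a module at a point. -/
noncomputable def lat (G : X.Modules)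
    (e : G.presheaf.stalk (genericPoint X) →ₗ[X.presheaf.stalk (genericPoint X)] V) (y : X) :
    Submodule (X.presheaf.stalk y) V := LinearMap.range (latHom G e y)

theorem mem_lat {G : X.Modules}
    {e : G.presheaf.stalk (genericPoint X) →ₗ[X.presheaf.stalk (genericPoint X)] V} {y : X} {v : V} :
    v ∈ lat G e y ↔ ∃ m, e (G.presheaf.stalkSpecializes (gen y) m) = v := Iff.rfl

theorem latHom_injective {G : X.Modules} (hG : Coh.IsQCoh G) (ht : TorSh.IsTorsionFree G)
    {e : G.presheaf.stalk (genericPoint X) →ₗ[X.presheaf.stalk (genericPoint X)] V} (he : Function.Injective e)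
    (y : X) : Function.Injective (latHom G e y) := he.comp (spec_injective hG ht y)

/-- Every element of the generic stalk is a fraction. -/
theorem exists_smul_spec {G : X.Modules} (hG : Coh.IsQCoh G) (y : X) (t : G.presheaf.stalk (genericPoint X)) :
    ∃ (m : G.presheaf.stalk y) (a : X.presheaf.stalk y), X.presheaf.stalkSpecializes (gen y) a ≠ 0 ∧
      X.presheaf.stalkSpecializes (gen y) a • t = G.presheaf.stalkSpecializes (gen y) m := by
  let _ := specModule G (gen y)
  have h := isLocalizedModule_stalkSpecializes G hG (gen y)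
  obtain ⟨⟨m, a⟩, hma⟩ := h.surj t
  refine ⟨m, a.1, fun h0 => a.2 ?_, hma⟩
  refine (CycB.LocQuot.mem_ker_specMap_iff (gen y) a.1).2 fun hu => ?_
  change IsUnit ((X.presheaf.stalkSpecializes (gen y)).hom a.1) at hu
  have h1 : (X.presheaf.stalkSpecializes (gen y)).hom a.1 = 0 := h0
  rw [h1] at hu
  exact not_isUnit_zero hu

theorem isLat_lat [IsLocallyNoetherian X] {G : X.Modules} (hG : Coh.IsCoh G)
    {e : G.presheaf.stalk (genericPoint X) →ₗ[X.presheaf.stalk (genericPoint X)] V} (he : Function.Surjective e)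
    (y : X) : IsLat (X.presheaf.stalk y) (K := X.functionField) (lat G e y) := by
  constructor
  · have := finite_stalk G hG y
    rw [lat, LinearMap.range_eq_map]
    exact Module.Finite.fg_top.map _
  · rw [eq_top_iff]
    rintro v -
    obtain ⟨t, rfl⟩ := he v
    obtain ⟨m, a, ha, hm⟩ := exists_smul_spec hG.1 y t
    have h1 : e (G.presheaf.stalkSpecializes (gen y) m) ∈
        Submodule.span X.functionField (lat G e y : Set V) := Submodule.subset_span ⟨m, rfl⟩
    have h2 : e t = (show X.functionField from X.presheaf.stalkSpecializes (gen y) a)⁻¹ •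
        e (G.presheaf.stalkSpecializes (gen y) m) := by
      rw [← hm, map_smul]
      exact (inv_smul_smul₀ (α := X.functionField) ha (e t)).symm
    rw [h2]
    exact Submodule.smul_mem _ _ h1

theorem lat_comp {G N : X.Modules} (f : G ⟶ N)
    (e : N.presheaf.stalk (genericPoint X) →ₗ[X.presheaf.stalk (genericPoint X)] V) (y : X) :
    lat G (e.comp (stalkLin f (genericPoint X))) y ≤ lat N e y := by
  rintro _ ⟨m, rfl⟩
  exact ⟨stalkLin f y m, by
    change e (N.presheaf.stalkSpecializes (gen y) (stalkLin f y m)) =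
      e (stalkLin f _ (G.presheaf.stalkSpecializes (gen y) m))
    rw [stalkLin_spec]⟩

/-- The stalk of the cokernel of an inclusion as a quotient of lattices. -/
theorem length_coker {G N : X.Modules} (hN : Coh.IsQCoh N) (ht : TorSh.IsTorsionFree N) (f : G ⟶ N)
    (e : N.presheaf.stalk (genericPoint X) →ₗ[X.presheaf.stalk (genericPoint X)] V) (he : Function.Injective e)
    (y : X) :
    Module.length (X.presheaf.stalk y) ((cokernel f).presheaf.stalk y) =
      Module.length (X.presheaf.stalk y) ((lat N e y) ⧸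
        (lat G (e.comp (stalkLin f (genericPoint X))) y).submoduleOf (lat N e y)) := by
  let Λ := lat N e y
  let Λ' := (lat G (e.comp (stalkLin f (genericPoint X))) y).submoduleOf Λ
  let q : N.presheaf.stalk y →ₗ[X.presheaf.stalk y] (Λ ⧸ Λ') := Λ'.mkQ.comp
    ((latHom N e y).codRestrict Λ fun m => ⟨m, rfl⟩)
  have hq : Function.Surjective q := Λ'.mkQ_surjective.comp fun ⟨v, m, hm⟩ => ⟨m, Subtype.ext hm⟩
  have hker : LinearMap.ker q = LinearMap.ker (stalkLin (cokernel.π f) y) := by
    have hex : LinearMap.ker (stalkLin (cokernel.π f) y) = LinearMap.range (stalkLin f y) := by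
      let S : ShortComplex X.Modules := ShortComplex.mk f (cokernel.π f) (cokernel.condition f)
      have hS : S.Exact := ShortComplex.exact_of_g_is_cokernel _ (cokernelIsCokernel f)
      exact LinearMap.exact_iff.1 (stalkLin_exact S hS y)
    rw [hex]
    ext m
    rw [LinearMap.mem_ker]
    change Λ'.mkQ ((latHom N e y).codRestrict Λ (fun m => ⟨m, rfl⟩) m) = 0 ↔ _
    rw [Submodule.mkQ_apply, Submodule.Quotient.mk_eq_zero]
    constructor
    · rintro ⟨g, hg⟩
      refine ⟨g, latHom_injective hN ht he y ?_⟩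
      refine Eq.trans ?_ hg
      change e (N.presheaf.stalkSpecializes (gen y) (stalkLin f y g)) =
        e (stalkLin f _ (G.presheaf.stalkSpecializes (gen y) g))
      rw [stalkLin_spec]
    · rintro ⟨g, rfl⟩
      refine ⟨g, ?_⟩
      change e (stalkLin f _ (G.presheaf.stalkSpecializes (gen y) g)) =
        e (N.presheaf.stalkSpecializes (gen y) (stalkLin f y g))
      rw [stalkLin_spec]
  have hπ : Function.Surjective (stalkLin (cokernel.π f) y) := stalkLin_surjective _ y
  exact (((stalkLin (cokernel.π f) y).quotKerEquivOfSurjective hπ).symm.trans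
    ((Submodule.quotEquivOfEq _ _ hker.symm).trans (q.quotKerEquivOfSurjective hq))).length_eq

variable {r : ℕ}

section cmp

variable [IsNoetherian X] {G N : X.Modules} (hG : Coh.IsCoh G) (hN : Coh.IsCoh N)
  (ht : TorSh.IsTorsionFree N) (f : G ⟶ N)
  (e : N.presheaf.stalk (genericPoint X) →ₗ[X.presheaf.stalk (genericPoint X)] V) (he : Function.Bijective e)
  (hf : Function.Surjective (stalkLin f (genericPoint X))) (b : Basis (Fin r) X.functionField V)

include hG hN ht he hf

theorem cmp_len [RegOne X] (y : C1 X) : (len y.1 (cokernel f) : ℤ) = idx (X.presheaf.stalk y.1) b (lat N e y.1) -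
    idx (X.presheaf.stalk y.1) b (lat G (e.comp (stalkLin f (genericPoint X))) y.1) := by
  have h1 := isLat_lat hN he.2 y.1
  have h2 := isLat_lat hG (e := e.comp (stalkLin f (genericPoint X))) (he.2.comp hf) y.1
  obtain ⟨h3, -⟩ := idx_length (X.presheaf.stalk y.1) b h2 h1 (lat_comp f e y.1)
  rw [len, length_coker hN.1 ht f e he.1]
  omega

omit b in
theorem cmp_fin : {y : C1 X | lat N e y.1 ≠ lat G (e.comp (stalkLin f (genericPoint X))) y.1}.Finite := by
  have hc : Coh.IsCoh (cokernel f) := isCoh_cokernel f hG.1 hN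
  have hη : genericPoint X ∉ CohB1.support (cokernel f) := notMem_support_cokernel f _ hf
  refine (finite_C1 (isClosed_support hc) hη).subset fun y hy => ?_
  by_contra h
  refine hy (le_antisymm ?_ (lat_comp f e y.1))
  have h1 : Subsingleton ((cokernel f).presheaf.stalk y.1) := not_not.mp h
  have h2 := length_coker hN.1 ht f e he.1 y.1
  rw [Module.length_eq_zero] at h2
  have h3 := Module.length_eq_zero_iff.1 h2.symm
  rw [Submodule.Quotient.subsingleton_iff] at h3
  intro v hv
  have h4 : (⟨v, hv⟩ : lat N e y.1) ∈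
      (lat G (e.comp (stalkLin f (genericPoint X))) y.1).submoduleOf (lat N e y.1) := by
    rw [h3]; trivial
  exact h4

theorem cmp_phi [Mono f] [RegOne X] {φ : X.Modules → ℚ} (hφ : Adt φ) : φ N = φ G + ∑ᶠ y : C1 X,
    (((idx (X.presheaf.stalk y.1) b (lat N e y.1) -
      idx (X.presheaf.stalk y.1) b (lat G (e.comp (stalkLin f (genericPoint X))) y.1) : ℤ)) : ℚ) *
      φ (gm y.1) := by
  have hc : Coh.IsCoh (cokernel f) := isCoh_cokernel f hG.1 hN
  have hη : genericPoint X ∉ CohB1.support (cokernel f) := notMem_support_cokernel f _ hf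
  have h1 := (tor hφ hc hη).eq
  have hS : (ShortComplex.mk f (cokernel.π f) (cokernel.condition f)).ShortExact :=
    { exact := ShortComplex.exact_of_g_is_cokernel _ (cokernelIsCokernel f)
      mono_f := inferInstance
      epi_g := inferInstance }
  have h2 := hφ.add _ hS hG hN hc
  dsimp only at h2
  rw [h2, h1]
  congr 1
  refine finsum_congr fun y => ?_
  rw [← cmp_len hG hN ht f e he hf b y]
  push_cast
  rfl

end cmp

theorem isTorsionFree_cst : TorSh.IsTorsionFree (cst V : X.Modules) := by
  refine isTorsionFree_of_spec_injective fun x => ?_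
  intro a b hab
  refine (stHom_bijective V x).1 ?_
  change ofSky _ ((cst V : X.Modules).presheaf.stalkSpecializes (gen x) a) = ofSky _ _
  rw [hab]

theorem ofSky_injective {N : X.Modules} (i : N ⟶ cst V) [Mono i] : Function.Injective (ofSky i) := by
  intro a b hab
  refine stalkLin_injective i _ ((stHom_bijective V (genericPoint X)).1 ?_)
  rw [stHom_stalkLin, stHom_stalkLin]
  have h : ∀ t : N.presheaf.stalk (genericPoint X), N.presheaf.stalkSpecializes (gen (genericPoint X)) t = t := by
    intro t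
    obtain ⟨U, hU, s, rfl⟩ := N.presheaf.exists_germ_eq t
    exact germ_spec N _ hU s
  rw [h, h, hab]

/-- A common overmodule. -/
theorem exists_common [IsNoetherian X] {G₁ G₂ : X.Modules} (hG₁ : Coh.IsCoh G₁) (hG₂ : Coh.IsCoh G₂)
    (t₁ : TorSh.IsTorsionFree G₁) (t₂ : TorSh.IsTorsionFree G₂)
    (e₁ : G₁.presheaf.stalk (genericPoint X) →ₗ[X.presheaf.stalk (genericPoint X)] V)
    (e₂ : G₂.presheaf.stalk (genericPoint X) →ₗ[X.presheaf.stalk (genericPoint X)] V)
    (h₁ : Function.Bijective e₁) (h₂ : Function.Bijective e₂) :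
    ∃ (N : X.Modules) (e : N.presheaf.stalk (genericPoint X) →ₗ[X.presheaf.stalk (genericPoint X)] V)
      (f₁ : G₁ ⟶ N) (f₂ : G₂ ⟶ N), Coh.IsCoh N ∧ TorSh.IsTorsionFree N ∧ Function.Bijective e ∧ Mono f₁ ∧ Mono f₂ ∧
      e.comp (stalkLin f₁ _) = e₁ ∧ e.comp (stalkLin f₂ _) = e₂ := by
  let F : G₁ ⊞ G₂ ⟶ cst V := biprod.desc (toSky (x := genericPoint X) e₁) (toSky (x := genericPoint X) e₂)
  have hb : Coh.IsCoh (G₁ ⊞ G₂) := isCoh_biprod hG₁ hG₂
  have hk : Coh.IsCoh (kernel F) := isCoh_kernel F hb (isQCoh_cst V)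
  have hN : Coh.IsCoh (Abelian.image F) :=
    isCoh_of_iso (Abelian.coimageIsoImage F) (isCoh_cokernel (kernel.ι F) hk.1 hb)
  have ht : TorSh.IsTorsionFree (Abelian.image F) := isTorsionFree_of_mono (Abelian.image.ι F) isTorsionFree_cst
  have e1 : (biprod.inl ≫ Abelian.factorThruImage F) ≫ Abelian.image.ι F = toSky (x := genericPoint X) e₁ := by
    rw [Category.assoc, Abelian.image.fac, biprod.inl_desc]
  have e2 : (biprod.inr ≫ Abelian.factorThruImage F) ≫ Abelian.image.ι F = toSky (x := genericPoint X) e₂ := by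
    rw [Category.assoc, Abelian.image.fac, biprod.inr_desc]
  have c1 : (ofSky (Abelian.image.ι F)).comp (stalkLin (biprod.inl ≫ Abelian.factorThruImage F) _) = e₁ := by
    rw [← ofSky_comp, e1, ofSky_toSky]
  have c2 : (ofSky (Abelian.image.ι F)).comp (stalkLin (biprod.inr ≫ Abelian.factorThruImage F) _) = e₂ := by
    rw [← ofSky_comp, e2, ofSky_toSky]
  refine ⟨Abelian.image F, ofSky (Abelian.image.ι F), biprod.inl ≫ Abelian.factorThruImage F,
    biprod.inr ≫ Abelian.factorThruImage F, hN, ht, ⟨ofSky_injective _, ?_⟩, ?_, ?_, c1, c2⟩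
  · have := h₁.2
    rw [← c1] at this
    exact Function.Surjective.of_comp this
  · refine mono_of_generic hG₁.1 t₁ _ ?_
    have := h₁.1
    rw [← c1] at this
    exact Function.Injective.of_comp this
  · refine mono_of_generic hG₂.1 t₂ _ ?_
    have := h₂.1
    rw [← c2] at this
    exact Function.Injective.of_comp this

section two

variable [IsNoetherian X] {G₁ G₂ : X.Modules} (hG₁ : Coh.IsCoh G₁) (hG₂ : Coh.IsCoh G₂)
    (t₁ : TorSh.IsTorsionFree G₁) (t₂ : TorSh.IsTorsionFree G₂)
    (e₁ : G₁.presheaf.stalk (genericPoint X) →ₗ[X.presheaf.stalk (genericPoint X)] V)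
    (e₂ : G₂.presheaf.stalk (genericPoint X) →ₗ[X.presheaf.stalk (genericPoint X)] V)
    (h₁ : Function.Bijective e₁) (h₂ : Function.Bijective e₂)

include hG₁ hG₂ t₁ t₂ h₁ h₂

theorem two_fin : {y : C1 X | lat G₁ e₁ y.1 ≠ lat G₂ e₂ y.1}.Finite := by
  obtain ⟨N, e, f₁, f₂, hN, ht, he, -, -, rfl, rfl⟩ := exists_common hG₁ hG₂ t₁ t₂ e₁ e₂ h₁ h₂
  have s₁ : Function.Surjective (stalkLin f₁ (genericPoint X)) := fun n => by
    obtain ⟨m, hm⟩ := h₁.2 (e n)
    exact ⟨m, he.1 hm⟩
  have s₂ : Function.Surjective (stalkLin f₂ (genericPoint X)) := fun n => by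
    obtain ⟨m, hm⟩ := h₂.2 (e n)
    exact ⟨m, he.1 hm⟩
  refine ((cmp_fin hG₁ hN ht f₁ e he s₁).union (cmp_fin hG₂ hN ht f₂ e he s₂)).subset fun y hy => ?_
  by_contra h
  rw [Set.mem_union, not_or] at h
  exact hy ((not_not.mp h.1).symm.trans (not_not.mp h.2))

theorem two_phi [RegOne X] {φ : X.Modules → ℚ} (hφ : Adt φ) (b : Basis (Fin r) X.functionField V) :
    φ G₁ = φ G₂ + ∑ᶠ y : C1 X,
    (((idx (X.presheaf.stalk y.1) b (lat G₁ e₁ y.1) -
      idx (X.presheaf.stalk y.1) b (lat G₂ e₂ y.1) : ℤ)) : ℚ) * φ (gm y.1) := by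
  obtain ⟨N, e, f₁, f₂, hN, ht, he, m₁, m₂, rfl, rfl⟩ := exists_common hG₁ hG₂ t₁ t₂ e₁ e₂ h₁ h₂
  have s₁ : Function.Surjective (stalkLin f₁ (genericPoint X)) := fun n => by
    obtain ⟨m, hm⟩ := h₁.2 (e n)
    exact ⟨m, he.1 hm⟩
  have s₂ : Function.Surjective (stalkLin f₂ (genericPoint X)) := fun n => by
    obtain ⟨m, hm⟩ := h₂.2 (e n)
    exact ⟨m, he.1 hm⟩
  have p₁ := cmp_phi hG₁ hN ht f₁ e he s₁ b hφ
  have p₂ := cmp_phi hG₂ hN ht f₂ e he s₂ b hφ
  have q₁ := cmp_fin hG₁ hN ht f₁ e he s₁
  have q₂ := cmp_fin hG₂ hN ht f₂ e he s₂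
  have h3 : φ G₁ = φ G₂ + (∑ᶠ y : C1 X, (((idx (X.presheaf.stalk y.1) b (lat N e y.1) -
      idx (X.presheaf.stalk y.1) b (lat G₂ (e.comp (stalkLin f₂ _)) y.1) : ℤ)) : ℚ) * φ (gm y.1) -
      ∑ᶠ y : C1 X, (((idx (X.presheaf.stalk y.1) b (lat N e y.1) -
      idx (X.presheaf.stalk y.1) b (lat G₁ (e.comp (stalkLin f₁ _)) y.1) : ℤ)) : ℚ) * φ (gm y.1)) := by
    linarith
  rw [h3, ← finsum_sub_distrib]
  · congr 1
    refine finsum_congr fun y => ?_
    push_cast
    ring
  · refine q₂.subset fun y hy => ?_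
    by_contra h
    refine hy ?_
    dsimp only
    rw [not_not.mp h, sub_self]
    simp
  · refine q₁.subset fun y hy => ?_
    by_contra h
    refine hy ?_
    dsimp only
    rw [not_not.mp h, sub_self]
    simp

end two

section free

open Groth.Agent.Dcoh.FreeSec

variable (b : Basis (Fin r) X.functionField V)

/-- The generic stalk of the free module. -/
noncomputable def freeHom : (FlatMod.freeMod X r).presheaf.stalk (genericPoint X)
    →ₗ[X.presheaf.stalk (genericPoint X)] V :=
  ((stalkFree r (genericPoint X)).symm.trans (b.equivFun.symm : (Fin r → X.functionField) ≃ₗ[X.functionField] V)).toLinearMap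

theorem freeHom_bijective : Function.Bijective (freeHom b) :=
  ((stalkFree r (genericPoint X)).symm.trans
    (b.equivFun.symm : (Fin r → X.functionField) ≃ₗ[X.functionField] V)).bijective

theorem freeHom_spec (y : X) (a : Fin r → X.presheaf.stalk y) :
    freeHom b ((FlatMod.freeMod X r).presheaf.stalkSpecializes (gen y) (stalkFree r y a)) = ∑ j, a j • b j := by
  rw [stalkFree_apply, map_sum, map_sum]
  refine Finset.sum_congr rfl fun j _ => ?_
  rw [spec_smul, map_smul]
  change X.presheaf.stalkSpecializes (gen y) (a j) • freeHom b _ = X.presheaf.stalkSpecializes (gen y) (a j) • b j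
  congr 1
  refine (congrArg (freeHom b) (germ_spec (FlatMod.freeMod X r) (gen y) (U := ⊤) trivial (e X j))).trans ?_
  have h1 : (FlatMod.freeMod X r).presheaf.germ ⊤ (genericPoint X) trivial (e X j) =
      stalkFree r (genericPoint X) (Pi.single j 1) := by
    rw [stalkFree_apply, Finset.sum_eq_single j]
    · rw [Pi.single_eq_same, one_smul]
    · intro i _ hi
      rw [Pi.single_eq_of_ne hi, zero_smul]
    · intro h
      exact absurd (Finset.mem_univ j) h
  rw [h1]
  change (b.equivFun.symm : (Fin r → X.functionField) ≃ₗ[X.functionField] V)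
    ((stalkFree r (genericPoint X)).symm (stalkFree r (genericPoint X) (Pi.single j 1))) = _
  rw [LinearEquiv.symm_apply_apply]
  change b.equivFun.symm (Pi.single j 1) = b j
  rw [LinearEquiv.symm_apply_eq]
  funext i
  rw [Basis.equivFun_self]
  by_cases h : i = j
  · subst h; simp
  · simp [Ne.symm h]

theorem lat_free (y : X) : lat (FlatMod.freeMod X r) (freeHom b) y = sp (X.presheaf.stalk y) b := by
  ext v
  rw [sp, Submodule.mem_span_range_iff_exists_fun]
  constructor
  · rintro ⟨m, rfl⟩
    obtain ⟨a, rfl⟩ := (stalkFree r y).surjective m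
    exact ⟨a, (freeHom_spec b y a).symm⟩
  · rintro ⟨a, rfl⟩
    exact ⟨stalkFree r y a, freeHom_spec b y a⟩

omit [IsIntegral X] in
theorem isTorsionFree_freeMod (r : ℕ) : TorSh.IsTorsionFree (FlatMod.freeMod X r) := by
  intro y
  have := free_stalk_free (X := X) r y
  infer_instance

theorem phi_free [IsNoetherian X] {φ : X.Modules → ℚ} (hφ : Adt φ) (n : ℕ) :
    φ (FlatMod.freeMod X n) = n * φ (Coh.structureModule X) := by
  have hz : ∀ N : X.Modules, IsZero N → φ N = 0 := fun N hN => by
    have h0 : ∀ x, x ∉ CohB1.support N := fun x hx => hx ((isZero_iff_stalk N).1 hN x)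
    exact hφ.zero N (isCoh_of_isZero hN) (h0 _) fun y => h0 _
  have hiso : ∀ {M N : X.Modules}, Coh.IsCoh M → (M ≅ N) → φ M = φ N := fun {M N} hM i => by
    let N0 : X.Modules := FlatMod.freeMod X 0
    have hN0 : IsZero N0 := K848.FreeHp.isZero_freeMod_zero X
    have hS : (ShortComplex.mk i.hom (0 : N ⟶ N0) (by simp)).ShortExact := by
      refine ShortComplex.ShortExact.mk' ?_ inferInstance ⟨fun _ _ _ => hN0.eq_of_src _ _⟩
      rw [ShortComplex.exact_iff_epi _ rfl]
      infer_instance
    have h1 := hφ.add _ hS hM (isCoh_of_iso i hM) (isCoh_of_isZero hN0)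
    dsimp only at h1
    rw [hz _ hN0, add_zero] at h1
    exact h1.symm
  induction n with
  | zero => rw [hz _ (K848.FreeHp.isZero_freeMod_zero X)]; simp
  | succ e ih =>
    obtain ⟨f⟩ := Dcoh.FinLocFree.nonempty_biprod_freeMod_iso X e 1
    have c1 := PerfA.CohSerre.isCoh_freeMod (X := X) e
    have c2 := PerfA.CohSerre.isCoh_freeMod (X := X) 1
    have c3 := Sga67.CohBasic.isCoh_biprod c1 c2
    have h1 := hiso c3 f
    have h2 := hφ.add _ (ShortComplex.Splitting.ofHasBinaryBiproduct (FlatMod.freeMod X e) (FlatMod.freeMod X 1)).shortExact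
      c1 c3 c2
    dsimp only at h2
    have h3 := hiso c2 (Ega2.QCohLocal.freeModOneIso X).symm
    rw [← h1, h2, ih, h3]
    push_cast
    ring

end free

/-- **Almost all the lattices of a torsion-free module are the standard ones.** -/
theorem deg_fin [IsNoetherian X] {G : X.Modules} (hG : Coh.IsCoh G) (t : TorSh.IsTorsionFree G)
    (e : G.presheaf.stalk (genericPoint X) →ₗ[X.presheaf.stalk (genericPoint X)] V) (h : Function.Bijective e)
    (b : Basis (Fin r) X.functionField V) :
    {y : C1 X | lat G e y.1 ≠ sp (X.presheaf.stalk y.1) b}.Finite := by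
  have h1 := two_fin hG (PerfA.CohSerre.isCoh_freeMod r) t (isTorsionFree_freeMod r) e (freeHom b) h (freeHom_bijective b)
  simp only [lat_free] at h1
  exact h1

/-- **The degree formula.** -/
theorem deg_eq [IsNoetherian X] [RegOne X] {φ : X.Modules → ℚ} (hφ : Adt φ) {G : X.Modules} (hG : Coh.IsCoh G)
    (t : TorSh.IsTorsionFree G)
    (e : G.presheaf.stalk (genericPoint X) →ₗ[X.presheaf.stalk (genericPoint X)] V) (h : Function.Bijective e)
    (b : Basis (Fin r) X.functionField V) :
    φ G = r * φ (Coh.structureModule X) +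
      ∑ᶠ y : C1 X, (idx (X.presheaf.stalk y.1) b (lat G e y.1) : ℚ) * φ (gm y.1) := by
  have h1 := two_phi hG (PerfA.CohSerre.isCoh_freeMod r) t (isTorsionFree_freeMod r) e (freeHom b) h
    (freeHom_bijective b) hφ b
  simp only [lat_free, idx_self, sub_zero] at h1
  rw [h1, phi_free hφ]

end lat

end K849.CstDeg
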