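import Groth.Agent.ShStab.K849.DvrLat
import Mathlib.LinearAlgebra.Matrix.SchurComplement
import Mathlib.LinearAlgebra.Quotient.Basic
import Mathlib.LinearAlgebra.Dimension.OrzechProperty

/-!
# Lattices over a discrete valuation ring: monotonicity, exact sequences, scaling
-/

set_option autoImplicit false
universe u v w

open Module

namespace K849.DvrLat

variable (R : Type*) [CommRing R] [IsDomain R] [IsDiscreteValuationRing R] {K : Type*} [Field K] [Algebra R K]
  [IsFractionRing R K] {V : Type*} [AddCommGroup V] [Module K V] [Module R V] [IsScalarTower R K V]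

/-- Lattices. -/
def IsLat (Λ : Submodule R V) : Prop := Λ.FG ∧ Submodule.span K (Λ : Set V) = ⊤

section

variable {ι : Type*} [Fintype ι] [DecidableEq ι]

variable (K) in
omit [IsDomain R] [IsDiscreteValuationRing R] [IsFractionRing R K] [Fintype ι] [DecidableEq ι] in
theorem isLat_sp [Finite ι] (c : Basis ι K V) : IsLat R (K := K) (sp R c) :=
  ⟨Submodule.fg_span (Set.finite_range c), span_sp R c⟩

theorem IsLat.exists_basis {Λ : Submodule R V} (h : IsLat R (K := K) Λ) (b : Basis ι K V) :
    ∃ c : Basis ι K V, Λ = sp R c := DvrLat.exists_basis R b Λ h.1 h.2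

theorem idx_mono {b : Basis ι K V} {Λ Λ' : Submodule R V} (h : IsLat R (K := K) Λ) (h' : IsLat R (K := K) Λ')
    (hle : Λ ≤ Λ') : idx R b Λ ≤ idx R b Λ' := by
  obtain ⟨c, rfl⟩ := h.exists_basis R b
  obtain ⟨c', rfl⟩ := h'.exists_basis R b
  have := (idx_add_length R b c c' hle).1
  omega

theorem eq_of_idx_eq {b : Basis ι K V} {Λ Λ' : Submodule R V} (h : IsLat R (K := K) Λ) (h' : IsLat R (K := K) Λ')
    (hle : Λ ≤ Λ') (hi : idx R b Λ' ≤ idx R b Λ) : Λ = Λ' := by
  obtain ⟨c, rfl⟩ := h.exists_basis R b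
  obtain ⟨c', rfl⟩ := h'.exists_basis R b
  obtain ⟨h1, h2⟩ := idx_add_length R b c c' hle
  have h3 : (Module.length R (sp R c' ⧸ (sp R c).submoduleOf (sp R c'))).toNat = 0 := by omega
  rw [ENat.toNat_eq_zero] at h3
  have h4 := h3.resolve_right h2
  rw [Module.length_eq_zero_iff, Submodule.Quotient.subsingleton_iff] at h4
  refine le_antisymm hle fun v hv => ?_
  have : (⟨v, hv⟩ : sp R c') ∈ (sp R c).submoduleOf (sp R c') := by rw [h4]; trivial
  exact this

/-- The index through the length of the quotient, for lattices. -/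
theorem idx_length (b : Basis ι K V) {Λ Λ' : Submodule R V} (h : IsLat R (K := K) Λ) (h' : IsLat R (K := K) Λ')
    (hle : Λ ≤ Λ') : idx R b Λ + (Module.length R (Λ' ⧸ Λ.submoduleOf Λ')).toNat = idx R b Λ' ∧
      Module.length R (Λ' ⧸ Λ.submoduleOf Λ') ≠ ⊤ := by
  obtain ⟨c, rfl⟩ := h.exists_basis R b
  obtain ⟨c', rfl⟩ := h'.exists_basis R b
  exact idx_add_length R b c c' hle

theorem idx_change' (b b' : Basis ι K V) {Λ : Submodule R V} (h : IsLat R (K := K) Λ) :
    idx R b' Λ = idx R b Λ - ordK R (b'.det b) := by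
  obtain ⟨c, rfl⟩ := h.exists_basis R b
  exact idx_change R b b' c

/-- Transport along a linear equivalence. -/
theorem idx_map {V' : Type*} [AddCommGroup V'] [Module K V'] [Module R V'] [IsScalarTower R K V'] (e : V ≃ₗ[K] V')
    (b : Basis ι K V) {Λ : Submodule R V} (h : IsLat R (K := K) Λ) :
    idx R (b.map e) (Λ.map (e.restrictScalars R).toLinearMap) = idx R b Λ := by
  obtain ⟨c, rfl⟩ := h.exists_basis R b
  have : (sp R c).map (e.restrictScalars R).toLinearMap = sp R (c.map e) := by
    rw [sp, sp, Submodule.map_span, ← Set.range_comp]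
    rfl
  rw [this, idx_sp, idx_sp]
  congr 2
  rw [Basis.det_map]
  congr 1
  funext i
  simp

theorem IsLat.map {V' : Type*} [AddCommGroup V'] [Module K V'] [Module R V'] [IsScalarTower R K V'] (f : V →ₗ[K] V')
    (hf : Function.Surjective f) {Λ : Submodule R V} (h : IsLat R (K := K) Λ) :
    IsLat R (K := K) (Λ.map (f.restrictScalars R)) := by
  refine ⟨h.1.map _, ?_⟩
  rw [eq_top_iff]
  rintro v' -
  obtain ⟨v, rfl⟩ := hf v'
  have h1 : v ∈ Submodule.span K (Λ : Set V) := by rw [h.2]; trivial
  have h2 := Submodule.mem_map_of_mem (f := f) h1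
  rw [Submodule.map_span] at h2
  exact h2

omit [IsDomain R] [IsDiscreteValuationRing R] in
/-- Every vector is a fraction of a vector of a spanning submodule. -/
theorem exists_smul_mem {Λ : Submodule R V} (hs : Submodule.span K (Λ : Set V) = ⊤) (v : V) :
    ∃ r : R, r ∈ nonZeroDivisors R ∧ r • v ∈ Λ := by
  have h1 : v ∈ Submodule.span K (Λ : Set V) := by rw [hs]; trivial
  induction h1 using Submodule.span_induction with
  | mem v hv => exact ⟨1, Submonoid.one_mem _, by rwa [one_smul]⟩
  | zero => exact ⟨1, Submonoid.one_mem _, by rw [smul_zero]; exact Λ.zero_mem⟩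
  | add v w _ _ ihv ihw =>
    obtain ⟨r, hr, hrv⟩ := ihv
    obtain ⟨s, hs, hsw⟩ := ihw
    refine ⟨r * s, Submonoid.mul_mem _ hr hs, ?_⟩
    rw [smul_add]
    refine Λ.add_mem ?_ ?_
    · rw [mul_comm, mul_smul]; exact Λ.smul_mem s hrv
    · rw [mul_smul]; exact Λ.smul_mem r hsw
  | smul a v _ ih =>
    obtain ⟨r, hr, hrv⟩ := ih
    obtain ⟨x, y, rfl⟩ := IsLocalization.exists_mk'_eq (nonZeroDivisors R) a
    refine ⟨y * r, Submonoid.mul_mem _ y.2 hr, ?_⟩
    have h2 : (y : R) • (IsLocalization.mk' K x y • v) = x • v := by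
      rw [← smul_assoc, Algebra.smul_def, mul_comm, IsLocalization.mk'_spec, algebraMap_smul]
    rw [mul_comm, mul_smul, h2, smul_smul, mul_comm, ← smul_smul]
    exact Λ.smul_mem x hrv

theorem IsLat.comap {Λ : Submodule R V} (h : IsLat R (K := K) Λ) (W : Submodule K V) :
    IsLat R (K := K) (Λ.comap (W.subtype.restrictScalars R)) := by
  constructor
  · have h1 : IsNoetherian R Λ := by
      have : Module.Finite R Λ := Module.Finite.iff_fg.2 h.1
      infer_instance
    let f : (Λ.comap (W.subtype.restrictScalars R)) →ₗ[R] Λ :=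
      ((W.subtype.restrictScalars R).comp (Submodule.subtype _)).codRestrict Λ fun v => v.2
    have hf : Function.Injective f := by
      intro v w hvw
      apply Subtype.ext
      apply Subtype.ext
      exact congrArg (fun x : Λ => (x : V)) hvw
    have : Module.Finite R (Λ.comap (W.subtype.restrictScalars R)) := Module.Finite.of_injective f hf
    exact Module.Finite.iff_fg.1 this
  · rw [eq_top_iff]
    rintro w -
    obtain ⟨r, hr, hrw⟩ := exists_smul_mem R h.2 (w : V)
    have h0 : algebraMap R K r ≠ 0 := by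
      intro h1
      exact nonZeroDivisors.ne_zero hr ((map_eq_zero_iff _ (IsFractionRing.injective R K)).1 h1)
    have h1 : (algebraMap R K r) • w ∈ Submodule.span K
        ((Λ.comap (W.subtype.restrictScalars R) : Submodule R W) : Set W) := by
      apply Submodule.subset_span
      rw [algebraMap_smul]
      exact hrw
    have h2 := Submodule.smul_mem _ (algebraMap R K r)⁻¹ h1
    rwa [smul_smul, inv_mul_cancel₀ h0, one_smul] at h2

end

section exact

variable {ι κ : Type*} [Fintype ι] [DecidableEq ι] [Fintype κ] [DecidableEq κ]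

/-- **Additivity of the index.** -/
theorem idx_exact (W : Submodule K V) (bW : Basis ι K W) (bU : Basis κ K (V ⧸ W)) (b : Basis (ι ⊕ κ) K V)
    (h1 : ∀ i, b (Sum.inl i) = bW i) (h2 : ∀ j, W.mkQ (b (Sum.inr j)) = bU j) {Λ : Submodule R V}
    (h : IsLat R (K := K) Λ) :
    idx R b Λ = idx R bW (Λ.comap (W.subtype.restrictScalars R)) + idx R bU (Λ.map (W.mkQ.restrictScalars R)) := by
  obtain ⟨cW, hcW⟩ := (h.comap R W).exists_basis R bW
  obtain ⟨cU, hcU⟩ := (h.map R W.mkQ W.mkQ_surjective).exists_basis R bU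
  have hl : ∀ j, ∃ v ∈ Λ, W.mkQ v = cU j := fun j => by
    have : cU j ∈ Λ.map (W.mkQ.restrictScalars R) := by
      rw [hcU]; exact Submodule.subset_span (Set.mem_range_self j)
    obtain ⟨v, hv, hv'⟩ := this
    exact ⟨v, hv, hv'⟩
  choose l hl hl' using hl
  have hcWm : ∀ i, (cW i : V) ∈ Λ := fun i => by
    have : cW i ∈ Λ.comap (W.subtype.restrictScalars R) := by
      rw [hcW]; exact Submodule.subset_span (Set.mem_range_self i)
    exact this
  let d : ι ⊕ κ → V := Sum.elim (fun i => (cW i : V)) l
  have hspan : Submodule.span R (Set.range d) = Λ := by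
    apply le_antisymm
    · rw [Submodule.span_le]
      rintro _ ⟨i | j, rfl⟩
      · exact hcWm i
      · exact hl j
    · intro v hv
      have h3 : W.mkQ v ∈ Λ.map (W.mkQ.restrictScalars R) := ⟨v, hv, rfl⟩
      rw [hcU, mem_sp_iff] at h3
      obtain ⟨f, hf⟩ := h3
      have h4 : v - ∑ j, f j • l j ∈ W := by
        rw [← W.ker_mkQ, LinearMap.mem_ker, map_sub, hf, sub_eq_zero]
        have : W.mkQ (∑ j, f j • l j) = (W.mkQ.restrictScalars R) (∑ j, f j • l j) := rfl
        rw [this, map_sum]
        refine Finset.sum_congr rfl fun j _ => ?_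
        rw [map_smul, ← hl' j]
        rfl
      have h5 : (⟨v - ∑ j, f j • l j, h4⟩ : W) ∈ Λ.comap (W.subtype.restrictScalars R) :=
        Λ.sub_mem hv (Λ.sum_mem fun j _ => Λ.smul_mem _ (hl j))
      rw [hcW, mem_sp_iff] at h5
      obtain ⟨g, hg⟩ := h5
      have h6 : v - ∑ j, f j • l j = ∑ i, g i • (cW i : V) := by
        have := congrArg (W.subtype.restrictScalars R) hg
        rw [map_sum] at this
        exact this
      have h7 : v = ∑ i, g i • (cW i : V) + ∑ j, f j • l j := by rw [← h6]; abel
      rw [h7]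
      refine Submodule.add_mem _ (Submodule.sum_mem _ fun i _ => Submodule.smul_mem _ _ ?_)
        (Submodule.sum_mem _ fun j _ => Submodule.smul_mem _ _ ?_)
      · exact Submodule.subset_span ⟨Sum.inl i, rfl⟩
      · exact Submodule.subset_span ⟨Sum.inr j, rfl⟩
  have hfin : Module.Finite K V := Module.Finite.of_basis b
  have htop : ⊤ ≤ Submodule.span K (Set.range d) := by
    rw [← h.2, Submodule.span_le]
    intro v hv
    rw [← hspan] at hv
    exact Submodule.span_subset_span R K _ hv
  let c : Basis (ι ⊕ κ) K V := _root_.basisOfTopLeSpanOfCardEqFinrank d htop (Module.finrank_eq_card_basis b).symm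
  have hc : ∀ i, c i = d i := fun i => by simp [c]
  have hΛ : Λ = sp R c := by
    rw [sp, ← hspan]
    congr 1
    ext v
    simp [c]
  have hA : ∀ (w : W) (i : ι), b.repr w (Sum.inl i) = bW.repr w i := by
    intro w i
    have : (w : V) = ∑ i, bW.repr w i • b (Sum.inl i) := by
      conv_lhs => rw [← bW.sum_repr w]
      rw [Submodule.coe_sum]
      exact Finset.sum_congr rfl fun i _ => by rw [h1]; rfl
    rw [this, map_sum, Finset.sum_apply']
    simp [Finsupp.single_apply]
  have hB : ∀ (w : W) (j : κ), b.repr w (Sum.inr j) = 0 := by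
    intro w j
    have : (w : V) = ∑ i, bW.repr w i • b (Sum.inl i) := by
      conv_lhs => rw [← bW.sum_repr w]
      rw [Submodule.coe_sum]
      exact Finset.sum_congr rfl fun i _ => by rw [h1]; rfl
    rw [this, map_sum, Finset.sum_apply']
    simp
  have hD : ∀ (v : V) (j : κ), b.repr v (Sum.inr j) = bU.repr (W.mkQ v) j := by
    intro v j
    conv_rhs => rw [← b.sum_repr v]
    rw [Fintype.sum_sum_type, map_add, map_sum, map_sum]
    have e1 : ∑ x, W.mkQ (b.repr v (Sum.inl x) • b (Sum.inl x)) = 0 := by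
      refine Finset.sum_eq_zero fun i _ => ?_
      rw [map_smul, h1, W.mkQ_apply, (Submodule.Quotient.mk_eq_zero W).2 (bW i).2, smul_zero]
    rw [e1, zero_add]
    simp only [map_smul, h2]
    rw [bU.repr_sum_self]
  have hdet : b.det c = bW.det cW * bU.det cU := by
    rw [Basis.det_apply, Basis.det_apply, Basis.det_apply]
    have : b.toMatrix c = Matrix.fromBlocks (bW.toMatrix cW) (Matrix.of fun i j => b.repr (l j) (Sum.inl i)) 0
        (bU.toMatrix cU) := by
      ext i j
      rcases i with i | i <;> rcases j with j | j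
      · rw [Matrix.fromBlocks_apply₁₁, Basis.toMatrix_apply, Basis.toMatrix_apply, hc]
        exact hA _ _
      · rw [Matrix.fromBlocks_apply₁₂, Basis.toMatrix_apply, hc]
        rfl
      · rw [Matrix.fromBlocks_apply₂₁, Basis.toMatrix_apply, hc]
        exact hB _ _
      · rw [Matrix.fromBlocks_apply₂₂, Basis.toMatrix_apply, Basis.toMatrix_apply, hc, ← hl' j]
        exact hD _ _
    rw [this, Matrix.det_fromBlocks_zero₂₁]
  rw [hcW, hcU, hΛ, idx_sp, idx_sp, idx_sp, hdet, ordK_mul R (det_ne_zero _ _) (det_ne_zero _ _)]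
  ring

end exact

section scale

variable {ι : Type*} [Fintype ι] [DecidableEq ι]

/-- Scaling of a lattice. -/
theorem idx_scale (b : Basis ι K V) (t : K) (ht : t ≠ 0) {Λ : Submodule R V} (h : IsLat R (K := K) Λ) :
    idx R b (Λ.map ((LinearMap.lsmul K V t).restrictScalars R)) = idx R b Λ - Fintype.card ι * ordK R t := by
  obtain ⟨c, rfl⟩ := h.exists_basis R b
  let c' : Basis ι K V := c.map (LinearEquiv.smulOfNeZero K V t ht)
  have h1 : (sp R c).map ((LinearMap.lsmul K V t).restrictScalars R) = sp R c' := by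
    rw [sp, sp, Submodule.map_span, ← Set.range_comp]
    rfl
  have h2 : c.det c' = t ^ Fintype.card ι := by
    rw [Basis.det_apply]
    have : c.toMatrix c' = Matrix.diagonal fun _ => t := by
      ext i j
      rw [Basis.toMatrix_apply, Matrix.diagonal_apply]
      have : c' j = t • c j := rfl
      rw [this, map_smul, c.repr_self]
      by_cases hij : i = j
      · subst hij; simp
      · simp [hij, Finsupp.single_apply, Ne.symm hij]
    rw [this, Matrix.det_diagonal, Finset.prod_const, Finset.card_univ]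
  rw [h1, idx_sp, idx_sp, ← ordK_det_add R b c c', h2, ordK_pow R ht]
  ring

end scale

end K849.DvrLat
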