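import Groth.Agent.ShStab.K849.Cst
import Groth.Agent.ShStab.K849.DvrLat2
import Groth.Agent.S0819
import Groth.Agent.ShStab.K848.HB

/-!
# The torsion formula: additive functions vanishing in codimension two
-/

set_option autoImplicit false
universe u
open CategoryTheory CategoryTheory.Limits AlgebraicGeometry Opposite TopologicalSpace

namespace K849.CstTor

open Groth.Agent Groth.Agent.CycB.StalkExact Groth.Agent.VarietyB.ExactLoc Groth.Agent.Ega3B.Devissage
open K848.TF K849.Cst

variable {X : Scheme.{u}}

/-- The points of codimension one. -/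
abbrev C1 (X : Scheme.{u}) := {y : X // ringKrullDim (X.presheaf.stalk y) = 1}

section pts

variable [IsIntegral X]

theorem eq_of_specializes_of_dim_one {ξ ζ : X}
    (hdim : ringKrullDim (X.presheaf.stalk ξ) = 1) (h : ζ ⤳ ξ) (hne : ζ ≠ genericPoint X) : ζ = ξ := by
  by_contra hcon
  have h1 : ξ < ζ := by
    rw [lt_iff_le_not_ge]
    exact ⟨h, fun h' => hcon (Specializes.antisymm h h').eq⟩
  have h2 : ζ < (⊤ : X) := by
    rw [lt_iff_le_not_ge]
    exact ⟨le_top, fun h' => hne (Specializes.antisymm h' (genericPoint_specializes ζ)).eq⟩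
  rw [ringKrullDim_stalk_eq_coheight] at hdim
  have h3 : Order.coheight ξ = 1 := by exact_mod_cast hdim
  have h4 : (2 : ℕ∞) ≤ Order.coheight ξ := by
    let p : LTSeries X := ((RelSeries.singleton _ (⊤ : X)).cons ζ (by simpa using h2)).cons ξ
      (by rw [RelSeries.head_cons]; exact h1)
    have h5 : ξ ≤ p.head := le_of_eq (by simp only [p, RelSeries.head_cons])
    have := Order.length_le_coheight h5
    simpa [p] using this
  rw [h3] at h4
  exact absurd h4 (by decide)

theorem dim_gen : ringKrullDim (X.presheaf.stalk (genericPoint X)) = 0 := by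
  have hf : IsField (X.presheaf.stalk (genericPoint X)) := Field.toIsField X.functionField
  let _ := hf.toField
  exact ringKrullDim_eq_zero_of_field (X.presheaf.stalk (genericPoint X))

theorem ne_gen (y : C1 X) : y.1 ≠ genericPoint X := by
  intro h
  have h1 := y.2
  rw [h, dim_gen] at h1
  exact zero_ne_one h1

theorem C1.eq_of_specializes {y y' : C1 X} (h : y.1 ⤳ y'.1) : y = y' :=
  Subtype.ext (eq_of_specializes_of_dim_one y'.2 h (ne_gen y))

theorem finite_C1 [IsNoetherian X] {T : Set X} (hT : IsClosed T) (h : genericPoint X ∉ T) :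
    {y : C1 X | y.1 ∈ T}.Finite := by
  obtain ⟨S, hS, hc, hi, hST⟩ := NoetherianSpace.exists_finite_set_isClosed_irreducible hT
  refine Set.Finite.of_finite_image (f := fun y : C1 X => closure {y.1}) (hS.subset ?_) ?_
  · rintro _ ⟨y, hy, rfl⟩
    rw [Set.mem_ofPred_eq, hST] at hy
    obtain ⟨t, ht, hyt⟩ := hy
    have hz := (hi t ht).isGenericPoint_genericPoint (hc t ht)
    have h1 : (hi t ht).genericPoint ⤳ y.1 := by
      rw [specializes_iff_mem_closure, hz.def]
      exact hyt
    have h2 : (hi t ht).genericPoint ∈ T := by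
      rw [hST]
      exact ⟨t, ht, hz.mem⟩
    have h3 : (hi t ht).genericPoint = y.1 := eq_of_specializes_of_dim_one y.2 h1 fun h0 => h (h0 ▸ h2)
    dsimp only
    rw [← h3, hz.def]
    exact ht
  · intro y _ y' _ hyy
    have h1 : y.1 ⤳ y'.1 := by
      rw [specializes_iff_mem_closure]
      have h2 : closure {y.1} = closure {y'.1} := hyy
      rw [h2]
      exact subset_closure rfl
    exact C1.eq_of_specializes h1

end pts

section gm

theorem exists_gm (y : X) : ∃ G : X.Modules, Coh.IsCoh G ∧ CohB1.support G ⊆ closure {y} ∧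
    IsSimpleModule (X.presheaf.stalk y) (G.presheaf.stalk y) := by
  obtain ⟨Z, i, hi, hZ, hr⟩ := Groth.Agent.CohqB.DevGeom.exists_integral (closure {y}) isClosed_closure
    isIrreducible_singleton.closure
  have hyi : i (genericPoint Z) = y := by
    have h1 := Groth.Agent.CohqB.DevGeom.closure_image_genericPoint i
    rw [hr] at h1
    have h2 : i (genericPoint Z) ⤳ y := by
      rw [specializes_iff_mem_closure, h1]; exact subset_closure rfl
    have h3 : y ⤳ i (genericPoint Z) := by
      rw [specializes_iff_mem_closure, ← h1]; exact subset_closure rfl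
    exact (h2.antisymm h3).eq
  have hcoh := Groth.Agent.CurvesB.UnitCoh.isCoh_structureModule Z
  refine ⟨(Coh.push i).obj (Coh.structureModule Z), ?_, ?_, ?_⟩
  · exact ⟨Groth.Agent.Ega3B.DevQC.isQCoh_push i hcoh.1,
        Groth.Agent.CohqA.AffPush.isFT_push i _ hcoh.1 hcoh.2⟩
  · exact (Groth.Agent.CohqB.DevSimple.support_push_subset_range i _).trans hr.subset
  · rw [← hyi]
    exact S0819.isSimpleModule_push_structureModule i

/-- A coherent module supported in the closure of `y`, with simple stalk at `y`. -/
noncomputable def gm (y : X) : X.Modules := (exists_gm y).choose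

theorem isCoh_gm (y : X) : Coh.IsCoh (gm y) := (exists_gm y).choose_spec.1

theorem support_gm (y : X) : CohB1.support (gm y) ⊆ closure {y} := (exists_gm y).choose_spec.2.1

instance isSimple_gm (y : X) : IsSimpleModule (X.presheaf.stalk y) ((gm y).presheaf.stalk y) :=
  (exists_gm y).choose_spec.2.2

end gm

/-- The length of the stalk. -/
noncomputable def len (y : X) (M : X.Modules) : ℕ := (Module.length (X.presheaf.stalk y) (M.presheaf.stalk y)).toNat

theorem len_eq_zero {y : X} {M : X.Modules} (h : y ∉ CohB1.support M) : len y M = 0 := by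
  have h1 : Subsingleton (M.presheaf.stalk y) := not_not.mp h
  rw [len, Module.length_eq_zero]
  rfl

theorem length_shortExact {S : ShortComplex X.Modules} (hS : S.ShortExact) (y : X) :
    Module.length (X.presheaf.stalk y) (S.X₂.presheaf.stalk y) =
      Module.length (X.presheaf.stalk y) (S.X₁.presheaf.stalk y) +
        Module.length (X.presheaf.stalk y) (S.X₃.presheaf.stalk y) := by
  have := hS.mono_f
  have := hS.epi_g
  exact Module.length_eq_add_of_exact (stalkLin S.f y) (stalkLin S.g y) (stalkLin_injective S.f y)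
    (stalkLin_surjective S.g y) (stalkLin_exact S hS.exact y)

section tor

variable [IsIntegral X] [IsNoetherian X]

/-- Additive functions vanishing in codimension two. -/
structure Adt (φ : X.Modules → ℚ) : Prop where
  add : ∀ S : ShortComplex X.Modules, S.ShortExact → Coh.IsCoh S.X₁ → Coh.IsCoh S.X₂ → Coh.IsCoh S.X₃ →
    φ S.X₂ = φ S.X₁ + φ S.X₃
  zero : ∀ G, Coh.IsCoh G → genericPoint X ∉ CohB1.support G → (∀ y : C1 X, y.1 ∉ CohB1.support G) → φ G = 0

/-- The formula for torsion modules. -/
structure Tor (φ : X.Modules → ℚ) (M : X.Modules) : Prop where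
  fin : ∀ y : C1 X, Module.length (X.presheaf.stalk y.1) (M.presheaf.stalk y.1) ≠ ⊤
  eq : φ M = ∑ᶠ y : C1 X, (len y.1 M : ℚ) * φ (gm y.1)

theorem sum_add (φ : X.Modules → ℚ) {S : ShortComplex X.Modules} (hS : S.ShortExact) (h2 : Coh.IsCoh S.X₂)
    (hη : genericPoint X ∉ CohB1.support S.X₂)
    (hfin : ∀ y : C1 X, Module.length (X.presheaf.stalk y.1) (S.X₂.presheaf.stalk y.1) ≠ ⊤) :
    ∑ᶠ y : C1 X, (len y.1 S.X₂ : ℚ) * φ (gm y.1) =
      ∑ᶠ y : C1 X, (len y.1 S.X₁ : ℚ) * φ (gm y.1) + ∑ᶠ y : C1 X, (len y.1 S.X₃ : ℚ) * φ (gm y.1) := by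
  have hm := hS.mono_f
  have he := hS.epi_g
  have hF := finite_C1 (isClosed_support h2) hη
  rw [← finsum_add_distrib]
  · refine finsum_congr fun y => ?_
    rw [← add_mul]
    congr 1
    have h1 := length_shortExact hS y.1
    have h3 := hfin y
    rw [h1, ne_eq, ENat.add_eq_top, not_or] at h3
    rw [len, len, len, h1, ENat.toNat_add h3.1 h3.2]
    push_cast
    rfl
  · refine hF.subset fun y hy => ?_
    by_contra h
    refine hy ?_
    dsimp only
    rw [len_eq_zero (fun h' => h (support_subset_of_mono S.f h'))]
    simp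
  · refine hF.subset fun y hy => ?_
    by_contra h
    refine hy ?_
    dsimp only
    rw [len_eq_zero (fun h' => h (support_subset_of_epi S.g h'))]
    simp

/-- **The torsion formula.** -/
theorem tor {φ : X.Modules → ℚ} (hφ : Adt φ) {M : X.Modules} (hM : Coh.IsCoh M)
    (hη : genericPoint X ∉ CohB1.support M) : Tor φ M := by
  refine devissage (CohB1.support M) (isClosed_support hM) (Tor φ) ?_ ?_ ?_ M hM subset_rfl
  · intro N hN
    have h0 : CohB1.support N = ∅ := by
      rw [Set.eq_empty_iff_forall_notMem]
      intro x hx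
      exact hx ((isZero_iff_stalk N).1 hN x)
    have hc := Groth.Agent.Sga67.CohBasic.isCoh_of_isZero hN
    refine ⟨fun y => ?_, ?_⟩
    · have : Subsingleton (N.presheaf.stalk y.1) := (isZero_iff_stalk N).1 hN y.1
      rw [Module.length_eq_zero]
      exact ENat.zero_ne_top
    · rw [hφ.zero N hc (by rw [h0]; exact id) (fun y => by rw [h0]; exact id)]
      refine (finsum_eq_zero_of_forall_eq_zero fun y => ?_).symm
      rw [len_eq_zero (by rw [h0]; exact id)]
      simp
  · intro S hS h1 h2 h3 hT
    have hη' : genericPoint X ∉ CohB1.support S.X₂ := fun h => hη (hT h)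
    have hadd := hφ.add S hS h1 h2 h3
    refine ⟨fun t1 t2 => ?_, fun t1 t3 => ?_, fun t2 t3 => ?_⟩
    · have hs := sum_add φ hS h2 hη' t2.fin
      refine ⟨fun y h => ?_, ?_⟩
      · apply t2.fin y
        rw [length_shortExact hS, h, add_top]
      · have e1 := t1.eq
        have e2 := t2.eq
        linarith
    · have hfin : ∀ y : C1 X, Module.length (X.presheaf.stalk y.1) (S.X₂.presheaf.stalk y.1) ≠ ⊤ := fun y => by
        rw [length_shortExact hS, ne_eq, ENat.add_eq_top, not_or]
        exact ⟨t1.fin y, t3.fin y⟩
      have hs := sum_add φ hS h2 hη' hfin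
      refine ⟨hfin, ?_⟩
      have e1 := t1.eq
      have e3 := t3.eq
      linarith
    · have hs := sum_add φ hS h2 hη' t2.fin
      refine ⟨fun y h => ?_, ?_⟩
      · apply t2.fin y
        rw [length_shortExact hS, h, top_add]
      · have e3 := t3.eq
        have e2 := t2.eq
        linarith
  · intro y hy
    refine ⟨gm y, isCoh_gm y, ?_, support_gm y, inferInstance⟩
    have hyη : y ≠ genericPoint X := fun h => hη (h ▸ hy)
    have key : ∀ y' : C1 X, y'.1 ∈ CohB1.support (gm y) → y = y'.1 := fun y' h => by
      have h1 : y ⤳ y'.1 := by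
        rw [specializes_iff_mem_closure]
        exact support_gm y h
      exact eq_of_specializes_of_dim_one y'.2 h1 hyη
    have hgη : genericPoint X ∉ CohB1.support (gm y) := fun h => hyη (by
      have h1 : y ⤳ genericPoint X := by
        rw [specializes_iff_mem_closure]
        exact support_gm y h
      exact (h1.antisymm (gen y)).eq)
    by_cases hc : ringKrullDim (X.presheaf.stalk y) = 1
    · have hlen : len y (gm y) = 1 := by
        rw [len, Module.length_eq_one]
        rfl
      refine ⟨fun y' => ?_, ?_⟩
      · by_cases h : y'.1 ∈ CohB1.support (gm y)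
        · have h1 := key y' h
          obtain ⟨y', hy'⟩ := y'
          dsimp only at h1
          subst h1
          rw [Module.length_eq_one]
          exact ENat.one_ne_top
        · have : Subsingleton ((gm y).presheaf.stalk y'.1) := not_not.mp h
          rw [Module.length_eq_zero]
          exact ENat.zero_ne_top
      · rw [finsum_eq_single _ (⟨y, hc⟩ : C1 X)]
        · rw [hlen]
          simp
        · intro y' hne
          rw [len_eq_zero fun h => hne (Subtype.ext (key y' h).symm)]
          simp
    · have hno : ∀ y' : C1 X, y'.1 ∉ CohB1.support (gm y) := fun y' h => hc (by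
        rw [key y' h]
        exact y'.2)
      refine ⟨fun y' => ?_, ?_⟩
      · have : Subsingleton ((gm y).presheaf.stalk y'.1) := not_not.mp (hno y')
        rw [Module.length_eq_zero]
        exact ENat.zero_ne_top
      · rw [hφ.zero _ (isCoh_gm y) hgη hno]
        refine (finsum_eq_zero_of_forall_eq_zero fun y' => ?_).symm
        rw [len_eq_zero (hno y')]
        simp

end tor

end K849.CstTor
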