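import Mathlib.RingTheory.OrderOfVanishing.Noetherian
import Mathlib.LinearAlgebra.FreeModule.Finite.Quotient
import Mathlib.LinearAlgebra.Determinant
import Mathlib.RingTheory.Localization.Module
import Mathlib.RingTheory.Length

/-!
# Lattices over a discrete valuation ring

`R` a discrete valuation ring with fraction field `K`, `V` a finite dimensional `K`-space, `b` a basis of `V`.
* `ordK R x : ℤ`: the normalized valuation.
* `idx R b Λ : ℤ`: the index of a lattice `Λ ⊂ V` relative to the lattice spanned by `b`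
  (larger lattices have larger index).
-/

set_option autoImplicit false
universe u v w

open Module

namespace K849.DvrLat

section ord

variable (R : Type*) [CommRing R] [IsDomain R] [IsDiscreteValuationRing R] {K : Type*} [Field K] [Algebra R K]
  [IsFractionRing R K]

/-- The normalized valuation of the fraction field (with value `0` at `0`). -/
noncomputable def ordK (x : K) : ℤ := WithZero.log (Ring.ordFrac R x)

theorem ordFrac_ne_zero {x : K} (hx : x ≠ 0) : Ring.ordFrac R x ≠ 0 := by
  rwa [Ne, map_eq_zero]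

theorem ordK_mul {x y : K} (hx : x ≠ 0) (hy : y ≠ 0) : ordK R (x * y) = ordK R x + ordK R y := by
  unfold ordK
  rw [map_mul, WithZero.log_mul (ordFrac_ne_zero R hx) (ordFrac_ne_zero R hy)]

@[simp] theorem ordK_one : ordK R (1 : K) = 0 := by
  unfold ordK
  rw [map_one, WithZero.log_one]

theorem ordK_inv (x : K) : ordK R x⁻¹ = -ordK R x := by
  by_cases hx : x = 0
  · subst hx
    simp [ordK]
  · have h := ordK_mul R hx (inv_ne_zero hx)
    rw [mul_inv_cancel₀ hx, ordK_one] at h
    omega

theorem ordK_pow {x : K} (hx : x ≠ 0) (n : ℕ) : ordK R (x ^ n) = n * ordK R x := by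
  induction n with
  | zero => simp
  | succ n ih => rw [pow_succ, ordK_mul R (pow_ne_zero n hx) hx, ih]; push_cast; ring

theorem ordK_prod {ι : Type*} (s : Finset ι) (x : ι → K) (hx : ∀ i ∈ s, x i ≠ 0) :
    ordK R (∏ i ∈ s, x i) = ∑ i ∈ s, ordK R (x i) := by
  classical
  induction s using Finset.induction_on with
  | empty => simp
  | insert a s ha ih =>
    rw [Finset.prod_insert ha, Finset.sum_insert ha, ordK_mul R (hx a (Finset.mem_insert_self a s))
      (Finset.prod_ne_zero_iff.2 fun i hi => hx i (Finset.mem_insert_of_mem hi)),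
      ih fun i hi => hx i (Finset.mem_insert_of_mem hi)]

theorem ordK_algebraMap {r : R} (hr : r ≠ 0) : ordK R (algebraMap R K r) = ((Ring.ord R r).toNat : ℤ) := by
  unfold ordK
  rw [Ring.ordFrac_eq_ord R hr]
  have hr' := mem_nonZeroDivisors_of_ne_zero hr
  obtain ⟨m, hm⟩ := ENat.ne_top_iff_exists.mp (Ring.ord_ne_top hr')
  rw [Ring.ordMonoidWithZeroHom_eq_coe _ hr' hm.symm, ← hm]
  rfl

theorem ordK_nonneg_iff {x : K} (hx : x ≠ 0) : 0 ≤ ordK R x ↔ ∃ r : R, algebraMap R K r = x := by
  constructor
  · intro h
    have h1 : (1 : WithZero (Multiplicative ℤ)) ≤ Ring.ordFrac R x := by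
      rw [← WithZero.log_le_log one_ne_zero (ordFrac_ne_zero R hx), WithZero.log_one]
      exact h
    rw [Ring.ordFrac_eq_valuation_inv] at h1
    have h0 : ((IsDiscreteValuationRing.maximalIdeal R).valuation K) x ≠ 0 := by
      rwa [Ne, map_eq_zero]
    have h2 : ((IsDiscreteValuationRing.maximalIdeal R).valuation K) x ≤ 1 := by
      rwa [one_le_inv₀ (by rwa [WithZero.pos_iff_ne_zero])] at h1
    exact IsDiscreteValuationRing.exists_lift_of_le_one h2
  · rintro ⟨r, rfl⟩
    have hr : r ≠ 0 := by
      rintro rfl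
      exact hx (map_zero _)
    rw [ordK_algebraMap R hr]
    positivity

theorem ordK_unit (r : Rˣ) : ordK R (algebraMap R K (r : R)) = 0 := by
  unfold ordK
  rw [Ring.ordFrac_of_isUnit r.isUnit, WithZero.log_one]

theorem exists_unit_of_ordK_eq_zero {x : K} (hx : x ≠ 0) (h : ordK R x = 0) : ∃ r : Rˣ, algebraMap R K (r : R) = x := by
  obtain ⟨r, hr⟩ := (ordK_nonneg_iff R hx).1 h.ge
  obtain ⟨s, hs⟩ := (ordK_nonneg_iff R (inv_ne_zero hx)).1 (by rw [ordK_inv, h, neg_zero])
  have h1 : r * s = 1 := by
    apply IsFractionRing.injective R K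
    rw [map_mul, hr, hs, mul_inv_cancel₀ hx, map_one]
  exact ⟨⟨r, s, h1, by rw [mul_comm, h1]⟩, hr⟩

/-- Elements of equal order differ by a unit; elements of larger order are multiples. -/
theorem exists_smul_of_ordK_le {x y : K} (hx : x ≠ 0) (hy : y ≠ 0) (h : ordK R x ≤ ordK R y) : ∃ r : R, r • x = y := by
  obtain ⟨r, hr⟩ := (ordK_nonneg_iff R (div_ne_zero hy hx)).1 (by
    rw [div_eq_mul_inv, ordK_mul R hy (inv_ne_zero hx), ordK_inv]; omega)
  exact ⟨r, by rw [Algebra.smul_def, hr, div_mul_cancel₀ _ hx]⟩

theorem ordK_add {x y : K} (h : x + y ≠ 0) : min (ordK R x) (ordK R y) ≤ ordK R (x + y) ∨ x = 0 ∨ y = 0 := by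
  by_cases hx : x = 0
  · exact Or.inr (Or.inl hx)
  by_cases hy : y = 0
  · exact Or.inr (Or.inr hy)
  left
  have h1 := Ring.ordFrac_add (R := R) x y h
  rcases le_total (Ring.ordFrac R x) (Ring.ordFrac R y) with h2 | h2
  · rw [min_eq_left h2] at h1
    have h3 := (WithZero.log_le_log (ordFrac_ne_zero R hx) (ordFrac_ne_zero R h)).2 h1
    exact (min_le_left _ _).trans h3
  · rw [min_eq_right h2] at h1
    have h3 := (WithZero.log_le_log (ordFrac_ne_zero R hy) (ordFrac_ne_zero R h)).2 h1
    exact (min_le_right _ _).trans h3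

end ord

section idx

variable (R : Type*) [CommRing R] [IsDomain R] [IsDiscreteValuationRing R] {K : Type*} [Field K] [Algebra R K]
  [IsFractionRing R K] {V : Type*} [AddCommGroup V] [Module K V] [Module R V] [IsScalarTower R K V]
  {ι : Type*} [Fintype ι] [DecidableEq ι]

/-- The `R`-lattice spanned by a basis. -/
def sp (c : Basis ι K V) : Submodule R V := Submodule.span R (Set.range c)

theorem mem_sp_iff (c : Basis ι K V) (v : V) : v ∈ sp R c ↔ ∃ f : ι → R, v = ∑ i, f i • c i := by
  rw [sp, Submodule.mem_span_range_iff_exists_fun]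
  exact exists_congr fun f => eq_comm

theorem mem_sp (c : Basis ι K V) (v : V) : v ∈ sp R c ↔ ∀ i, ∃ r : R, algebraMap R K r = c.repr v i := by
  rw [mem_sp_iff]
  constructor
  · rintro ⟨f, rfl⟩ i
    refine ⟨f i, ?_⟩
    rw [map_sum, Finset.sum_apply']
    have : ∀ j, (c.repr (f j • c j)) i = if j = i then algebraMap R K (f j) else 0 := by
      intro j
      rw [← algebraMap_smul K (f j) (c j), map_smul, c.repr_self]
      by_cases h : j = i
      · subst h; simp [Algebra.algebraMap_eq_smul_one]
      · simp [h]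
    simp [this]
  · intro h
    choose f hf using h
    refine ⟨f, ?_⟩
    conv_lhs => rw [← c.sum_repr v]
    refine Finset.sum_congr rfl fun i _ => ?_
    rw [← hf i, algebraMap_smul]

/-- The change of basis matrix of an inclusion of lattices is integral. -/
theorem exists_matrix {c c' : Basis ι K V} (h : sp R c ≤ sp R c') :
    ∃ M : Matrix ι ι R, M.map (algebraMap R K) = c'.toMatrix c := by
  have h1 : ∀ j i, ∃ r : R, algebraMap R K r = c'.repr (c j) i := fun j => (mem_sp R c' (c j)).1
    (h (Submodule.subset_span (Set.mem_range_self j)))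
  choose f hf using h1
  refine ⟨Matrix.of fun i j => f j i, ?_⟩
  ext i j
  simp [Basis.toMatrix_apply, hf]

theorem det_ne_zero (b c : Basis ι K V) : b.det c ≠ 0 := (b.isUnit_det c).ne_zero

theorem ordK_det_nonneg {c c' : Basis ι K V} (h : sp R c ≤ sp R c') : 0 ≤ ordK R (c'.det c) := by
  obtain ⟨M, hM⟩ := exists_matrix R h
  rw [ordK_nonneg_iff R (det_ne_zero c' c), Basis.det_apply, ← hM]
  exact ⟨M.det, (RingHom.map_det _ _)⟩

theorem det_mul_det (b c d : Basis ι K V) : b.det c * c.det d = b.det d := by
  rw [Basis.det_apply, Basis.det_apply, Basis.det_apply, ← Matrix.det_mul, Basis.toMatrix_mul_toMatrix]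

theorem ordK_det_add (b c d : Basis ι K V) : ordK R (b.det c) + ordK R (c.det d) = ordK R (b.det d) := by
  rw [← ordK_mul R (det_ne_zero b c) (det_ne_zero c d), det_mul_det]

theorem ordK_det_eq {c c' : Basis ι K V} (h : sp R c = sp R c') : ordK R (c'.det c) = 0 := by
  have h1 := ordK_det_nonneg R h.le
  have h2 := ordK_det_nonneg R h.ge
  have h3 := ordK_det_add R c c' c
  rw [Basis.det_self, ordK_one] at h3
  omega

open Classical in
/-- The index of a lattice relative to a basis. -/
noncomputable def idx (b : Basis ι K V) (Λ : Submodule R V) : ℤ :=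
  if h : ∃ c : Basis ι K V, Λ = sp R c then -ordK R (b.det h.choose) else 0

theorem idx_sp (b c : Basis ι K V) : idx R b (sp R c) = -ordK R (b.det c) := by
  have h : ∃ c' : Basis ι K V, sp R c = sp R c' := ⟨c, rfl⟩
  rw [idx, dif_pos h]
  have h1 := ordK_det_eq R h.choose_spec
  have h2 := ordK_det_add R b h.choose c
  omega

theorem idx_self (b : Basis ι K V) : idx R b (sp R b) = 0 := by
  rw [idx_sp, Basis.det_self, ordK_one, neg_zero]

theorem idx_change (b b' c : Basis ι K V) : idx R b' (sp R c) = idx R b (sp R c) - ordK R (b'.det b) := by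
  rw [idx_sp, idx_sp, ← ordK_det_add R b' b c]
  ring

omit [IsDomain R] [IsDiscreteValuationRing R] [Fintype ι] [DecidableEq ι] in
/-- An `R`-basis of a spanning submodule is a `K`-basis. -/
theorem exists_of_basis {κ : Type*} {Λ : Submodule R V} (c0 : Basis κ R Λ) (hs : Submodule.span K (Λ : Set V) = ⊤) :
    ∃ c : Basis κ K V, (∀ i, c i = c0 i) ∧ Submodule.span R (Set.range c) = Λ := by
  have hli : LinearIndependent R (fun i => (c0 i : V)) := c0.linearIndependent.map' Λ.subtype Λ.ker_subtype
  have hli' : LinearIndependent K (fun i => (c0 i : V)) := (LinearIndependent.iff_fractionRing R K).1 hli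
  have hspan : Submodule.span R (Set.range fun i => (c0 i : V)) = Λ := by
    have h5 := c0.span_eq
    have h6 := congrArg (Submodule.map Λ.subtype) h5
    rw [Submodule.map_span, Submodule.map_top, Submodule.range_subtype, ← Set.range_comp] at h6
    exact h6
  have hspan' : ⊤ ≤ Submodule.span K (Set.range fun i => (c0 i : V)) := by
    rw [← hs, Submodule.span_le]
    intro v hv
    rw [← hspan] at hv
    exact Submodule.span_subset_span R K _ hv
  refine ⟨Basis.mk hli' hspan', fun i => by simp, ?_⟩
  conv_rhs => rw [← hspan]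
  rw [Basis.coe_mk]

/-- A finitely generated submodule spanning `V` is a lattice. -/
theorem exists_basis (b : Basis ι K V) (Λ : Submodule R V) (hfg : Λ.FG) (hs : Submodule.span K (Λ : Set V) = ⊤) :
    ∃ c : Basis ι K V, Λ = sp R c := by
  have h1 : Module.Finite R Λ := Module.Finite.iff_fg.2 hfg
  have h2 : Module.IsTorsionFree R V := Module.IsTorsionFree.of_smul_eq_zero fun r v h => by
    rw [← algebraMap_smul K r v, smul_eq_zero] at h
    rcases h with h | h
    · left
      exact (map_eq_zero_iff _ (IsFractionRing.injective R K)).1 h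
    · exact Or.inr h
  have h3 : Module.Free R Λ := inferInstance
  obtain ⟨c, -, hc⟩ := exists_of_basis R (Module.Free.chooseBasis R Λ) hs
  exact ⟨c.reindex (c.indexEquiv b), by rw [sp, Basis.range_reindex, hc]⟩

omit [IsDomain R] [IsDiscreteValuationRing R] [IsFractionRing R K] [Fintype ι] [DecidableEq ι] in
theorem span_sp (c : Basis ι K V) : Submodule.span K (sp R c : Set V) = ⊤ := by
  rw [sp, Submodule.span_span_of_tower, c.span_eq]

/-- The index of a smaller lattice, through the length of the quotient. -/
theorem idx_add_length (b c c' : Basis ι K V) (h : sp R c ≤ sp R c') :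
    idx R b (sp R c) + (Module.length R (sp R c' ⧸ (sp R c).submoduleOf (sp R c'))).toNat = idx R b (sp R c') ∧
      Module.length R (sp R c' ⧸ (sp R c).submoduleOf (sp R c')) ≠ ⊤ := by
  have hli : LinearIndependent R c' := (LinearIndependent.iff_fractionRing R K).2 c'.linearIndependent
  have hli2 : LinearIndependent R c := (LinearIndependent.iff_fractionRing R K).2 c.linearIndependent
  let β : Basis ι R (sp R c') := Basis.span hli
  let γ : Basis ι R (sp R c) := Basis.span hli2
  let N := (sp R c).submoduleOf (sp R c')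
  let e : N ≃ₗ[R] sp R c := Submodule.submoduleOfEquivOfLe h
  have hrank : Module.finrank R N = Module.finrank R (sp R c') := by
    rw [e.finrank_eq, Module.finrank_eq_card_basis β, Module.finrank_eq_card_basis γ]
  let a := Submodule.smithNormalFormCoeffs β hrank
  let β' := Submodule.smithNormalFormTopBasis β hrank
  let γ' := Submodule.smithNormalFormBotBasis β hrank
  have hdef : ∀ i, ((γ' i : sp R c')) = a i • β' i := Submodule.smithNormalFormBotBasis_def β hrank
  obtain ⟨d', hd', hd'2⟩ := exists_of_basis R β' (span_sp R c')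
  obtain ⟨d, hd, hd2⟩ := exists_of_basis R (γ'.map e) (span_sp R c)
  have hdd : ∀ i, d i = algebraMap R K (a i) • d' i := by
    intro i
    rw [hd, hd', algebraMap_smul]
    exact congrArg Subtype.val (hdef i)
  have ha : ∀ i, a i ≠ 0 := by
    intro i h0
    apply d.ne_zero i
    rw [hdd, h0, map_zero, zero_smul]
  have hdet : d'.det d = ∏ i, algebraMap R K (a i) := by
    rw [Basis.det_apply]
    have : d'.toMatrix d = Matrix.diagonal fun i => algebraMap R K (a i) := by
      ext i j
      rw [Basis.toMatrix_apply, hdd, map_smul, d'.repr_self, Matrix.diagonal_apply]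
      by_cases hij : i = j
      · subst hij; simp [Algebra.algebraMap_eq_smul_one]
      · simp [hij, Ne.symm hij]
    rw [this, Matrix.det_diagonal]
  have hord : ordK R (d'.det d) = ∑ i, ((Ring.ord R (a i)).toNat : ℤ) := by
    rw [hdet, ordK_prod R _ _ fun i _ => by rw [Ne, map_eq_zero_iff _ (IsFractionRing.injective R K)]; exact ha i]
    exact Finset.sum_congr rfl fun i _ => ordK_algebraMap R (ha i)
  have hlen : Module.length R (sp R c' ⧸ N) = ∑ i, Ring.ord R (a i) := by
    rw [(N.quotientEquivPiSpan β hrank).length_eq, Module.length_pi_of_fintype]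
    rfl
  have hnt : ∀ i, Ring.ord R (a i) ≠ ⊤ := fun i => Ring.ord_ne_top (mem_nonZeroDivisors_of_ne_zero (ha i))
  choose m hm using fun i => ENat.ne_top_iff_exists.mp (hnt i)
  have hlen' : Module.length R (sp R c' ⧸ N) = ((∑ i, m i : ℕ) : ℕ∞) := by
    rw [hlen]
    push_cast
    exact Finset.sum_congr rfl fun i _ => (hm i).symm
  have hd2' : sp R d = sp R c := hd2
  have hd'2' : sp R d' = sp R c' := hd'2
  refine ⟨?_, ?_⟩
  · rw [← hd2', ← hd'2', idx_sp, idx_sp, ← ordK_det_add R b d' d, hord]
    have h1 : (Module.length R (sp R c' ⧸ N)).toNat = ∑ i, (Ring.ord R (a i)).toNat := by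
      rw [hlen', ENat.toNat_natCast]
      exact Finset.sum_congr rfl fun i _ => by rw [← hm i, ENat.toNat_natCast]
    have h2 : (Module.length R (sp R d' ⧸ (sp R d).submoduleOf (sp R d'))).toNat =
        (Module.length R (sp R c' ⧸ N)).toNat := by
      rw [hd'2', hd2']
    rw [h2, h1]
    push_cast
    ring
  · rw [show Module.length R (sp R c' ⧸ (sp R c).submoduleOf (sp R c')) = _ from hlen']
    exact ENat.natCast_ne_top _

end idx

end K849.DvrLat
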