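import Groth.Agent.ShStab.K849.HomBCF
import Groth.Agent.Sga2lef.H83.Pres
import Groth.Agent.Ega3B.AcycNbhd
import Mathlib.RingTheory.TensorProduct.IsBaseChangePi

/-!
# Base change of `Hom(E, F)`: finite sums, twists

* `K849.HomBCG.isB_sigma`: `IsB` for finite sums in the first variable.
* `K849.HomBCG.isB_Dm`: `IsB (O^r ⊗ P^a) F` for `F ⊗ L^a` acyclic, flat; the module of homs is finite and flat.
-/

set_option autoImplicit false
set_option backward.isDefEq.respectTransparency false
universe u v w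
open CategoryTheory CategoryTheory.Limits AlgebraicGeometry Opposite TopologicalSpace
open scoped TensorProduct

namespace K849.HomBCG

open Groth.Agent K792.SecBC K792.HomBC K849.HomBCF

attribute [local instance] Groth.Agent.CurvesC.LinMod.linearModules

/-- Homs out of a coproduct, linearly. -/
noncomputable def cofanEquiv (C : Type u) [CommRing C] {Y : Scheme.{u}} [Y.Over (Spec (CommRingCat.of C))]
    {ι : Type v} {E : ι → Y.Modules} {c : Cofan E} (hc : IsColimit c) (F : Y.Modules) :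
    (c.pt ⟶ F) ≃ₗ[C] (∀ i, (E i ⟶ F)) where
  toFun f := fun i => c.inj i ≫ f
  invFun g := Cofan.IsColimit.desc hc g
  map_add' f g := by
    funext i
    exact Preadditive.comp_add _ _ _ _ _ _
  map_smul' a f := by
    funext i
    exact Linear.comp_smul _ _ _ _ _ _
  left_inv f := Cofan.IsColimit.hom_ext hc _ _ fun i => Cofan.IsColimit.fac hc _ i
  right_inv g := by
    funext i
    exact Cofan.IsColimit.fac hc _ i

variable {A B : Type u} [CommRing A] [CommRing B] [Algebra A B] {X X' : Scheme.{u}}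
  [X.Over (Spec (CommRingCat.of A))] [X'.Over (Spec (CommRingCat.of B))] (π : X' ⟶ X)
  (sq : IsPullback π (X' ↘ Spec (CommRingCat.of B)) (X ↘ Spec (CommRingCat.of A))
    (Spec.map (CommRingCat.ofHom (algebraMap A B))))

theorem isB_sigma {ι : Type v} [Finite ι] (E : ι → X.Modules) [HasCoproduct E] (F : X.Modules)
    (h : ∀ i, IsB π sq (E i) F) : IsB π sq (∐ E) F := by
  let i1 : Module A ((Scheme.Modules.pullback π).obj (∐ E) ⟶ (Scheme.Modules.pullback π).obj F) :=
    homModA (B := B) _ _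
  have i2 := isScalarTower_hom (A := A) (B := B) ((Scheme.Modules.pullback π).obj (∐ E))
    ((Scheme.Modules.pullback π).obj F)
  let i3 : ∀ i, Module A ((Scheme.Modules.pullback π).obj (E i) ⟶ (Scheme.Modules.pullback π).obj F) := fun i =>
    homModA (B := B) _ _
  have i4 : ∀ i, IsScalarTower A B ((Scheme.Modules.pullback π).obj (E i) ⟶ (Scheme.Modules.pullback π).obj F) :=
    fun i => isScalarTower_hom (A := A) (B := B) _ _
  have h1 := IsBaseChange.pi (fun i => mapL π sq (E i) F) h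
  let c' : Cofan (fun i => (Scheme.Modules.pullback π).obj (E i)) :=
    Cofan.mk ((Scheme.Modules.pullback π).obj (∐ E)) fun i => (Scheme.Modules.pullback π).map (Sigma.ι E i)
  have hc' : IsColimit c' := isColimitOfHasCoproductOfPreservesColimit (Scheme.Modules.pullback π) E
  have hc : IsColimit (Cofan.mk (∐ E) (Sigma.ι E)) := coproductIsCoproduct E
  refine (IsBaseChange.iff_of_equiv_comm (cofanEquiv A hc F)
    (show ((Scheme.Modules.pullback π).obj (∐ E) ⟶ (Scheme.Modules.pullback π).obj F) ≃ₗ[B] _ from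
      cofanEquiv B hc' ((Scheme.Modules.pullback π).obj F)) ?_).2 h1
  ext f i : 2
  change (Scheme.Modules.pullback π).map (Sigma.ι E i ≫ f) = (Scheme.Modules.pullback π).map (Sigma.ι E i) ≫
    (Scheme.Modules.pullback π).map f
  rw [Functor.map_comp]

section fin

variable (A X)

/-- Finite and flat homs. -/
def FF (E F : X.Modules) : Prop := Module.Finite A (E ⟶ F) ∧ Module.Flat A (E ⟶ F)

variable {A X}

theorem FF.of_equiv {E E' F F' : X.Modules} (e : (E ⟶ F) ≃ₗ[A] (E' ⟶ F')) (h : FF A X E' F') : FF A X E F :=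
  ⟨have := h.1; Module.Finite.equiv e.symm, have := h.2; Module.Flat.of_linearEquiv e⟩

theorem ff_sigma {ι : Type v} [Finite ι] (E : ι → X.Modules) [HasCoproduct E] (F : X.Modules)
    (h : ∀ i, FF A X (E i) F) : FF A X (∐ E) F := by
  have hc : IsColimit (Cofan.mk (∐ E) (Sigma.ι E)) := coproductIsCoproduct E
  have h1 : ∀ i, Module.Finite A (E i ⟶ F) := fun i => (h i).1
  have h2 : ∀ i, Module.Flat A (E i ⟶ F) := fun i => (h i).2
  have h3 : Module.Flat A (∀ i, (E i ⟶ F)) := by
    have h4 : Module.Flat A (Π₀ i, (E i ⟶ F)) := inferInstance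
    cases nonempty_fintype ι
    exact Module.Flat.of_linearEquiv (DFinsupp.linearEquivFunOnFintype (R := A) (M := fun i => (E i ⟶ F))).symm
  exact ⟨Module.Finite.equiv (cofanEquiv A hc F).symm, Module.Flat.of_linearEquiv (cofanEquiv A hc F)⟩

theorem ff_unit [IsNoetherianRing A] [IsProper (X ↘ Spec (CommRingCat.of A))]
    (M : X.Modules) (hM : Coh.IsCoh M) (hfl : FlatMod.IsFlatOver (X ↘ Spec (CommRingCat.of A)) M)
    (hvan : ∀ p, Subsingleton (Coh.HH X M (p + 1))) : FF A X (Coh.structureModule X) M := by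
  let i3 : Module Γ(Spec (CommRingCat.of A), ⊤) (SecM A M ⊤) :=
    VarietyB.FlatH0.modOver (X ↘ Spec (CommRingCat.of A)) M le_top
  let i5 : Algebra A Γ(Spec (CommRingCat.of A), ⊤) := (Scheme.ΓSpecIso (CommRingCat.of A)).inv.hom.toAlgebra
  have i11 : IsScalarTower A Γ(Spec (CommRingCat.of A), ⊤) (SecM A M ⊤) := ⟨fun a b c => by
    rw [Algebra.smul_def, mul_smul]
    rfl⟩
  have hbij : Function.Bijective (algebraMap A Γ(Spec (CommRingCat.of A), ⊤)) :=
    ConcreteCategory.bijective_of_isIso (Scheme.ΓSpecIso (CommRingCat.of A)).inv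
  have hfin : Module.Finite A Γ(Spec (CommRingCat.of A), ⊤) :=
    Module.Finite.of_surjective (Algebra.linearMap A _) hbij.2
  have hflat : Module.Flat A Γ(Spec (CommRingCat.of A), ⊤) :=
    Module.Flat.of_linearEquiv (LinearEquiv.ofBijective (Algebra.linearMap A Γ(Spec (CommRingCat.of A), ⊤)) hbij).symm
  have hN : IsLocallyNoetherian (Spec (CommRingCat.of A)) := inferInstance
  have h1 : Module.Finite Γ(Spec (CommRingCat.of A), ⊤) (SecM A M ⊤) :=
    Ega3B.AcycNbhd.finite_sections (X ↘ Spec (CommRingCat.of A)) M hM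
  have h2 : Module.Flat Γ(Spec (CommRingCat.of A), ⊤) (SecM A M ⊤) :=
    (Ega3B.AcyclicBC.acyclicBC (IsPullback.of_id_fst (f := X ↘ Spec (CommRingCat.of A))) M hM.1 hfl hvan).2.2
  have h3 : Module.Finite A (SecM A M ⊤) := Module.Finite.trans Γ(Spec (CommRingCat.of A), ⊤) _
  have h4 : Module.Flat A (SecM A M ⊤) := Module.Flat.trans A Γ(Spec (CommRingCat.of A), ⊤) _
  exact ⟨Module.Finite.equiv (unitL A M).symm, Module.Flat.of_linearEquiv (unitL A M)⟩

end fin

section Dm

open MonoidalCategory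
open scoped Groth.Agent.Dcoh.MonCat

theorem ff_tens {E F N P : X.Modules} (e : CohB1.tensorMod N P ≅ Coh.structureModule X)
    (h : FF A X (CohB1.tensorMod E P) (CohB1.tensorMod F P)) : FF A X E F :=
  FF.of_equiv (tensEquiv A e E F) h

variable {L P : X.Modules} (hLP : ClSub.IsInverseOf L P)

include hLP in
theorem exists_Dm_iso (r a : ℕ) : Nonempty (CohB1.tensorMod (Sga2lef.H83.Pres.Dm P r a) (CohB1.tensorPow L a) ≅
    FlatMod.freeMod X r) := by
  obtain ⟨e2⟩ := Sga2.LefAmple389.isInverseOf_pow (Sga2lef.H83.Pres.isInverseOf_symm hLP) a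
  exact ⟨(PerfB.TensInv.tensorInvIso e2).app (FlatMod.freeMod X r)⟩

variable [IsProper (X ↘ Spec (CommRingCat.of A))] (r a : ℕ) (F : X.Modules)

include hLP in
/-- `Hom(O^r ⊗ P^a, F) ⊗ B = Hom(π^* -, π^* F)`, and this module is finite and flat. -/
theorem isB_Dm (hM : Coh.IsCoh (CohB1.tensorMod F (CohB1.tensorPow L a)))
    (hfl : FlatMod.IsFlatOver (X ↘ Spec (CommRingCat.of A)) (CohB1.tensorMod F (CohB1.tensorPow L a)))
    (hvan : ∀ p, Subsingleton (Coh.HH X (CohB1.tensorMod F (CohB1.tensorPow L a)) (p + 1))) :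
    IsB π sq (Sga2lef.H83.Pres.Dm P r a) F := by
  obtain ⟨e⟩ := Sga2.LefAmple389.isInverseOf_pow (Sga2lef.H83.Pres.isInverseOf_symm hLP) a
  obtain ⟨e'⟩ := exists_Dm_iso hLP r a
  rw [isB_tens sq e, isB_congr sq e' (Iso.refl _)]
  refine isB_sigma π sq _ _ fun i => ?_
  rw [isB_unit]
  exact isBaseChange_sec π sq _ hM.1 hfl hvan

include hLP in
theorem ff_Dm [IsNoetherianRing A] (hM : Coh.IsCoh (CohB1.tensorMod F (CohB1.tensorPow L a)))
    (hfl : FlatMod.IsFlatOver (X ↘ Spec (CommRingCat.of A)) (CohB1.tensorMod F (CohB1.tensorPow L a)))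
    (hvan : ∀ p, Subsingleton (Coh.HH X (CohB1.tensorMod F (CohB1.tensorPow L a)) (p + 1))) :
    FF A X (Sga2lef.H83.Pres.Dm P r a) F := by
  obtain ⟨e⟩ := Sga2.LefAmple389.isInverseOf_pow (Sga2lef.H83.Pres.isInverseOf_symm hLP) a
  obtain ⟨e'⟩ := exists_Dm_iso hLP r a
  refine ff_tens e (FF.of_equiv (Linear.homCongr A e' (Iso.refl _)) ?_)
  exact ff_sigma _ _ fun i => ff_unit _ hM hfl hvan

end Dm

end K849.HomBCG
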