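import Groth.Agent.ShStab.K849.HomBCG
import Groth.Agent.Picfga.KerBC
import Groth.Agent.Ega3A.FiberRank
import Groth.Agent.S14336
import Groth.Agent.S0051
import Groth.Agent.Ega3B.FlatTensInv
import Groth.Agent.Grpsch.PicGrp

/-!
# The dimension of `End(F_s)` is upper semicontinuous

* `K849.HomBCH.exists_fun`: `X` proper over a noetherian ring `A` with an ample invertible module, `F` coherent and
  flat over `A`: there is an upper semicontinuous function `n` on `Spec A` with
  `dim_B End(π^* F) = n(y)` for every field `B` over `A` with kernel `y` and every base change `π : X_B → X`.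
-/

set_option autoImplicit false
set_option backward.isDefEq.respectTransparency false
universe u v w
open CategoryTheory CategoryTheory.Limits AlgebraicGeometry Opposite TopologicalSpace
open scoped TensorProduct

namespace K849.HomBCH

open Groth.Agent K792.SecBC K792.HomBC K849.HomBCF K849.HomBCG

attribute [local instance] Groth.Agent.CurvesC.LinMod.linearModules

section alg

variable {A : Type u} [CommRing A] [IsNoetherianRing A] {K K' : Type u} [AddCommGroup K] [Module A K]
  [Module.Finite A K] [Module.Flat A K] [AddCommGroup K'] [Module A K'] [Module.Finite A K'] [Module.Flat A K']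
  (φ : K →ₗ[A] K')

/-- The dimension of the kernel at a point. -/
noncomputable def kr (y : PrimeSpectrum A) : ℕ :=
  Module.finrank y.asIdeal.ResidueField (LinearMap.ker (φ.baseChange y.asIdeal.ResidueField))

theorem isOpen_kr (m : ℕ) : IsOpen {y | kr φ y ≤ m} := by
  rw [isOpen_iff_mem_nhds]
  intro y hy
  have h1 := (Groth.Agent.S14336.result A K K' φ) y
    (Module.finrank y.asIdeal.ResidueField (LinearMap.range (φ.baseChange y.asIdeal.ResidueField)) - 1)
  have hfp : Module.FinitePresentation A K := Module.finitePresentation_of_finite A K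
  have h2 : IsLocallyConstant (Groth.Agent.Ega3A.FiberRank.fiberRank (R := A) K) :=
    Groth.Agent.Ega3A.FiberRank.isLocallyConstant_fiberRank
  have key : ∀ z : PrimeSpectrum A, Module.finrank z.asIdeal.ResidueField
      (LinearMap.range (φ.baseChange z.asIdeal.ResidueField)) + kr φ z =
      Groth.Agent.Ega3A.FiberRank.fiberRank (R := A) K z := fun z =>
    LinearMap.finrank_range_add_finrank_ker (φ.baseChange z.asIdeal.ResidueField)
  have hy' : kr φ y ≤ m := hy
  have hky := key y
  rcases Nat.eq_zero_or_pos (Module.finrank y.asIdeal.ResidueField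
    (LinearMap.range (φ.baseChange y.asIdeal.ResidueField))) with h0 | h0
  · filter_upwards [(IsLocallyConstant.iff_eventually_eq _).mp h2 y] with z hz
    have := key z
    change kr φ z ≤ m
    omega
  · filter_upwards [(IsLocallyConstant.iff_eventually_eq _).mp h2 y, h1 (Nat.sub_lt h0 one_pos)] with z hz hz'
    have := key z
    change kr φ z ≤ m
    change _ < Module.finrank z.asIdeal.ResidueField (LinearMap.range (φ.baseChange z.asIdeal.ResidueField)) at hz'
    omega

omit [IsNoetherianRing A] [Module.Finite A K] [Module.Flat A K] [Module.Finite A K'] [Module.Flat A K'] in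
/-- The dimension of the kernel after base change to any field. -/
theorem finrank_ker (B : Type u) [Field B] [Algebra A B] :
    Module.finrank B (LinearMap.ker (φ.baseChange B)) =
      kr φ (PrimeSpectrum.comap (algebraMap A B) (⊥ : PrimeSpectrum B)) := by
  set y : PrimeSpectrum A := PrimeSpectrum.comap (algebraMap A B) (⊥ : PrimeSpectrum B) with hy
  have hx : y.asIdeal = RingHom.ker (algebraMap A B) := by
    rw [hy]
    rfl
  let f : y.asIdeal.ResidueField →+* B := Ideal.ResidueField.lift y.asIdeal (algebraMap A B) hx.le (by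
    intro r hr
    simp only [Submonoid.mem_comap, IsUnit.mem_submonoid_iff, isUnit_iff_ne_zero]
    intro h
    exact hr (hx ▸ h))
  let _ : Algebra y.asIdeal.ResidueField B := f.toAlgebra
  have : IsScalarTower A y.asIdeal.ResidueField B := IsScalarTower.of_algebraMap_eq fun r => by
    exact (Ideal.ResidueField.lift_algebraMap ..).symm
  unfold kr
  rw [← Picfga.KerBC.finrank_ker_baseChange (K' := B) (φ.baseChange y.asIdeal.ResidueField)]
  let e := TensorProduct.AlgebraTensorModule.cancelBaseChange A y.asIdeal.ResidueField B B K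
  let e' := TensorProduct.AlgebraTensorModule.cancelBaseChange A y.asIdeal.ResidueField B B K'
  have hc : ∀ z, φ.baseChange B (e z) = e' ((φ.baseChange y.asIdeal.ResidueField).baseChange B z) := by
    intro z
    induction z with
    | zero => simp
    | add x y hx hy => simp only [map_add, hx, hy]
    | tmul b w =>
      induction w with
      | zero => simp
      | add x y hx hy => simp only [TensorProduct.tmul_add, map_add, hx, hy]
      | tmul a x => simp [e, e', TensorProduct.AlgebraTensorModule.cancelBaseChange_tmul]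
  refine (LinearEquiv.finrank_eq (e.ofSubmodules _ _ ?_)).symm
  ext x
  rw [Submodule.mem_map]
  constructor
  · rintro ⟨z, hz, rfl⟩
    rw [LinearMap.mem_ker] at hz ⊢
    change φ.baseChange B (e z) = 0
    rw [hc, hz, map_zero]
  · intro hx
    obtain ⟨z, rfl⟩ := e.surjective x
    refine ⟨z, ?_, rfl⟩
    rw [LinearMap.mem_ker] at hx ⊢
    rw [hc] at hx
    exact (LinearEquiv.map_eq_zero_iff _).1 hx

end alg

section ker

variable {B : Type u} [CommRing B] {Y : Scheme.{u}} [Y.Over (Spec (CommRingCat.of B))]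

/-- Homs out of a cokernel. -/
noncomputable def kerEquiv {E1 E0 F : Y.Modules} (d : E1 ⟶ E0) (p : E0 ⟶ F) (w : d ≫ p = 0)
    (h : IsColimit (CokernelCofork.ofπ p w)) (G : Y.Modules) :
    (F ⟶ G) ≃ₗ[B] LinearMap.ker (Linear.leftComp B G d) :=
  LinearEquiv.ofBijective
    ((Linear.leftComp B G p).codRestrict (LinearMap.ker (Linear.leftComp B G d)) fun f => by
      rw [LinearMap.mem_ker]
      change d ≫ p ≫ f = 0
      rw [← Category.assoc, w, zero_comp])
    ⟨fun f g hfg => by
      have h1 : p ≫ f = p ≫ g := congrArg Subtype.val hfg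
      have : Epi p := epi_of_isColimit_cofork h
      exact (cancel_epi p).1 h1,
    fun g => ⟨h.desc (CokernelCofork.ofπ g.1 (LinearMap.mem_ker.1 g.2)), Subtype.ext
      (h.fac (CokernelCofork.ofπ g.1 (LinearMap.mem_ker.1 g.2)) WalkingParallelPair.one)⟩⟩

end ker

/-- The dimension of `End(π^* F)` is given by an upper semicontinuous function. -/
theorem exists_fun {A : Type u} [CommRing A] [IsNoetherianRing A] {X : Scheme.{u}}
    [X.Over (Spec (CommRingCat.of A))] [IsProper (X ↘ Spec (CommRingCat.of A))] {L : X.Modules}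
    (hL : CohB1.IsAmple L) (E F : X.Modules) (hE : Coh.IsCoh E) (hF : Coh.IsCoh F)
    (hfl : FlatMod.IsFlatOver (X ↘ Spec (CommRingCat.of A)) F) :
    ∃ n : PrimeSpectrum A → ℕ, (∀ m, IsOpen {y | n y ≤ m}) ∧
      ∀ (B : Type u) [Field B] [Algebra A B] {X' : Scheme.{u}} [X'.Over (Spec (CommRingCat.of B))] (π : X' ⟶ X)
        (_ : IsPullback π (X' ↘ Spec (CommRingCat.of B)) (X ↘ Spec (CommRingCat.of A))
          (Spec.map (CommRingCat.ofHom (algebraMap A B)))),
        Module.Finite B ((Scheme.Modules.pullback π).obj E ⟶ (Scheme.Modules.pullback π).obj F) ∧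
        Module.finrank B ((Scheme.Modules.pullback π).obj E ⟶ (Scheme.Modules.pullback π).obj F) =
          n (PrimeSpectrum.comap (algebraMap A B) (⊥ : PrimeSpectrum B)) := by
  obtain ⟨P, hP, ⟨eLP⟩⟩ := Grpsch.PicGrp.exists_inverse hL.1
  have hLP : ClSub.IsInverseOf L P := ⟨eLP⟩
  have hN : IsLocallyNoetherian X := LocallyOfFiniteType.isLocallyNoetherian (X ↘ Spec (CommRingCat.of A))
  obtain ⟨n₀, hn₀⟩ := (Groth.Agent.S0051.result A X (X ↘ Spec (CommRingCat.of A)) L hL.1).1 hL F hF
  obtain ⟨a0, r0, ha0, p0, hp0⟩ := Sga2lef.H83.Pres.exists_epi_ge hLP hL hE n₀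
  have hD0 : Coh.IsCoh (Sga2lef.H83.Pres.Dm P r0 a0) :=
    Sga2lef.H83.Pres.isCoh_Dm hP r0 a0
  obtain ⟨a1, r1, ha1, p1, hp1⟩ := Sga2lef.H83.Pres.exists_epi_ge hLP hL
    (PerfA.CohSerre.isCoh_kernel p0 hD0 hE.1) n₀
  let d := p1 ≫ kernel.ι p0
  have w : d ≫ p0 = 0 := by
    rw [Category.assoc, kernel.condition, comp_zero]
  have hex : (ShortComplex.mk d p0 w).Exact := by
    have h1 : (ShortComplex.mk (kernel.ι p0) p0 (kernel.condition p0)).Exact :=
      ShortComplex.exact_of_f_is_kernel _ (kernelIsKernel p0)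
    let φ : ShortComplex.mk d p0 w ⟶ ShortComplex.mk (kernel.ι p0) p0 (kernel.condition p0) :=
      { τ₁ := p1
        τ₂ := 𝟙 _
        τ₃ := 𝟙 _ }
    have : Epi φ.τ₁ := hp1
    have : IsIso φ.τ₂ := inferInstanceAs (IsIso (𝟙 _))
    have : Mono φ.τ₃ := inferInstanceAs (Mono (𝟙 _))
    exact (ShortComplex.exact_iff_of_epi_of_isIso_of_mono φ).2 h1
  have hac : ∀ a, n₀ ≤ a → Coh.IsCoh (CohB1.tensorMod F (CohB1.tensorPow L a)) ∧
      FlatMod.IsFlatOver (X ↘ Spec (CommRingCat.of A)) (CohB1.tensorMod F (CohB1.tensorPow L a)) ∧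
      ∀ p, Subsingleton (Coh.HH X (CohB1.tensorMod F (CohB1.tensorPow L a)) (p + 1)) := fun a ha =>
    have hLa : PicF.IsInvertible (CohB1.tensorPow L a) := Fdesc.LocGen.isInvertible_tensorPow hL.1 a
    ⟨Ega2.GlobGenCrit.isCoh_tensor hF hLa, Ega3B.FlatTensInv.isFlatOver_tensor _ hLa hfl,
      fun p => hn₀ a ha (p + 1) p.succ_pos⟩
  obtain ⟨f0, f0'⟩ := ff_Dm (A := A) hLP r0 a0 F (hac a0 ha0).1 (hac a0 ha0).2.1 (hac a0 ha0).2.2
  obtain ⟨f1, f1'⟩ := ff_Dm (A := A) hLP r1 a1 F (hac a1 ha1).1 (hac a1 ha1).2.1 (hac a1 ha1).2.2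
  let δ := Linear.leftComp A F d
  refine ⟨kr δ, isOpen_kr δ, ?_⟩
  intro B _ _ X' _ π sq
  have b0 := isB_Dm (A := A) (B := B) π sq hLP r0 a0 F (hac a0 ha0).1 (hac a0 ha0).2.1 (hac a0 ha0).2.2
  have b1 := isB_Dm (A := A) (B := B) π sq hLP r1 a1 F (hac a1 ha1).1 (hac a1 ha1).2.1 (hac a1 ha1).2.2
  rw [← finrank_ker δ B]
  have hex' : ((ShortComplex.mk d p0 w).map (Scheme.Modules.pullback π)).Exact :=
    hex.map_of_epi_of_preservesCokernel _ hp0 inferInstance
  have hp0' : Epi ((Scheme.Modules.pullback π).map p0) := inferInstance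
  have hcok := @ShortComplex.Exact.gIsCokernel _ _ _ _ _ hex' hp0'
  let e1 := kerEquiv (B := B) ((Scheme.Modules.pullback π).map d) ((Scheme.Modules.pullback π).map p0) _ hcok
    ((Scheme.Modules.pullback π).obj F)
  let i0 : Module A ((Scheme.Modules.pullback π).obj (Sga2lef.H83.Pres.Dm P r0 a0) ⟶
      (Scheme.Modules.pullback π).obj F) := homModA (B := B) _ _
  let i1 : Module A ((Scheme.Modules.pullback π).obj (Sga2lef.H83.Pres.Dm P r1 a1) ⟶
      (Scheme.Modules.pullback π).obj F) := homModA (B := B) _ _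
  have j0 := isScalarTower_hom (A := A) (B := B) ((Scheme.Modules.pullback π).obj (Sga2lef.H83.Pres.Dm P r0 a0))
    ((Scheme.Modules.pullback π).obj F)
  have j1 := isScalarTower_hom (A := A) (B := B) ((Scheme.Modules.pullback π).obj (Sga2lef.H83.Pres.Dm P r1 a1))
    ((Scheme.Modules.pullback π).obj F)
  let e2 : LinearMap.ker (δ.baseChange B) ≃ₗ[B]
      LinearMap.ker (Linear.leftComp B ((Scheme.Modules.pullback π).obj F) ((Scheme.Modules.pullback π).map d)) :=
    Picfga.KerBC.kerEquiv b0 b1 (fun x => ((Scheme.Modules.pullback π).map_comp d x).symm)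
  have hfin : Module.Finite B (LinearMap.ker (δ.baseChange B)) := inferInstance
  exact ⟨Module.Finite.equiv (e2.trans e1.symm), (e1.trans e2.symm).finrank_eq⟩

end K849.HomBCH
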