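import Groth.Agent.ShStab.K849.AbsMore
import Groth.Agent.ShStab.K849.TopPart
import Groth.Agent.ShStab.K846.CohAdd
import Groth.Agent.Dcoh.StalkMod
import Groth.Prelude.Def_ShStab
import Mathlib.Algebra.Group.ForwardDiff

/-!
# The abstract stability setting for coherent sheaves

`HilbFacts k X L hp`: `hp F` is the Hilbert polynomial of the coherent sheaf `F` and has the usual properties.
-/

set_option autoImplicit false
set_option linter.unusedSectionVars false

universe u

open CategoryTheory CategoryTheory.Limits AlgebraicGeometry Polynomial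

namespace K849.Inst

open StabCat K849.Abs K849.PolyOrd K849.TopPart K849.LatHN

/-- The facts about Hilbert polynomials which are used. -/
structure HilbFacts (k : Type u) [Field k] (X : Scheme.{u}) [X.Over (Spec (CommRingCat.of k))]
    (L : X.Modules) (hp : X.Modules → ℚ[X]) : Prop where
  spec : ∀ F : X.Modules, Coh.IsCoh F → ShStab.IsHilbPoly k X L F (hp F)
  pos : ∀ F : X.Modules, Coh.IsCoh F → ¬ IsZero F → 0 < (hp F).leadingCoeff
  add : ∀ S : ShortComplex X.Modules, S.ShortExact → Coh.IsCoh S.X₁ → Coh.IsCoh S.X₂ →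
    Coh.IsCoh S.X₃ → hp S.X₂ = hp S.X₁ + hp S.X₃
  dim : ∀ F : X.Modules, Coh.IsCoh F → ¬ IsZero F →
    topologicalKrullDim (CohB1.support F) = ((hp F).natDegree : WithBot ℕ∞)

variable {k : Type u} [Field k] {X : Scheme.{u}} [X.Over (Spec (CommRingCat.of k))]
  {L : X.Modules} {hp : X.Modules → ℚ[X]}

/-- Integrality of `alpha d` for integer valued polynomials of degree at most `d`. -/
lemma exists_int {P : ℚ[X]} {d : ℕ} (hd : P.natDegree ≤ d) (f : ℕ → ℤ) (hf : ∀ m : ℕ, (f m : ℚ) = P.eval (m : ℚ)) :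
    ∃ n : ℤ, alpha d P = n := by
  have h1 : (fwdDiff (1 : ℚ))^[d] P.eval 0 = alpha d P := by
    rcases hd.lt_or_eq with h | h
    · rw [Polynomial.fwdDiff_iter_eq_zero_of_degree_lt h]
      unfold alpha
      rw [coeff_eq_zero_of_natDegree_lt h]
      simp
    · subst h
      rw [Polynomial.fwdDiff_iter_degree_eq_factorial]
      unfold alpha
      rw [mul_comm]
      rfl
  rw [← h1, fwdDiff_iter_eq_sum_shift]
  refine ⟨∑ i ∈ Finset.range (d + 1), ((-1 : ℤ) ^ (d - i) * d.choose i) * f i, ?_⟩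
  push_cast
  refine Finset.sum_congr rfl fun i _ => ?_
  rw [hf i, zsmul_eq_mul]
  push_cast
  congr 2
  simp

lemma topologicalKrullDim_eq_bot {T : Type*} [TopologicalSpace T] [IsEmpty T] : topologicalKrullDim T = ⊥ := by
  unfold topologicalKrullDim
  have : IsEmpty (TopologicalSpace.IrreducibleCloseds T) :=
    ⟨fun Z => by
      obtain ⟨x, _⟩ := Z.isIrreducible.nonempty
      exact isEmptyElim x⟩
  exact Order.krullDim_eq_bot

lemma natDegree_le_of_nonneg {P Q : ℚ[X]} (hP : PolyLE 0 P) (hQ : PolyLE 0 Q) :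
    P.natDegree ≤ (P + Q).natDegree := by
  rcases K849.PolyOrd.polyLE_iff.1 hP with h0 | h0
  · simp [h0]
  rcases K849.PolyOrd.polyLE_iff.1 hQ with h1 | h1
  · simp [h1]
  by_contra hlt
  rw [not_le] at hlt
  have h2 : (P + Q).coeff P.natDegree = 0 := coeff_eq_zero_of_natDegree_lt hlt
  rw [coeff_add] at h2
  have h3 : Q.coeff P.natDegree < 0 := by
    have : P.coeff P.natDegree = P.leadingCoeff := rfl
    linarith
  have h4 : P.natDegree ≤ Q.natDegree := le_natDegree_of_ne_zero h3.ne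
  rcases h4.lt_or_eq with h5 | h5
  · have h6 : (P + Q).coeff Q.natDegree = 0 := coeff_eq_zero_of_natDegree_lt (hlt.trans h5)
    rw [coeff_add, coeff_eq_zero_of_natDegree_lt h5, zero_add] at h6
    exact absurd h6 h1.ne'
  · rw [h5] at h3
    exact absurd h3 (not_lt.2 h1.le)

namespace HilbFacts

lemma unique (h : HilbFacts k X L hp) {F : X.Modules} (hF : Coh.IsCoh F) {P : ℚ[X]}
    (hP : ShStab.IsHilbPoly k X L F P) : P = hp F := by
  apply Polynomial.eq_of_infinite_eval_eq P (hp F)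
  refine Set.infinite_of_injective_forall_mem (f := fun m : ℕ => (m : ℚ)) Nat.cast_injective fun m => ?_
  rw [Set.mem_ofPred_eq, ← hP m, ← h.spec F hF m]

lemma isHilbPoly_iff (h : HilbFacts k X L hp) {F : X.Modules} (hF : Coh.IsCoh F) {P : ℚ[X]} :
    ShStab.IsHilbPoly k X L F P ↔ P = hp F :=
  ⟨h.unique hF, fun e => e ▸ h.spec F hF⟩

lemma int (h : HilbFacts k X L hp) {F : X.Modules} (hF : Coh.IsCoh F) {d : ℕ}
    (hd : (hp F).natDegree ≤ d) : ∃ n : ℤ, alpha d (hp F) = n :=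
  exists_int hd (fun m => Curv2.euler k X (ShStab.twist X L F m)) (h.spec F hF)

end HilbFacts

/-- The tested objects: coherent of dimension at most `d`. -/
def ok (hp : X.Modules → ℚ[X]) (d : ℕ) (F : X.Modules) : Prop := Coh.IsCoh F ∧ (hp F).natDegree ≤ d

/-- The invariant: the `ℓ`-truncation of the Hilbert polynomial. -/
noncomputable def Pl (hp : X.Modules → ℚ[X]) (ℓ d : ℕ) (F : X.Modules) : PV := toPV (topPart ℓ d (hp F))

section

variable [IsNoetherian X] (h : HilbFacts k X L hp)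

include h

lemma hp_zero {F : X.Modules} (hF : IsZero F) : hp F = 0 := by
  have hc : Coh.IsCoh F := Groth.Agent.Sga67.CohBasic.isCoh_of_isZero hF
  have hS : (ShortComplex.mk (0 : F ⟶ F) (0 : F ⟶ F) (by simp)).ShortExact :=
    { exact := ShortComplex.exact_of_isZero_X₂ _ hF
      mono_f := ⟨fun _ _ _ => hF.eq_of_tgt _ _⟩
      epi_g := ⟨fun _ _ _ => hF.eq_of_src _ _⟩ }
  have := h.add _ hS hc hc hc
  simpa using this

lemma hp_nonneg {F : X.Modules} (hF : Coh.IsCoh F) : PolyLE 0 (hp F) := by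
  by_cases h0 : IsZero F
  · rw [hp_zero h h0]
    exact polyLE_refl _
  · exact polyLE_iff.2 (Or.inr (h.pos F hF h0))

lemma natDegree_le {S : ShortComplex X.Modules} (hS : S.ShortExact) (h1 : Coh.IsCoh S.X₁)
    (h2 : Coh.IsCoh S.X₂) (h3 : Coh.IsCoh S.X₃) :
    (hp S.X₁).natDegree ≤ (hp S.X₂).natDegree ∧ (hp S.X₃).natDegree ≤ (hp S.X₂).natDegree := by
  rw [h.add S hS h1 h2 h3]
  refine ⟨natDegree_le_of_nonneg (hp_nonneg h h1) (hp_nonneg h h3), ?_⟩
  rw [add_comm]
  exact natDegree_le_of_nonneg (hp_nonneg h h3) (hp_nonneg h h1)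

lemma natDegree_le_of_mono {F E : X.Modules} (ι : F ⟶ E) [Mono ι] (hF : Coh.IsCoh F) (hE : Coh.IsCoh E) :
    (hp F).natDegree ≤ (hp E).natDegree :=
  (natDegree_le h (Setup.shortExact_coker ι) hF hE
    (Groth.Agent.Sga67.CohBasic.isCoh_cokernel ι hF.1 hE)).1

lemma natDegree_le_of_epi {E F : X.Modules} (p : E ⟶ F) [Epi p] (hE : Coh.IsCoh E) (hF : Coh.IsCoh F) :
    (hp F).natDegree ≤ (hp E).natDegree :=
  (natDegree_le h (Setup.shortExact_ker p)
    (Groth.Agent.Sga67.CohBasic.isCoh_kernel p hE hF.1) hE hF).2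

lemma alpha_nonneg {F : X.Modules} {d : ℕ} (hF : ok hp d F) : 0 ≤ alpha d (hp F) := by
  rcases hF.2.lt_or_eq with h1 | h1
  · unfold alpha
    rw [coeff_eq_zero_of_natDegree_lt h1]
    simp
  · unfold alpha
    have : 0 ≤ (hp F).leadingCoeff := by
      rcases polyLE_iff.1 (hp_nonneg h hF.1) with h2 | h2
      · rw [h2]
        simp
      · exact h2.le
    rw [← h1]
    exact mul_nonneg (by positivity) this

lemma alpha_pos_iff {F : X.Modules} {d : ℕ} (hF : ok hp d F) (h0 : ¬ IsZero F) :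
    0 < alpha d (hp F) ↔ (hp F).natDegree = d := by
  constructor
  · intro h1
    refine le_antisymm hF.2 ?_
    by_contra hlt
    rw [not_le] at hlt
    unfold alpha at h1
    rw [coeff_eq_zero_of_natDegree_lt hlt] at h1
    simp at h1
  · intro h1
    unfold alpha
    rw [← h1]
    exact mul_pos (by positivity) (h.pos F hF.1 h0)

/-- The abstract setting holds. -/
theorem setup (ℓ d : ℕ) : Setup (ok hp d) (Pl hp ℓ d) (alphaL d) where
  ok_iso {A B} e hA := by
    have hB := Groth.Agent.Sga67.CohBasic.isCoh_of_iso e hA.1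
    exact ⟨hB, (natDegree_le_of_mono h e.inv hB hA.1).trans hA.2⟩
  ok_ker {A B} f hA hB := by
    have hK := Groth.Agent.Sga67.CohBasic.isCoh_kernel f hA.1 hB.1.1
    exact ⟨hK, (natDegree_le_of_mono h (kernel.ι f) hK hA.1).trans hA.2⟩
  ok_coker {A B} f hA hB := by
    have hK := Groth.Agent.Sga67.CohBasic.isCoh_cokernel f hA.1.1 hB.1
    exact ⟨hK, (natDegree_le_of_epi h (cokernel.π f) hB.1 hK).trans hB.2⟩
  ok_ext S hS h1 h3 := by
    have h2 := Groth.Agent.CycB.CohProp.isCoh_extension S hS h1.1 h3.1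
    refine ⟨h2, ?_⟩
    rw [h.add S hS h1.1 h2 h3.1]
    exact natDegree_add_le_of_degree_le h1.2 h3.2
  noeth E hE := by
    have := K846.Acc.wellFoundedGT E hE.1
    refine ⟨Subrelation.wf (r := fun a b : {x : Subobject E // ok hp d (x : X.Modules)} =>
      (⟨b.1, b.2.1⟩ : {F : Subobject E // Coh.IsCoh (F : X.Modules)}) < ⟨a.1, a.2.1⟩) (fun {a b} hab => hab)
      (InvImage.wf (fun a : {x : Subobject E // ok hp d (x : X.Modules)} =>
        (⟨a.1, a.2.1⟩ : {F : Subobject E // Coh.IsCoh (F : X.Modules)})) this.wf)⟩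
  add S hS h1 h2 h3 := by
    unfold Pl
    rw [h.add S hS h1.1 h2.1 h3.1, topPart_add, toPV_add]
  nat E hE := by
    obtain ⟨n, hn⟩ := h.int hE.1 hE.2
    refine ⟨n.toNat, ?_⟩
    unfold Pl
    rw [alphaL_toPV, alpha_topPart, hn]
    have := alpha_nonneg h hE
    rw [hn] at this
    have h0 : (0 : ℤ) ≤ n := by exact_mod_cast this
    have h1 : ((n.toNat : ℤ) : ℚ) = (n : ℚ) := by rw [Int.toNat_of_nonneg h0]
    rw [← h1]
    rfl
  nonneg E hE _ := by
    unfold Pl
    rw [← toPV_zero, toPV_le]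
    exact polyLE_topPart hE.2 (hp_nonneg h hE.1)

lemma alphaL_Pl (ℓ d : ℕ) (F : X.Modules) : alphaL d (Pl hp ℓ d F) = alpha d (hp F) := by
  unfold Pl
  rw [alphaL_toPV, alpha_topPart]

/-- Purity. -/
theorem isPure_iff {E : X.Modules} (hE : Coh.IsCoh E) (ℓ d : ℕ) :
    ShStab.IsPure X E d ∧ (IsZero E → (hp E).natDegree ≤ d) ↔ ok hp d E ∧ APure (ok hp d) (Pl hp ℓ d) (alphaL d) E := by
  constructor
  · rintro ⟨hp1, -⟩
    have hok : ok hp d E := by
      by_cases h0 : IsZero E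
      · exact ⟨hE, by rw [hp_zero h h0]; simp⟩
      · have := hp1 E (𝟙 E) inferInstance hE h0
        rw [h.dim E hE h0] at this
        exact ⟨hE, by exact_mod_cast this.le⟩
    refine ⟨hok, fun F ι hι hF h0 => ?_⟩
    rw [alphaL_Pl h, alpha_pos_iff h hF h0]
    have := hp1 F ι hι hF.1 h0
    rw [h.dim F hF.1 h0] at this
    exact_mod_cast this
  · rintro ⟨hok, hpure⟩
    refine ⟨fun F ι hι hF h0 => ?_, fun _ => hok.2⟩
    have hFok : ok hp d F := ⟨hF, (natDegree_le_of_mono h ι hF hE).trans hok.2⟩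
    have := hpure F ι hι hFok h0
    rw [alphaL_Pl h, alpha_pos_iff h hFok h0] at this
    rw [h.dim F hF h0, this]

lemma ok_of_isPure {E : X.Modules} (hE : Coh.IsCoh E) {d : ℕ} (hp1 : ShStab.IsPure X E d) : ok hp d E :=
  ((isPure_iff h hE 0 d).1 ⟨hp1, fun h0 => by rw [hp_zero h h0]; simp⟩).1

lemma apure_of_isPure {E : X.Modules} (hE : Coh.IsCoh E) {d : ℕ} (hp1 : ShStab.IsPure X E d) (ℓ : ℕ) :
    APure (ok hp d) (Pl hp ℓ d) (alphaL d) E :=
  ((isPure_iff h hE ℓ d).1 ⟨hp1, fun h0 => by rw [hp_zero h h0]; simp⟩).2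

/-- `ℓ`-semistability. -/
theorem isEllSemistable_iff {E : X.Modules} (ℓ d : ℕ) :
    ShStab.IsEllSemistable k X L E d ℓ ↔ ok hp d E ∧ ¬ IsZero E ∧
      APure (ok hp d) (Pl hp ℓ d) (alphaL d) E ∧ ASS (ok hp d) (Pl hp ℓ d) (alphaL d) E := by
  constructor
  · rintro ⟨hE, h0, hp1, hss⟩
    have hok := ok_of_isPure h hE hp1
    have hpure := apure_of_isPure h hE hp1 ℓ
    refine ⟨hok, h0, hpure, fun F ι hι hF hF0 => ?_⟩
    have h1 : 0 < alpha d (hp F) := by
      have := hpure F ι hι hF hF0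
      rwa [alphaL_Pl h] at this
    have hq := (setup h ℓ d).ok_coker ι hF hok
    have h2 := (setup h ℓ d).P_cokernel ι hF hok
    have h3 : alpha d (hp F) + alpha d (hp (cokernel ι)) = alpha d (hp E) := by
      have := congrArg (alphaL d) h2
      rw [map_sub, alphaL_Pl h, alphaL_Pl h, alphaL_Pl h] at this
      linarith
    have h4 := alpha_nonneg h hq
    rcases h4.lt_or_eq with h5 | h5
    · have := hss F ι hι hF.1 (hp F) (hp E) (h.spec F hF.1) (h.spec E hE) h1 (by linarith)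
      exact redle_iff.2 this
    · -- rank of the cokernel is zero
      have h6 : 0 ≤ Pl hp ℓ d (cokernel ι) := (setup h ℓ d).nonneg _ hq (by rw [alphaL_Pl h]; exact h5.symm)
      rw [h2, sub_nonneg] at h6
      exact redle_of_le (by rw [alphaL_Pl h, alphaL_Pl h]; linarith) (by rw [alphaL_Pl h]; exact h1.le) h6
  · rintro ⟨hok, h0, hpure, hss⟩
    refine ⟨hok.1, h0, ((isPure_iff h hok.1 ℓ d).2 ⟨hok, hpure⟩).1, ?_⟩
    intro F ι hι hF pF pE hpF hpE h1 h2
    obtain rfl := h.unique hF hpF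
    obtain rfl := h.unique hok.1 hpE
    have hFok : ok hp d F := ⟨hF, (natDegree_le_of_mono h ι hF hok.1).trans hok.2⟩
    have hF0 : ¬ IsZero F := fun hz => by
      rw [hp_zero h hz] at h1
      simp [alpha] at h1
    exact redle_iff.1 (hss F ι hι hFok hF0)

/-- Slope semistability of pure sheaves is `1`-semistability. -/
theorem isMuSemistable_iff {E : X.Modules} (d : ℕ) (hd : 1 ≤ d) :
    ShStab.IsPure X E d ∧ ShStab.IsMuSemistable k X L E d ↔ ShStab.IsEllSemistable k X L E d 1 := by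
  constructor
  · rintro ⟨hp1, hE, h0, hdim, -, hss⟩
    refine ⟨hE, h0, hp1, ?_⟩
    intro F ι hι hF pF pE hpF hpE h1 h2
    rw [redLE_topPart_one_iff hd h1 (h1.trans h2)]
    exact hss F ι hι hF pF pE hpF hpE h1 h2
  · rintro ⟨hE, h0, hp1, hss⟩
    refine ⟨hp1, hE, h0, hp1 E (𝟙 E) inferInstance hE h0, ?_, ?_⟩
    · intro F ι hι hF heq
      by_cases hF0 : IsZero F
      · have h1 : IsEmpty (CohB1.support F) :=
          ⟨fun x => x.2 (Groth.Agent.Dcoh.StalkMod.subsingleton_of_isZero hF0 x.1)⟩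
        rw [topologicalKrullDim_eq_bot] at heq
        simp at heq
      · rw [hp1 F ι hι hF hF0] at heq
        have : d + 1 = d := by exact_mod_cast heq
        omega
    · intro F ι hι hF pF pE hpF hpE h1 h2
      rw [← redLE_topPart_one_iff hd h1 (h1.trans h2)]
      exact hss F ι hι hF pF pE hpF hpE h1 h2

end

end K849.Inst
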