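import Groth.Agent.ShStab.K849.LatHN

/-!
# Existence of the maximal destabilising element, existence and uniqueness of HN chains, in a lattice
-/

set_option autoImplicit false
set_option linter.unusedSectionVars false

namespace K849.LatHN

section Defs

variable {L : Type*} [Preorder L] {V : Type*} [AddCommGroup V] [LinearOrder V] [Module ℚ V]

/-- Purity of an interval. -/
def PureInt (P : L → V) (α : V →ₗ[ℚ] ℚ) (a b : L) : Prop := ∀ c, a < c → c ≤ b → 0 < α (P c - P a)

/-- Semistability of an interval. -/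
def SSInt (P : L → V) (α : V →ₗ[ℚ] ℚ) (a b : L) : Prop :=
  ∀ c, a < c → c ≤ b → redle α (P c - P a) (P b - P a)

/-- The condition of strict decrease for consecutive steps `a < b < c`. -/
def Dec (P : L → V) (α : V →ₗ[ℚ] ℚ) (a b c : L) : Prop := redlt α (P c - P b) (P b - P a)

/-- `s` is a Harder–Narasimhan chain. -/
def IsHN (P : L → V) (α : V →ₗ[ℚ] ℚ) (s : LTSeries L) : Prop :=
  Good (fun a b => PureInt P α a b ∧ SSInt P α a b) (Dec P α) s

end Defs

variable {L : Type*} [Lattice L] {V : Type*} [AddCommGroup V] [LinearOrder V] [IsOrderedAddMonoid V]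
  [Module ℚ V] [PosSMulStrictMono ℚ V]

/-- A modular valuation with values in an ordered vector space. -/
structure IsVal (P : L → V) (α : V →ₗ[ℚ] ℚ) : Prop where
  val : ∀ a b, P (a ⊔ b) + P (a ⊓ b) = P a + P b
  nat : ∀ a b, a ≤ b → ∃ n : ℕ, α (P b - P a) = n
  nonneg : ∀ a b, a ≤ b → α (P b - P a) = 0 → 0 ≤ P b - P a

variable {P : L → V} {α : V →ₗ[ℚ] ℚ}


namespace IsVal

lemma alpha_nonneg (h : IsVal P α) {a b : L} (hab : a ≤ b) : 0 ≤ α (P b - P a) := by
  obtain ⟨n, hn⟩ := h.nat a b hab
  rw [hn]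
  exact Nat.cast_nonneg n

/-- `m` is `≼`-maximal above `a`. -/
def MaxRel (P : L → V) (α : V →ₗ[ℚ] ℚ) (a m : L) : Prop :=
  a < m ∧ ∀ c, m < c → redlt α (P c - P a) (P m - P a)

lemma exists_maxRel [WellFoundedGT L] (_ : IsVal P α) {a : L} (hp : ∀ c, a < c → 0 < α (P c - P a)) (c : L)
    (hc : a < c) : ∃ m, c ≤ m ∧ MaxRel P α a m ∧ redle α (P c - P a) (P m - P a) := by
  induction c using WellFoundedGT.induction with
  | ind c ih =>
    by_cases hm : MaxRel P α a c
    · exact ⟨c, le_rfl, hm, redle_refl _⟩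
    · simp only [MaxRel, not_and, not_forall] at hm
      obtain ⟨c', hcc', h2⟩ := hm hc
      rw [not_redlt] at h2
      obtain ⟨m, h3, h4, h5⟩ := ih c' hcc' (hc.trans hcc')
      exact ⟨m, hcc'.le.trans h3, h4, redle_trans (hp _ (hc.trans hcc')) (hp _ hc).le (hp _ h4.1).le h2 h5⟩

/-- Key step: if `m` is `≼`-maximal above `a` and `b` is not below `m` with slope at least that of `m`,
then `m ⊓ b` has strictly larger slope than `b`. -/
lemma key (h : IsVal P α) {a : L} (hp : ∀ c, a < c → 0 < α (P c - P a)) {m b : L}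
    (hm : MaxRel P α a m) (hb : a < b) (hbm : ¬ b ≤ m) (hr : redle α (P m - P a) (P b - P a)) :
    a < m ⊓ b ∧ redlt α (P b - P a) (P (m ⊓ b) - P a) := by
  have h1 : m < m ⊔ b := lt_of_le_of_ne le_sup_left (fun he => hbm (he ▸ le_sup_right))
  have h2 := hm.2 _ h1
  have hle : a ≤ m ⊓ b := le_inf hm.1.le hb.le
  have hu : 0 < α (P m - P a) := hp _ hm.1
  have hv : 0 < α (P b - P a) := hp _ hb
  -- y = P (m ⊔ b) - P m = P b - P (m ⊓ b)
  have hy : P (m ⊔ b) - P m = P b - P (m ⊓ b) := by
    have := h.val m b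
    rw [sub_eq_sub_iff_add_eq_add, this]
    abel
  have hy0 : 0 ≤ α (P (m ⊔ b) - P m) := h.alpha_nonneg le_sup_left
  have e1 : P (m ⊔ b) - P a = (P m - P a) + (P (m ⊔ b) - P m) := by abel
  rw [e1, redlt_add_left_iff'] at h2
  have h3 : redlt α (P (m ⊔ b) - P m) (P b - P a) := redlt_of_redlt_of_redle hu hy0 hv h2 hr
  rw [hy] at h3
  have e2 : P b - P a = (P (m ⊓ b) - P a) + (P b - P (m ⊓ b)) := by abel
  have h4 : redlt α (P b - P (m ⊓ b)) (P (m ⊓ b) - P a) := by
    have h3' := h3
    rw [e2, redlt_add_right_iff'] at h3'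
    exact h3'
  refine ⟨?_, ?_⟩
  · rcases hle.eq_or_lt with h0 | h0
    · exfalso
      rw [← h0] at h3
      exact lt_irrefl _ h3
    · exact h0
  · rw [e2, redlt_add_left_iff']
    exact h4

/-- Existence of the maximal destabilising element above `a`. -/
theorem exists_maxDestab [WellFoundedGT L] (h : IsVal P α) {a : L}
    (hp : ∀ c, a < c → 0 < α (P c - P a)) (hne : ∃ c, a < c) :
    ∃ m, a < m ∧ (∀ b, a < b → redle α (P b - P a) (P m - P a)) ∧
      (∀ b, a < b → redle α (P m - P a) (P b - P a) → b ≤ m) := by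
  classical
  obtain ⟨c₀, hc₀⟩ := hne
  -- choose a ≼-maximal element of minimal rank
  have hex : ∃ n : ℕ, ∃ m, MaxRel P α a m ∧ α (P m - P a) = n := by
    obtain ⟨m, _, hm, _⟩ := h.exists_maxRel hp c₀ hc₀
    obtain ⟨n, hn⟩ := h.nat a m hm.1.le
    exact ⟨n, m, hm, hn⟩
  obtain ⟨m, hm, hmn⟩ := Nat.find_spec hex
  have hmin : ∀ m', MaxRel P α a m' → α (P m - P a) ≤ α (P m' - P a) := by
    intro m' hm'
    obtain ⟨n, hn⟩ := h.nat a m' hm'.1.le
    rw [hmn, hn]
    exact_mod_cast Nat.find_min' hex ⟨m', hm', hn⟩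
  have hu : 0 < α (P m - P a) := hp _ hm.1
  have step3 : ∀ b, a < b → redle α (P b - P a) (P m - P a) := by
    by_contra hcon
    push Not at hcon
    obtain ⟨b, hb, hbr⟩ := hcon
    rw [not_redle] at hbr
    -- there is a bad element below `m`
    have hS : ∃ b, a < b ∧ b ≤ m ∧ redlt α (P m - P a) (P b - P a) := by
      by_cases hbm : b ≤ m
      · exact ⟨b, hb, hbm, hbr⟩
      · obtain ⟨k1, k2⟩ := h.key hp hm hb hbm hbr.redle
        exact ⟨m ⊓ b, k1, inf_le_left, redlt_of_redle_of_redlt (hp _ hb) hu (hp _ k1).le hbr.redle k2⟩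
    -- choose one which is maximal
    obtain ⟨b₁, ⟨hb₁, hb₁m, hb₁r⟩, hb₁max⟩ := wellFounded_gt.has_min
      {b | a < b ∧ b ≤ m ∧ redlt α (P m - P a) (P b - P a)} hS
    obtain ⟨b', hbb', hb'max, hb'r⟩ := h.exists_maxRel hp b₁ hb₁
    have hab' : a < b' := hb'max.1
    have hmb' : redlt α (P m - P a) (P b' - P a) :=
      redlt_of_redlt_of_redle (hp _ hb₁) hu.le (hp _ hab') hb₁r hb'r
    have hb'm : ¬ b' ≤ m := by
      intro hle
      have h1 : α (P m - P a) ≤ α (P b' - P a) := hmin b' hb'max
      have h2 : 0 ≤ α (P m - P b') := h.alpha_nonneg hle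
      have h3 : α (P m - P a) = α (P b' - P a) + α (P m - P b') := by
        rw [← map_add]
        congr 1
        abel
      have h4 : α (P m - P b') = 0 := by linarith
      have h5 := h.nonneg _ _ hle h4
      have h6 : redle α (P b' - P a) (P m - P a) := by
        apply redle_of_le (by linarith) (hp _ hab').le
        have : P m - P a = (P b' - P a) + (P m - P b') := by abel
        rw [this]
        exact le_add_of_nonneg_right h5
      exact not_le.2 hmb' h6
    obtain ⟨k1, k2⟩ := h.key hp hm hab' hb'm hmb'.redle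
    have k3 : redlt α (P b₁ - P a) (P (m ⊓ b') - P a) :=
      redlt_of_redle_of_redlt (hp _ hab') (hp _ hb₁) (hp _ k1).le hb'r k2
    have k4 : b₁ ≤ m ⊓ b' := le_inf hb₁m hbb'
    have k5 : b₁ < m ⊓ b' := lt_of_le_of_ne k4 (fun he => by rw [← he] at k3; exact lt_irrefl _ k3)
    refine hb₁max (m ⊓ b') ⟨k1, inf_le_left, ?_⟩ k5
    exact redlt_of_redlt_of_redle (hp _ hb₁) hu.le (hp _ k1) hb₁r k3.redle
  refine ⟨m, hm.1, step3, fun b hb hr => ?_⟩
  by_contra hbm
  obtain ⟨k1, k2⟩ := h.key hp hm hb hbm hr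
  have := step3 _ k1
  exact not_le.2 (redlt_of_redle_of_redlt (hp _ hb) hu (hp _ k1).le hr k2) this

end IsVal


variable [OrderTop L]

/-- Existence of Harder–Narasimhan chains; the first step is the maximal destabilising element. -/
theorem exists_isHN [WellFoundedGT L] (h : IsVal P α) (a : L) (hp : ∀ c, a < c → 0 < α (P c - P a)) :
    ∃ s : LTSeries L, s.head = a ∧ s.last = ⊤ ∧ IsHN P α s ∧
      ∀ h0 : 0 < s.length, (∀ b, a < b → redle α (P b - P a) (P (s ⟨1, by omega⟩) - P a)) ∧
        (∀ b, a < b → redle α (P (s ⟨1, by omega⟩) - P a) (P b - P a) → b ≤ s ⟨1, by omega⟩) := by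
  induction a using WellFoundedGT.induction with
  | ind a ih =>
    by_cases hne : ∃ c, a < c
    · obtain ⟨m, hm, hm1, hm2⟩ := h.exists_maxDestab hp hne
      have hu := hp _ hm
      have hpm : ∀ c, m < c → 0 < α (P c - P m) := by
        intro c hc
        rcases (h.alpha_nonneg hc.le).eq_or_lt with h0 | h0
        · exfalso
          have h1 := h.nonneg _ _ hc.le h0.symm
          have : redle α (P m - P a) (P c - P a) := by
            have e : P c - P a = (P m - P a) + (P c - P m) := by abel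
            rw [e]
            exact redle_add_of_alpha_eq_zero hu.le h0.symm h1
          exact absurd (hm2 c (hm.trans hc) this) (not_le_of_gt hc)
        · exact h0
      obtain ⟨t, ht1, ht2, ht3, ht4⟩ := ih m hm hpm
      subst ht1
      refine ⟨t.cons a hm, RelSeries.head_cons t a hm, ?_, ?_, ?_⟩
      · rw [RelSeries.last_cons t a hm, ht2]
      · unfold IsHN
        rw [good_cons]
        refine ⟨ht3, ⟨fun c hc _ => hp c hc, fun c hc _ => hm1 c hc⟩, fun h0 => ?_⟩
        · unfold Dec
          rw [← not_redle]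
          intro hle
          have hlt : t.head < t ⟨1, by omega⟩ := t.strictMono (by simp [Fin.lt_def])
          have : redle α (P t.head - P a) (P (t ⟨1, by omega⟩) - P a) := by
            have e : P (t ⟨1, by omega⟩) - P a = (P t.head - P a) + (P (t ⟨1, by omega⟩) - P t.head) := by abel
            rw [e, redle_add_right_iff]
            exact hle
          exact absurd (hm2 _ (hm.trans hlt) this) (not_le_of_gt hlt)
      · intro h0
        have hl := cons_length t a hm
        have e : (t.cons a hm) ⟨1, by omega⟩ = t.head := cons_succ t a hm 0 (by omega)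
        rw [e]
        exact ⟨hm1, hm2⟩
    · have ha : a = ⊤ := by
        by_contra hne'
        exact hne ⟨⊤, lt_top_iff_ne_top.2 hne'⟩
      subst ha
      refine ⟨RelSeries.singleton _ ⊤, RelSeries.head_singleton _, RelSeries.last_singleton _,
        ⟨fun i => i.elim0, fun i => i.elim0⟩, fun h0 => absurd h0 (by simp)⟩

section

omit [OrderTop L]

/-- In an HN chain, every element `b` with positive slope data is controlled by the first factor: slopes of
semistable intervals mapping nontrivially. -/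
lemma dec_le {s : LTSeries L} (hs : IsHN P α s) (i : ℕ) (hi : i < s.length) :
    redle α (P (s ⟨i + 1, by omega⟩) - P (s ⟨i, by omega⟩)) (P (s ⟨1, by omega⟩) - P (s ⟨0, by omega⟩)) := by
  have hpos : ∀ (j : ℕ) (hj : j < s.length),
      0 < α (P (s ⟨j + 1, by omega⟩) - P (s ⟨j, by omega⟩)) := fun j hj =>
    (hs.1 ⟨j, hj⟩).1 _ (s.strictMono (by simp [Fin.lt_def])) le_rfl
  induction i with
  | zero => exact redle_refl _
  | succ i ih =>
    have h1 := ih (by omega) hpos
    have h2 : redlt α (P (s ⟨i + 1 + 1, by omega⟩) - P (s ⟨i + 1, by omega⟩))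
        (P (s ⟨i + 1, by omega⟩) - P (s ⟨i, by omega⟩)) := hs.2 ⟨i, by omega⟩ ⟨i + 1, by omega⟩ rfl
    exact redle_trans (hpos i (by omega)) (hpos (i + 1) (by omega)).le (hpos 0 (by omega)).le h2.redle h1

lemma dec_lt {s : LTSeries L} (hs : IsHN P α s) (i : ℕ) (hi : i < s.length) (hi0 : 0 < i) :
    redlt α (P (s ⟨i + 1, by omega⟩) - P (s ⟨i, by omega⟩)) (P (s ⟨1, by omega⟩) - P (s ⟨0, by omega⟩)) := by
  have hpos : ∀ (j : ℕ) (hj : j < s.length),
      0 < α (P (s ⟨j + 1, by omega⟩) - P (s ⟨j, by omega⟩)) := fun j hj =>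
    (hs.1 ⟨j, hj⟩).1 _ (s.strictMono (by simp [Fin.lt_def])) le_rfl
  obtain ⟨i, rfl⟩ : ∃ j, i = j + 1 := ⟨i - 1, by omega⟩
  have h2 : redlt α (P (s ⟨i + 1 + 1, by omega⟩) - P (s ⟨i + 1, by omega⟩))
        (P (s ⟨i + 1, by omega⟩) - P (s ⟨i, by omega⟩)) := hs.2 ⟨i, by omega⟩ ⟨i + 1, by omega⟩ rfl
  exact redlt_of_redlt_of_redle (hpos i (by omega)) (hpos (i + 1) (by omega)).le (hpos 0 (by omega)) h2
    (dec_le hs i (by omega))

end

/-- Let `[a, b]` be semistable (all lower slopes bounded by that of `[a, b]`) with `a < b`, and let `s` be an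
HN chain from `a` to `⊤`.  Then `slope [a, b] ≤ slope [s 0, s 1]`, and if equality then `b ≤ s 1`. -/
lemma le_first (h : IsVal P α) {a b : L} (hab : a < b) (hss : SSInt P α a b) (hpab : PureInt P α a b)
    {s : LTSeries L} (hs0 : s.head = a) (hs1 : s.last = ⊤) (hs : IsHN P α s) (h0 : 0 < s.length) :
    redle α (P b - P a) (P (s ⟨1, by omega⟩) - P a) ∧
      (redle α (P (s ⟨1, by omega⟩) - P a) (P b - P a) → b ≤ s ⟨1, by omega⟩) := by
  classical
  have hpos : ∀ (j : ℕ) (hj : j < s.length),
      0 < α (P (s ⟨j + 1, by omega⟩) - P (s ⟨j, by omega⟩)) := fun j hj =>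
    (hs.1 ⟨j, hj⟩).1 _ (s.strictMono (by simp [Fin.lt_def])) le_rfl
  have hex : ∃ j : ℕ, ∃ hj : j < s.length + 1, b ≤ s ⟨j, hj⟩ :=
    ⟨s.length, by omega, by
      have : s ⟨s.length, by omega⟩ = s.last := rfl
      rw [this, hs1]
      exact le_top⟩
  obtain ⟨hj, hbj⟩ := Nat.find_spec hex
  set j := Nat.find hex with hjdef
  have hj0 : j ≠ 0 := by
    intro h00
    have : s ⟨j, hj⟩ = a := by
      rw [← hs0]
      simp only [h00]
      rfl
    rw [this] at hbj
    exact not_le_of_gt hab hbj
  obtain ⟨i, hi⟩ : ∃ i, j = i + 1 := ⟨j - 1, by omega⟩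
  have hij : i < s.length := by omega
  have hbi : ¬ b ≤ s ⟨i, by omega⟩ := fun hle => Nat.find_min hex (m := i) (by omega) ⟨by omega, hle⟩
  have hbj' : b ≤ s ⟨i + 1, by omega⟩ := by
    have e : (⟨j, hj⟩ : Fin (s.length + 1)) = ⟨i + 1, by omega⟩ := Fin.ext hi
    rw [e] at hbj
    exact hbj
  -- compare
  have hle : a ≤ s ⟨i, by omega⟩ := by
    rw [← hs0]
    exact s.monotone (by simp [Fin.le_def])
  set c := s ⟨i, by omega⟩ with hc
  set e := s ⟨i + 1, by omega⟩ with he
  have hce : c < e := s.strictMono (by simp [Fin.lt_def])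
  have hlt : c < c ⊔ b := lt_of_le_of_ne le_sup_left (fun hh => hbi (hh ▸ le_sup_right))
  have hsup : c ⊔ b ≤ e := sup_le hce.le hbj'
  have hval : P (c ⊔ b) - P c = P b - P (c ⊓ b) := by
    have := h.val c b
    rw [sub_eq_sub_iff_add_eq_add, this]
    abel
  have h1 : redle α (P (c ⊔ b) - P c) (P e - P c) := (hs.1 ⟨i, hij⟩).2 _ hlt hsup
  have h1p : 0 < α (P (c ⊔ b) - P c) := (hs.1 ⟨i, hij⟩).1 _ hlt hsup
  have h2 : redle α (P b - P a) (P b - P (c ⊓ b)) := by
    have hle' : a ≤ c ⊓ b := le_inf hle hab.le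
    rcases hle'.eq_or_lt with h3 | h3
    · rw [← h3]
      exact redle_refl _
    · have h4 := hss _ h3 inf_le_right
      have e2 : P b - P a = (P (c ⊓ b) - P a) + (P b - P (c ⊓ b)) := by abel
      rw [e2] at h4 ⊢
      rw [redle_add_right_iff] at h4
      rw [redle_add_left_iff]
      exact h4
  have hbpos : 0 < α (P b - P a) := hpab _ hab le_rfl
  rw [← hval] at h2
  have h3 : redle α (P b - P a) (P e - P c) := redle_trans h1p hbpos.le (hpos i hij).le h2 h1
  have hs00 : s ⟨0, by omega⟩ = a := hs0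
  have h4 : redle α (P e - P c) (P (s ⟨1, by omega⟩) - P a) := by
    have := dec_le hs i hij
    rw [hs00] at this
    exact this
  have h5 : redle α (P b - P a) (P (s ⟨1, by omega⟩) - P a) := by
    have hq := hpos 0 (by omega)
    rw [hs00] at hq
    exact redle_trans (hpos i hij) hbpos.le hq.le h3 h4
  refine ⟨h5, fun h6 => ?_⟩
  rcases Nat.eq_zero_or_pos i with h7 | h7
  · subst h7
    exact hbj'
  · exfalso
    have h8 := dec_lt hs i hij h7
    rw [hs00] at h8
    have h9 : redlt α (P e - P c) (P b - P a) := by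
      have hq := hpos 0 (by omega)
      rw [hs00] at hq
      exact redlt_of_redlt_of_redle hq (hpos i hij).le hbpos h8 h6
    exact not_le.2 h9 h3

/-- Uniqueness of HN chains. -/
theorem isHN_unique (h : IsVal P α) (s t : LTSeries L) (h0 : s.head = t.head) (hs1 : s.last = ⊤)
    (ht1 : t.last = ⊤) (hs : IsHN P α s) (ht : IsHN P α t) : s = t := by
  induction s using RelSeries.inductionOn generalizing t with
  | singleton x =>
    rw [RelSeries.head_singleton] at h0
    rw [RelSeries.last_singleton] at hs1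
    subst hs1
    induction t using RelSeries.inductionOn with
    | singleton y =>
      rw [RelSeries.head_singleton] at h0
      rw [h0]
    | cons t y hx ih =>
      exfalso
      rw [RelSeries.head_cons] at h0
      change y < t.head at hx
      rw [← h0] at hx
      exact not_top_lt hx
  | cons s x hx ih =>
    induction t using RelSeries.inductionOn with
    | singleton y =>
      exfalso
      rw [RelSeries.last_singleton] at ht1
      rw [RelSeries.head_singleton, RelSeries.head_cons] at h0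
      change x < s.head at hx
      rw [h0, ht1] at hx
      exact not_top_lt hx
    | cons t y hy _ =>
      rw [RelSeries.head_cons, RelSeries.head_cons] at h0
      subst h0
      change x < s.head at hx
      change x < t.head at hy
      have hs' := hs
      have ht' := ht
      unfold IsHN at hs' ht'
      rw [good_cons] at hs' ht'
      have es : (s.cons x hx) ⟨1, by rw [cons_length]; omega⟩ = s.head :=
        cons_succ s x hx 0 (by rw [cons_length]; omega)
      have et : (t.cons x hy) ⟨1, by rw [cons_length]; omega⟩ = t.head :=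
        cons_succ t x hy 0 (by rw [cons_length]; omega)
      have k1 := le_first h hx hs'.2.1.2 hs'.2.1.1 (s := t.cons x hy) (RelSeries.head_cons _ _ _) ht1 ht
        (by rw [cons_length]; omega)
      have k2 := le_first h hy ht'.2.1.2 ht'.2.1.1 (s := s.cons x hx) (RelSeries.head_cons _ _ _) hs1 hs
        (by rw [cons_length]; omega)
      rw [et] at k1
      rw [es] at k2
      have e : s.head = t.head := le_antisymm (k1.2 k2.1) (k2.2 k1.1)
      have := ih t e (by rw [← RelSeries.last_cons s x hx]; exact hs1)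
        (by rw [← RelSeries.last_cons t x hy]; exact ht1) hs'.1 ht'.1
      subst this
      rfl

end K849.LatHN
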