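import Groth.Agent.ShStab.K849.LatHN2

/-!
# The last step of an HN chain (minimal destabilising quotient), in a lattice
-/

set_option autoImplicit false
set_option linter.unusedSectionVars false

namespace K849.LatHN

variable {L : Type*} [Lattice L] {V : Type*} [AddCommGroup V] [LinearOrder V] [IsOrderedAddMonoid V]
  [Module ℚ V] [PosSMulStrictMono ℚ V]
variable {P : L → V} {α : V →ₗ[ℚ] ℚ}

lemma redle_add {u x y : V} (hx : redle α u x) (hy : redle α u y) : redle α u (x + y) := by
  unfold redle at *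
  rw [map_add, add_smul, smul_add]
  exact add_le_add hx hy

lemma redlt_add {u x y : V} (hx : redlt α u x) (hy : redle α u y) : redlt α u (x + y) := by
  unfold redle redlt at *
  rw [map_add, add_smul, smul_add]
  exact add_lt_add_of_lt_of_le hx hy

lemma IsHN.pos {s : LTSeries L} (hs : IsHN P α s) (j : ℕ) (hj : j < s.length) :
    0 < α (P (s ⟨j + 1, by omega⟩) - P (s ⟨j, by omega⟩)) :=
  (hs.1 ⟨j, hj⟩).1 _ (s.strictMono (by simp [Fin.lt_def])) le_rfl

/-- Slopes decrease along the chain: comparison of step `j` with a later step `i`. -/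
lemma IsHN.redle_of_le {s : LTSeries L} (hs : IsHN P α s) (j i : ℕ) (hji : j ≤ i) (hi : i < s.length) :
    redle α (P (s ⟨i + 1, by omega⟩) - P (s ⟨i, by omega⟩))
      (P (s ⟨j + 1, by omega⟩) - P (s ⟨j, by omega⟩)) := by
  obtain ⟨k, rfl⟩ := Nat.exists_eq_add_of_le hji
  induction k with
  | zero => exact redle_refl _
  | succ k ih =>
    have h1 := ih (by omega) (by omega)
    have h2 : redlt α (P (s ⟨j + k + 1 + 1, by omega⟩) - P (s ⟨j + k + 1, by omega⟩))
        (P (s ⟨j + k + 1, by omega⟩) - P (s ⟨j + k, by omega⟩)) :=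
      hs.2 ⟨j + k, by omega⟩ ⟨j + k + 1, by omega⟩ rfl
    exact redle_trans (hs.pos (j + k) (by omega)) (hs.pos (j + k + 1) (by omega)).le
      (hs.pos j (by omega)).le h2.redle h1

lemma IsHN.redlt_of_lt {s : LTSeries L} (hs : IsHN P α s) (j i : ℕ) (hji : j < i) (hi : i < s.length) :
    redlt α (P (s ⟨i + 1, by omega⟩) - P (s ⟨i, by omega⟩))
      (P (s ⟨j + 1, by omega⟩) - P (s ⟨j, by omega⟩)) := by
  have h2 : redlt α (P (s ⟨j + 1 + 1, by omega⟩) - P (s ⟨j + 1, by omega⟩))
        (P (s ⟨j + 1, by omega⟩) - P (s ⟨j, by omega⟩)) := hs.2 ⟨j, by omega⟩ ⟨j + 1, by omega⟩ rfl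
  have h1 := hs.redle_of_le (j + 1) i hji hi
  exact redlt_of_redle_of_redlt (hs.pos (j + 1) (by omega)) (hs.pos i hi) (hs.pos j (by omega)).le h1 h2

/-- Quotients of a semistable interval `[a, b]`: for `c ≥ a`, `(b ⊔ c) / c` has slope at least that of
`[a, b]` (or rank zero and nonnegative value). -/
lemma redle_sup (h : IsVal P α) {a b c : L} (hab : a ≤ b) (hss : SSInt P α a b) (hac : a ≤ c) :
    redle α (P b - P a) (P (b ⊔ c) - P c) := by
  have hval : P (b ⊔ c) - P c = P b - P (b ⊓ c) := by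
    have := h.val b c
    rw [sub_eq_sub_iff_add_eq_add, this]
  rw [hval]
  have hle : a ≤ b ⊓ c := le_inf hab hac
  rcases hle.eq_or_lt with h3 | h3
  · rw [← h3]
    exact redle_refl _
  · have h4 := hss _ h3 inf_le_left
    have e2 : P b - P a = (P (b ⊓ c) - P a) + (P b - P (b ⊓ c)) := by abel
    rw [e2] at h4 ⊢
    rw [redle_add_right_iff] at h4
    rw [redle_add_left_iff]
    exact h4

/-- If `slope u ≤ slope v` with `v` of positive rank and `slope v ≤ slope x` then `slope u ≤ slope x`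
(here `x` may have rank zero). -/
lemma redle_trans' {u v x : V} (hv : 0 < α v) (hu : 0 ≤ α u) (hx : 0 ≤ α x) (h : redle α u v)
    (h' : redle α v x) : redle α u x := redle_trans hv hu hx h h'

variable [OrderTop L]

/-- All quotients of `[s 0, ⊤]` have slope at least that of the last step. -/
theorem redle_last (h : IsVal P α) {s : LTSeries L} (hs1 : s.last = ⊤) (hs : IsHN P α s)
    (k : ℕ) (hk : k < s.length) (j : ℕ) (hj : k + j = s.length) (c : L)
    (hc : s ⟨k, by omega⟩ ≤ c) :
    redle α (P ⊤ - P (s ⟨s.length - 1, by omega⟩)) (P ⊤ - P c) := by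
  have hlen : s.length - 1 + 1 = s.length := by omega
  have htop : s ⟨s.length - 1 + 1, by omega⟩ = ⊤ := by
    rw [← hs1]
    congr 1
    exact Fin.ext hlen
  have hu : 0 < α (P ⊤ - P (s ⟨s.length - 1, by omega⟩)) := by
    have := hs.pos (s.length - 1) (by omega)
    rwa [htop] at this
  induction j generalizing k c with
  | zero => omega
  | succ j ih =>
    -- first step `[s k, s (k+1)]`
    have h1 : redle α (P (s ⟨k + 1, by omega⟩) - P (s ⟨k, by omega⟩)) (P (s ⟨k + 1, by omega⟩ ⊔ c) - P c) :=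
      redle_sup h (s.monotone (by simp)) (hs.1 ⟨k, by omega⟩).2 hc
    have h2 := hs.redle_of_le k (s.length - 1) (by omega) (by omega)
    rw [htop] at h2
    have h3 := redle_trans' (hs.pos k (by omega)) hu.le (h.alpha_nonneg le_sup_right) h2 h1
    rcases Nat.eq_zero_or_pos j with hj0 | hj0
    · subst hj0
      have e : s ⟨k + 1, by omega⟩ = ⊤ := by
        rw [← hs1]
        congr 1
        exact Fin.ext hj
      rw [e, top_sup_eq] at h3
      exact h3
    · have h4 := ih (k + 1) (by omega) (by omega) (s ⟨k + 1, by omega⟩ ⊔ c) le_sup_left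
      have e : P ⊤ - P c = (P (s ⟨k + 1, by omega⟩ ⊔ c) - P c) + (P ⊤ - P (s ⟨k + 1, by omega⟩ ⊔ c)) := by
        abel
      rw [e]
      exact redle_add h3 (h4 htop hu)

/-- If `[g, ⊤]` is pure of slope at most that of the last step, then the penultimate term is below `g`. -/
theorem penult_le (h : IsVal P α) {s : LTSeries L} (hs1 : s.last = ⊤) (hs : IsHN P α s)
    (hlen : 0 < s.length) (g : L) (hg : s.head ≤ g) (hp : PureInt P α g ⊤)
    (hr : redle α (P ⊤ - P g) (P ⊤ - P (s ⟨s.length - 1, by omega⟩))) :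
    s ⟨s.length - 1, by omega⟩ ≤ g := by
  have htop : s ⟨s.length - 1 + 1, by omega⟩ = ⊤ := by
    rw [← hs1]
    congr 1
    exact Fin.ext (by simp; omega)
  have hu : 0 < α (P ⊤ - P (s ⟨s.length - 1, by omega⟩)) := by
    have := hs.pos (s.length - 1) (by omega)
    rwa [htop] at this
  have key : ∀ (k : ℕ) (hk : k < s.length), s ⟨k, by omega⟩ ≤ g := by
    intro k
    induction k with
    | zero => exact fun _ => hg
    | succ k ih =>
      intro hk
      have h0 := ih (by omega)
      by_contra hcon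
      have hlt : g < s ⟨k + 1, by omega⟩ ⊔ g :=
        lt_of_le_of_ne le_sup_right (fun hh => hcon (hh ▸ le_sup_left))
      have h1 : redle α (P (s ⟨k + 1, by omega⟩) - P (s ⟨k, by omega⟩)) (P (s ⟨k + 1, by omega⟩ ⊔ g) - P g) :=
        redle_sup h (s.monotone (by simp)) (hs.1 ⟨k, by omega⟩).2 h0
      have h2 := hs.redlt_of_lt k (s.length - 1) (by omega) (by omega)
      rw [htop] at h2
      have hpos : 0 < α (P (s ⟨k + 1, by omega⟩ ⊔ g) - P g) := hp _ hlt le_top
      have h3 : redlt α (P ⊤ - P (s ⟨s.length - 1, by omega⟩)) (P (s ⟨k + 1, by omega⟩ ⊔ g) - P g) :=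
        redlt_of_redlt_of_redle (hs.pos k (by omega)) hu.le hpos h2 h1
      have h4 := redle_last h hs1 hs (k + 1) hk (s.length - (k + 1)) (by omega)
        (s ⟨k + 1, by omega⟩ ⊔ g) le_sup_left
      have h5 := redlt_add h3 h4
      have e : P ⊤ - P g = (P (s ⟨k + 1, by omega⟩ ⊔ g) - P g) + (P ⊤ - P (s ⟨k + 1, by omega⟩ ⊔ g)) := by
        abel
      rw [← e] at h5
      exact not_le.2 h5 hr
  exact key _ (by omega)

/-- Uniqueness of the minimal destabilising quotient. -/
theorem penult_eq (h : IsVal P α) {s : LTSeries L} (hs1 : s.last = ⊤) (hs : IsHN P α s)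
    (hlen : 0 < s.length) (g : L) (hg : s.head ≤ g) (hp : PureInt P α g ⊤)
    (hα : α (P ⊤ - P (s ⟨s.length - 1, by omega⟩)) ≤ α (P ⊤ - P g))
    (hr : redle α (P ⊤ - P g) (P ⊤ - P (s ⟨s.length - 1, by omega⟩))) :
    s ⟨s.length - 1, by omega⟩ = g := by
  have h1 := penult_le h hs1 hs hlen g hg hp hr
  rcases h1.eq_or_lt with h2 | h2
  · exact h2
  · exfalso
    have htop : s ⟨s.length - 1 + 1, by omega⟩ = ⊤ := by
      rw [← hs1]
      congr 1
      exact Fin.ext (by simp; omega)
    have h3 := (hs.1 ⟨s.length - 1, by omega⟩).1 g h2 (by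
      have : (s.toFun (Fin.succ ⟨s.length - 1, by omega⟩)) = ⊤ := htop
      rw [this]
      exact le_top)
    have h4 : 0 < α (P g - P (s ⟨s.length - 1, by omega⟩)) := h3
    have h5 : α (P ⊤ - P (s ⟨s.length - 1, by omega⟩)) =
        α (P g - P (s ⟨s.length - 1, by omega⟩)) + α (P ⊤ - P g) := by
      rw [← map_add]
      congr 1
      abel
    linarith

end K849.LatHN
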